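import Mathlib
import Cfsg.Agent.Lib.Maximal.UnSimFour
import Cfsg.Agent.Lib.UnMono.Basic

/-!
Tools for `SU₄(q)`: elements prescribed on frames, perpendicular vectors, and full points.
-/

set_option autoImplicit false
set_option linter.unusedSectionVars false
set_option linter.unusedSimpArgs false
set_option maxHeartbeats 400000

namespace CfsgLib.Maximal.SUFour

open scoped Matrix
open CfsgLib.UnMono (Ctx)

variable {F : Type*} [Field F] [Fintype F] {q : ℕ} {τ : F ≃+* F}

local notation "VV" => (Fin 4 → F)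
local notation "hh" => Cfsg.hermForm 4 F q
local notation "MM" => Matrix (Fin 4) (Fin 4) F
local notation "GG" => Matrix.GeneralLinearGroup (Fin 4) F

variable (K : Ctx 4 q τ)
include K

lemma hh_add_left (a b v : VV) : hh (a + b) v = hh a v + hh b v := K.form.add_left a b v

lemma hh_smul_left (c : F) (a v : VV) : hh (c • a) v = c * hh a v := K.form.smul_left c a v

lemma hh_add_right (v a b : VV) : hh v (a + b) = hh v a + hh v b := un_add_right K.form v a b

lemma hh_smul_right (c : F) (v a : VV) : hh v (c • a) = τ c * hh v a := un_smul_right K.form c v a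

lemma hh_sub_left (a b v : VV) : hh (a - b) v = hh a v - hh b v := by
  rw [sub_eq_add_neg, hh_add_left K, ← neg_one_smul F b, hh_smul_left K]; ring

lemma hh_fix (v : VV) : τ (hh v v) = hh v v := UnFour.fix_self K.form v

lemma hh_flip {u v : VV} (h : hh u v = 0) : hh v u = 0 := UnFour.rev_zero K.form h

lemma hh_flip_one {u v : VV} (h : hh u v = 1) : hh v u = 1 := UnFour.rev_one K.form h

lemma tau_ne_zero {x : F} (hx : x ≠ 0) : τ x ≠ 0 := fun h => hx (τ.injective (by rw [h, map_zero]))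

lemma norm_ne_zero {x : F} (hx : x ≠ 0) : x * τ x ≠ 0 := mul_ne_zero hx (tau_ne_zero K hx)

/-- Hilbert's ninetieth theorem for the involution. -/
lemma exists_ratio {δ : F} (hδ : δ * τ δ = 1) : ∃ l : F, l ≠ 0 ∧ τ l = δ * l := by
  obtain ⟨z, hz⟩ : ∃ z : F, z + τ δ * τ z ≠ 0 := by
    by_contra hcon
    push Not at hcon
    have h1 : τ δ = -1 := by
      have := hcon 1
      rw [map_one, mul_one] at this
      exact eq_neg_of_add_eq_zero_right this
    exact K.form.ne_refl (RingEquiv.ext fun z => by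
      show τ z = z
      have := hcon z
      rw [h1] at this
      linear_combination -this)
  refine ⟨_, hz, ?_⟩
  rw [map_add, map_mul, K.invol, K.invol]
  linear_combination (-τ z) * hδ

omit K in
/-- The matrix with the given columns. -/
def colMat (b : Fin 4 → VV) : MM := Matrix.of fun i j => b j i

omit K in
lemma colMat_mulVec (b : Fin 4 → VV) (j : Fin 4) : colMat b *ᵥ Pi.single j 1 = b j := by
  funext i; simp [colMat]

omit K in
lemma colMat_apply (b : Fin 4 → VV) (c : VV) : colMat b *ᵥ c = ∑ j, c j • b j := by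
  funext i; simp [colMat, Matrix.mulVec, dotProduct, mul_comm]

lemma hh_sum_left {κ : Type} (s : Finset κ) (u : κ → VV) (v : VV) : hh (∑ i ∈ s, u i) v = ∑ i ∈ s, hh (u i) v :=
  un_sum_left K.form s u v

/-- An element with prescribed values on a frame preserves the form. -/
lemma gu_of_frames {b b' : Fin 4 → VV} (hB : IsUnit (colMat b).det) (hgram : ∀ i j, hh (b' i) (b' j) = hh (b i) (b j))
    {g : GG} (hg : ∀ i, (g : MM) *ᵥ b i = b' i) : g ∈ Cfsg.GU 4 F q := by
  refine (mem_GU_iff g).2 fun u v => ?_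
  have hu : ∀ u : VV, ∃ c : VV, u = ∑ j, c j • b j := fun u => ⟨(colMat b)⁻¹ *ᵥ u, by
    rw [← colMat_apply, Matrix.mulVec_mulVec, Matrix.mul_nonsing_inv _ hB, Matrix.one_mulVec]⟩
  have hm : ∀ c : VV, (g : MM) *ᵥ (∑ j, c j • b j) = ∑ j, c j • b' j := fun c => by
    simp [Matrix.mulVec_sum, Matrix.mulVec_smul, hg]
  obtain ⟨c, rfl⟩ := hu u
  obtain ⟨d, rfl⟩ := hu v
  rw [hm, hm, hh_sum_left K, hh_sum_left K]
  refine Finset.sum_congr rfl fun i _ => ?_
  rw [hh_smul_left K, hh_smul_left K, K.form.herm, hh_sum_left K, K.form.herm (b i), hh_sum_left K]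
  congr 2
  refine Finset.sum_congr rfl fun j _ => ?_
  rw [hh_smul_left K, hh_smul_left K, hgram]

/-- A family with non-degenerate Gram matrix is a basis. -/
lemma det_ne_zero_of_gram {b b' : Fin 4 → VV} (hb : IsUnit (colMat b).det)
    (hgram : ∀ i j, hh (b' i) (b' j) = hh (b i) (b j)) : IsUnit (colMat b').det := by
  rw [isUnit_iff_ne_zero]
  intro h0
  obtain ⟨c, hc0, hc⟩ := Matrix.exists_mulVec_eq_zero_iff.2 h0
  rw [colMat_apply] at hc
  have h1 : ∀ j, hh (∑ i, c i • b i) (b j) = 0 := fun j => by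
    have h2 : hh (∑ i, c i • b' i) (b' j) = 0 := by rw [hc]; exact un_zero_left K.form _
    rw [hh_sum_left K] at h2 ⊢
    rw [← h2]
    exact Finset.sum_congr rfl fun i _ => by rw [hh_smul_left K, hh_smul_left K, hgram]
  have h3 : ∑ i, c i • b i = 0 := by
    by_contra hne
    obtain ⟨y, hy⟩ := (K.form.nondegenerate _ hne).2
    apply hy
    obtain ⟨d, rfl⟩ : ∃ d : VV, y = ∑ j, d j • b j := ⟨(colMat b)⁻¹ *ᵥ y, by
      rw [← colMat_apply, Matrix.mulVec_mulVec, Matrix.mul_nonsing_inv _ hb, Matrix.one_mulVec]⟩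
    rw [K.form.herm, hh_sum_left K, map_sum]
    refine Finset.sum_eq_zero fun j _ => ?_
    rw [hh_smul_left K, map_mul, ← K.form.herm, h1, mul_zero]
  rw [← colMat_apply] at h3
  apply hc0
  have := congrArg ((colMat b)⁻¹ *ᵥ ·) h3
  simpa [Matrix.mulVec_mulVec, Matrix.nonsing_inv_mul _ hb] using this

omit K in
lemma det_colMat_smul (b : Fin 4 → VV) (d : VV) : (colMat fun i => d i • b i).det = (∏ i, d i) * (colMat b).det := by
  have : (colMat fun i => d i • b i) = colMat b * Matrix.diagonal d := by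
    funext i j; simp [colMat, Matrix.mul_diagonal, mul_comm]
  rw [this, Matrix.det_mul, Matrix.det_diagonal, mul_comm]

/-- An element of `SU₄` prescribed on a frame, up to a scaling of one hyperbolic pair. -/
lemma exists_su_frames {b b' : Fin 4 → VV} (hb : IsUnit (colMat b).det)
    (hgram : ∀ i j, hh (b' i) (b' j) = hh (b i) (b j)) {i j : Fin 4} (hij : i ≠ j) (hii : hh (b i) (b i) = 0)
    (hjj : hh (b j) (b j) = 0) (hperp : ∀ l, l ≠ i → l ≠ j → hh (b i) (b l) = 0 ∧ hh (b j) (b l) = 0) :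
    ∃ g ∈ suGL 4 F q, (∀ l, l ≠ i → l ≠ j → (g : MM) *ᵥ b l = b' l) ∧
      ∃ x : F, x ≠ 0 ∧ (g : MM) *ᵥ b i = x • b' i ∧ (g : MM) *ᵥ b j = (τ x)⁻¹ • b' j := by
  classical
  have hb' := det_ne_zero_of_gram K hb hgram
  set δ : F := (colMat b').det / (colMat b).det with hδ
  have hδn : δ * τ δ = 1 := by
    let G : GG := Units.mk (colMat b' * (colMat b)⁻¹) (colMat b * (colMat b')⁻¹)
      (by rw [Matrix.mul_assoc, ← Matrix.mul_assoc ((colMat b)⁻¹), Matrix.nonsing_inv_mul _ hb, Matrix.one_mul,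
        Matrix.mul_nonsing_inv _ hb'])
      (by rw [Matrix.mul_assoc, ← Matrix.mul_assoc ((colMat b')⁻¹), Matrix.nonsing_inv_mul _ hb', Matrix.one_mul,
        Matrix.mul_nonsing_inv _ hb])
    have hG : G ∈ Cfsg.GU 4 F q := gu_of_frames K hb hgram fun l => by
      show (colMat b' * (colMat b)⁻¹) *ᵥ b l = b' l
      rw [← colMat_mulVec b l, Matrix.mulVec_mulVec, Matrix.mul_assoc, Matrix.nonsing_inv_mul _ hb, Matrix.mul_one,
        colMat_mulVec]
    have h1 : (G : MM)ᵀ * (G : MM).map τ = 1 := by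
      funext k l
      have h2 := (mem_GU_iff G).1 hG (Pi.single k 1) (Pi.single l 1)
      rw [K.hh_eq, K.hh_single_left] at h2
      simp only [Matrix.mulVec_single_one, Matrix.col_apply] at h2
      simp only [Matrix.mul_apply, Matrix.transpose_apply, Matrix.map_apply]
      rw [h2, Matrix.one_apply]
      rcases eq_or_ne k l with rfl | hkl <;> simp [*]
    have h2 := congrArg Matrix.det h1
    rw [Matrix.det_mul, Matrix.det_transpose, Matrix.det_one,
      show ((G : MM).map τ) = (τ.toRingHom).mapMatrix (G : MM) from rfl, ← RingHom.map_det] at h2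
    have h3 : (G : MM).det = δ := by
      show (colMat b' * (colMat b)⁻¹).det = δ
      rw [Matrix.det_mul, Matrix.det_nonsing_inv, Ring.inverse_eq_inv', hδ, div_eq_mul_inv]
    rw [h3] at h2
    exact h2
  obtain ⟨x, hx, hxδ⟩ := exists_ratio K hδn
  have hτx := tau_ne_zero K hx
  let d : VV := fun l => if l = i then x else if l = j then (τ x)⁻¹ else 1
  have hdi : d i = x := if_pos rfl
  have hdj : d j = (τ x)⁻¹ := by simp [d, hij.symm]
  have hdl : ∀ l, l ≠ i → l ≠ j → d l = 1 := fun l h1 h2 => by simp [d, h1, h2]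
  let b'' : Fin 4 → VV := fun l => d l • b' l
  have hgram'' : ∀ k l, hh (b'' k) (b'' l) = hh (b k) (b l) := by
    intro k l
    simp only [b'', hh_smul_left K, hh_smul_right K, hgram]
    by_cases h0 : hh (b k) (b l) = 0
    · simp [h0]
    suffices d k * τ (d l) = 1 by rw [← mul_assoc, this, one_mul]
    rcases eq_or_ne k i with rfl | hki
    · rcases eq_or_ne l j with rfl | hlj
      · rw [hdi, hdj, map_inv₀, K.invol, mul_inv_cancel₀ hx]
      rcases eq_or_ne l k with rfl | hlk
      · exact absurd hii h0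
      exact absurd (hperp l hlk hlj).1 h0
    rcases eq_or_ne k j with rfl | hkj
    · rcases eq_or_ne l i with rfl | hli
      · rw [hdi, hdj, inv_mul_cancel₀ hτx]
      rcases eq_or_ne l k with rfl | hlk
      · exact absurd hjj h0
      exact absurd (hperp l hli hlk).2 h0
    rcases eq_or_ne l i with rfl | hli
    · exact absurd (hh_flip K (hperp k hki hkj).1) h0
    rcases eq_or_ne l j with rfl | hlj
    · exact absurd (hh_flip K (hperp k hki hkj).2) h0
    rw [hdl k hki hkj, hdl l hli hlj, map_one, mul_one]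
  have hb'' := det_ne_zero_of_gram K hb hgram''
  let g : GG := Units.mk (colMat b'' * (colMat b)⁻¹) (colMat b * (colMat b'')⁻¹)
    (by rw [Matrix.mul_assoc, ← Matrix.mul_assoc ((colMat b)⁻¹), Matrix.nonsing_inv_mul _ hb, Matrix.one_mul,
      Matrix.mul_nonsing_inv _ hb''])
    (by rw [Matrix.mul_assoc, ← Matrix.mul_assoc ((colMat b'')⁻¹), Matrix.nonsing_inv_mul _ hb'', Matrix.one_mul,
      Matrix.mul_nonsing_inv _ hb])
  have hg : ∀ l, (g : MM) *ᵥ b l = b'' l := fun l => by
    show (colMat b'' * (colMat b)⁻¹) *ᵥ b l = b'' l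
    rw [← colMat_mulVec b l, Matrix.mulVec_mulVec, Matrix.mul_assoc, Matrix.nonsing_inv_mul _ hb, Matrix.mul_one,
      colMat_mulVec]
  refine ⟨g, ⟨gu_of_frames K hb hgram'' hg, ?_⟩, fun l h1 h2 => by rw [hg]; simp [b'', hdl l h1 h2], x, hx,
    by rw [hg]; simp [b'', hdi], by rw [hg]; simp [b'', hdj]⟩
  show g ∈ Cfsg.Geo.specialLinear (Fin 4) F
  rw [mem_specialLinear_iff]
  show (colMat b'' * (colMat b)⁻¹).det = 1
  rw [Matrix.det_mul, Matrix.det_nonsing_inv, Ring.inverse_eq_inv', det_colMat_smul,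
    Finset.prod_eq_mul i j hij (fun l _ hl => hdl l hl.1 hl.2) (by simp) (by simp), hdi, hdj, hxδ, hδ]
  have := hb.ne_zero
  have := hb'.ne_zero
  field_simp

/-- A non-zero vector orthogonal to three given ones. -/
lemma exists_perp {k : ℕ} (hk : k < 4) (v : Fin k → VV) : ∃ y : VV, y ≠ 0 ∧ ∀ i, hh y (v i) = 0 := by
  let L : VV →ₗ[F] (Fin k → F) := LinearMap.pi fun i => dotProductEquiv F (Fin 4) (fvec hh (v i))
  have h1 := L.finrank_range_add_finrank_ker
  have h2 := (LinearMap.range L).finrank_le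
  simp at h1 h2
  obtain ⟨y, hy, hy0⟩ := (LinearMap.ker L).exists_mem_ne_zero_of_ne_bot (fun h => by
    rw [h, finrank_bot] at h1; omega)
  exact ⟨y, hy0, fun i => (un_dot K.form (v i) y).symm.trans (congrFun (LinearMap.mem_ker.1 hy) i)⟩

/-- A hyperbolic pair orthogonal to two orthogonal anisotropic vectors. -/
lemma exists_pair_perp {c p : VV} (hc : hh c c ≠ 0) (hp : hh p p ≠ 0) (hcp : hh c p = 0) :
    ∃ e g : VV, hh e e = 0 ∧ hh g g = 0 ∧ hh e g = 1 ∧ hh e c = 0 ∧ hh e p = 0 ∧ hh g c = 0 ∧ hh g p = 0 := by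
  obtain ⟨y, hy0, hy⟩ := exists_perp K (by norm_num) ![c, p]
  have hyc : hh y c = 0 := hy 0
  have hyp : hh y p = 0 := hy 1
  obtain ⟨e, hee, he0, hec, hep⟩ : ∃ e, hh e e = 0 ∧ e ≠ 0 ∧ hh e c = 0 ∧ hh e p = 0 := by
    by_cases hyy : hh y y = 0
    · exact ⟨y, hyy, hy0, hyc, hyp⟩
    obtain ⟨w, hw0, hw⟩ := exists_perp K (by norm_num) ![c, p, y]
    have hwc : hh w c = 0 := hw 0
    have hwp : hh w p = 0 := hw 1
    have hwy : hh w y = 0 := hw 2
    by_cases hww : hh w w = 0
    · exact ⟨w, hww, hw0, hwc, hwp⟩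
    obtain ⟨k, hk⟩ := K.exists_nm (c := -hh w w / hh y y) (by
      rw [map_div₀, map_neg, hh_fix K, hh_fix K])
    refine ⟨k • y + w, ?_, fun h0 => ?_, ?_, ?_⟩
    · simp only [hh_add_left K, hh_add_right K, hh_smul_left K, hh_smul_right K, hwy, hh_flip K hwy]
      have hk2 : k * τ k * hh y y = -hh w w := by rw [hk, div_mul_cancel₀ _ hyy]
      linear_combination hk2
    · have h1 := congrArg (fun v => hh v w) h0
      simp [hh_add_left K, hh_smul_left K, hh_flip K hwy, un_zero_left K.form] at h1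
      exact hww h1
    · rw [hh_add_left K, hh_smul_left K, hyc, hwc]; ring
    · rw [hh_add_left K, hh_smul_left K, hyp, hwp]; ring
  have hns : e ∉ Submodule.span F (Set.range ![c, p]) := by
    intro hm
    obtain ⟨r, hr⟩ := (Submodule.mem_span_range_iff_exists_fun F).1 hm
    simp [Fin.sum_univ_two] at hr
    have h1 := congrArg (fun v => hh v c) hr
    have h2 := congrArg (fun v => hh v p) hr
    simp [hh_add_left K, hh_smul_left K, hec, hep, hcp, hh_flip K hcp, hc, hp] at h1 h2
    exact he0 (by rw [← hr, h1, h2]; simp)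
  obtain ⟨z, hz, hze⟩ := un_eval₀ K.form ![c, p] hns
  have hzc : hh z c = 0 := hz 0
  have hzp : hh z p = 0 := hz 1
  obtain ⟨γ, hγ⟩ := UnFour.exists_tr_eq K.form (b := -hh z z) (by rw [map_neg, hh_fix K])
  refine ⟨e, z + γ • e, hee, ?_, ?_, hec, hep, ?_, ?_⟩
  · simp only [hh_add_left K, hh_add_right K, hh_smul_left K, hh_smul_right K, hee, hze, hh_flip_one K hze]
    linear_combination hγ
  · rw [hh_add_right K, hh_smul_right K, hee, hh_flip_one K hze]; ring
  · rw [hh_add_left K, hh_smul_left K, hzc, hec]; ring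
  · rw [hh_add_left K, hh_smul_left K, hzp, hep]; ring

/-- Two orthogonal anisotropic vectors and a hyperbolic pair form a basis. -/
lemma frame_unit {c p e g : VV} (hc : hh c c ≠ 0) (hp : hh p p ≠ 0) (hcp : hh c p = 0) (hee : hh e e = 0)
    (hgg : hh g g = 0) (heg : hh e g = 1) (hec : hh e c = 0) (hep : hh e p = 0) (hgc : hh g c = 0)
    (hgp : hh g p = 0) : IsUnit (colMat ![c, p, e, g]).det := by
  rw [isUnit_iff_ne_zero]
  intro h0
  obtain ⟨a, ha0, ha⟩ := Matrix.exists_mulVec_eq_zero_iff.2 h0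
  rw [colMat_apply, Fin.sum_univ_four] at ha
  simp only [Matrix.cons_val_zero, Matrix.cons_val_one, Matrix.cons_val] at ha
  apply ha0
  have k0 := congrArg (fun v => hh v c) ha
  have k1 := congrArg (fun v => hh v p) ha
  have k2 := congrArg (fun v => hh v g) ha
  have k3 := congrArg (fun v => hh v e) ha
  simp only [hh_add_left K, hh_smul_left K, hec, hep, hgc, hgp, hcp, hh_flip K hcp, hh_flip K hec, hh_flip K hep,
    hh_flip K hgc, hh_flip K hgp, hee, hgg, heg, hh_flip_one K heg, un_zero_left K.form, mul_zero, mul_one,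
    add_zero, zero_add] at k0 k1 k2 k3
  funext i
  fin_cases i
  · exact (mul_eq_zero.1 k0).resolve_right hc
  · exact (mul_eq_zero.1 k1).resolve_right hp
  · exact k2
  · exact k3

/-- Two anisotropic vectors of equal norm orthogonal to `c` are conjugate under the centraliser of `c`. -/
lemma exists_move {c p p' : VV} (hc : hh c c ≠ 0) (hp : hh p p ≠ 0) (hcp : hh c p = 0) (hcp' : hh c p' = 0)
    (hpp' : hh p' p' = hh p p) : ∃ g ∈ suGL 4 F q, (g : MM) *ᵥ c = c ∧ (g : MM) *ᵥ p = p' := by
  have hp' : hh p' p' ≠ 0 := by rw [hpp']; exact hp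
  obtain ⟨e, f, hee, hff, hef, hec, hep, hfc, hfp⟩ := exists_pair_perp K hc hp hcp
  obtain ⟨e', f', hee', hff', hef', hec', hep', hfc', hfp'⟩ := exists_pair_perp K hc hp' hcp'
  have hb := frame_unit K hc hp hcp hee hff hef hec hep hfc hfp
  obtain ⟨g, hg, hgl, -⟩ := exists_su_frames K (b := ![c, p, e, f]) (b' := ![c, p', e', f']) hb (by
    intro i j
    fin_cases i <;> fin_cases j <;>
      simp [hpp', hcp, hcp', hh_flip K hcp, hh_flip K hcp', hee, hff, hef, hec, hep, hfc, hfp, hee', hff', hef', hec',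
        hep', hfc', hfp', hh_flip_one K hef, hh_flip_one K hef', hh_flip K hec, hh_flip K hep, hh_flip K hfc,
        hh_flip K hfp, hh_flip K hec', hh_flip K hep', hh_flip K hfc', hh_flip K hfp'])
    (i := 2) (j := 3) (by decide) hee hff (by
      intro l h1 h2
      fin_cases l <;> first
        | exact absurd rfl h1
        | exact absurd rfl h2
        | simp [hec, hep, hfc, hfp])
  exact ⟨g, hg, hgl 0 (by decide) (by decide), hgl 1 (by decide) (by decide)⟩

end CfsgLib.Maximal.SUFour
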