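import Mathlib
import Cfsg.Agent.Lib.UnMono.Blocks

/-!
From pairs to the whole group in dimension four.
-/

set_option autoImplicit false
set_option linter.unusedSectionVars false
set_option linter.unusedSimpArgs false

open scoped Classical

namespace CfsgLib.Maximal.SUFour.Frames

open scoped Matrix
open CfsgLib.Maximal CfsgLib.UnMono

variable {n q : ℕ} {F : Type*} [Field F] [Fintype F] {τ : F ≃+* F}

local notation "hh" => Cfsg.hermForm n F q
local notation "MM" => Matrix (Fin n) (Fin n) F

variable (K : Ctx n q τ)
include K

/-- Full vectors on two coordinates generate, in dimension at least four, for `q ≥ 3`. -/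
lemma suGL_le_of_pairs {M : Subgroup (Matrix.GeneralLinearGroup (Fin n) F)} (hMS : M ≤ suGL n F q) (hn : 4 ≤ n)
    (hq : 3 ≤ q) (hP : ∀ w : Fin n → F, hh w w = 0 → (supp w).card ≤ 2 → UFull τ q M w) : suGL n F q ≤ M := by
  refine suGL_le_of_full K.form K.card hn fun w hw => ?_
  suffices key : ∀ (s : ℕ) (w : Fin n → F), (supp w).card = s → hh w w = 0 → UFull τ q M w from key _ w rfl hw
  intro s
  induction s using Nat.strong_induction_on with
  | _ s ih =>
    intro w hs hw
    rcases le_or_gt (supp w).card 2 with h | h
    · exact hP w hw h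
    exact full_step K hMS hq hP (fun u hu huu => ih _ hu u rfl huu) hs.le h hw

end CfsgLib.Maximal.SUFour.Frames
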