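import Mathlib
import Cfsg.Agent.Lib.Maximal.SUFour.FramePairs

/-!
The stabiliser of a partition into blocks, dimension at least four.
-/

set_option autoImplicit false
set_option linter.unusedSectionVars false
set_option linter.unusedSimpArgs false

open scoped Classical

namespace CfsgLib.Maximal.SUFour.Frames

open scoped Matrix
open CfsgLib.Maximal CfsgLib.UnMono

variable {n q : ℕ} {F : Type*} [Field F] [Fintype F] {τ : F ≃+* F}
  {t k : ℕ} {M : Subgroup (Matrix.GeneralLinearGroup (Fin n) F)}

local notation "hh" => Cfsg.hermForm n F q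
local notation "MM" => Matrix (Fin n) (Fin n) F

variable (K : Ctx n q τ)
include K

variable {ee : Fin n ≃ Fin t × Fin k}

variable (hn : 4 ≤ n) (hk : 2 ≤ k) (hO : OverB q ee M)
include hn hk hO

/-- Some block vector is moved into two blocks. -/
lemma exists_spread (hNb : ∃ g ∈ M, ¬ IsBlock (blk ee) g) :
    ∃ (u : Fin n → F) (a b : Fin n), hh u u = 0 ∧ UFull τ q M u ∧ u a ≠ 0 ∧ u b ≠ 0 ∧ blk ee a ≠ blk ee b := by
  by_contra hcon
  push Not at hcon
  obtain ⟨g, hg, hgb⟩ := hNb
  have hgU := (hO.le hg).1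
  apply hgb
  have hne : ∀ c, ∃ i, col g c i ≠ 0 := fun c => by
    obtain ⟨i, hi⟩ := Finset.card_pos.1 (card_supp_col_pos K hgU c)
    exact ⟨i, mem_supp.1 hi⟩
  choose r hr using hne
  let J : Fin n → Fin t := fun c => blk ee (r c)
  -- two columns of one block have the same single block
  have key : ∀ a a', a ≠ a' → blk ee a = blk ee a' →
      ∃ j, ∀ l, (col g a l ≠ 0 ∨ col g a' l ≠ 0) → blk ee l = j := by
    intro a a' haa hblk
    obtain ⟨ρ₀, hρ₀⟩ := K.exists_nm (c := -1) (by rw [map_neg, map_one])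
    obtain ⟨η, hη, hηn⟩ := exists_nonfix K
    set ρ₁ := ρ₀ * η
    have hρ₁ : ρ₁ * τ ρ₁ = -1 := by rw [map_mul]; linear_combination ρ₀ * τ ρ₀ * hη + hρ₀
    have hρ0 : ρ₀ ≠ 0 := fun h => by rw [h, zero_mul] at hρ₀; exact neg_ne_zero.2 one_ne_zero hρ₀.symm
    have hρne : ρ₁ ≠ ρ₀ := fun h => hηn (by
      have h1 : η = 1 := mul_left_cancel₀ hρ0 (by rw [mul_one]; exact h)
      rw [h1, map_one])
    let gv : F → Fin n → F := fun ρ => col g a + ρ • col g a'
    have hgv : ∀ ρ, ρ * τ ρ = -1 → ∀ l l', gv ρ l ≠ 0 → gv ρ l' ≠ 0 → blk ee l = blk ee l' := by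
      intro ρ hρ l l' hl hl'
      let f : Fin n → F := fun i => if i = a then 1 else if i = a' then ρ else 0
      have hoff : ∀ i, i ≠ a → i ≠ a' → f i = 0 := fun i h1 h2 => by simp [f, h1, h2]
      have hff : hh f f = 0 := by
        rw [hh_two K haa hoff]; simp [f, haa.symm, hρ]
      have hfull := (full_in_block K hO (A := blk ee a) hff fun i hi => hoff i (fun h => hi (by rw [h]))
        (fun h => hi (by rw [h, hblk]))).map K.form hO.le hg
      have e : (g : MM) *ᵥ f = gv ρ := by
        have e1 : f = Pi.single a 1 + ρ • Pi.single a' 1 := by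
          funext i
          by_cases h1 : i = a
          · subst h1; simp [f, haa]
          by_cases h2 : i = a'
          · subst h2; simp [f, haa.symm]
          simp [f, h1, h2]
        rw [e1, Matrix.mulVec_add, Matrix.mulVec_smul, mulVec_e, mulVec_e]
      rw [e] at hfull
      by_contra hne'
      exact hne' (hcon _ l l' (by rw [← e, (mem_GU_iff g).1 hgU, hff]) hfull hl hl')
    -- the two images are not orthogonal
    obtain ⟨l, hl₀, hl₁⟩ : ∃ l, gv ρ₀ l ≠ 0 ∧ gv ρ₁ l ≠ 0 := by
      by_contra hno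
      push Not at hno
      have h0 : hh (gv ρ₀) (gv ρ₁) = 0 := by
        rw [K.hh_eq]
        refine Finset.sum_eq_zero fun l _ => ?_
        by_cases h : gv ρ₀ l = 0
        · rw [h, zero_mul]
        · rw [hno l h, map_zero, mul_zero]
      simp only [gv, K.form.add_left, un_add_right K.form, K.form.smul_left, un_smul_right K.form,
        hh_col K hgU, if_true, if_neg haa, if_neg haa.symm, mul_one, mul_zero, add_zero, zero_add] at h0
      apply hρne
      linear_combination ρ₁ * h0 - ρ₀ * hρ₁
    refine ⟨blk ee l, fun m hm => ?_⟩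
    by_contra hne'
    have h0 : gv ρ₀ m = 0 := by_contra fun h => hne' (hgv ρ₀ hρ₀ m l h hl₀)
    have h1 : gv ρ₁ m = 0 := by_contra fun h => hne' (hgv ρ₁ hρ₁ m l h hl₁)
    simp only [gv, Pi.add_apply, Pi.smul_apply, smul_eq_mul] at h0 h1
    have hw : col g a' m = 0 := (mul_eq_zero.1 (show (ρ₁ - ρ₀) * col g a' m = 0 by
      linear_combination h1 - h0)).resolve_left (sub_ne_zero.2 hρne)
    rcases hm with h | h
    · exact h (by rw [hw] at h0; linear_combination h0)
    · exact h hw
  have hJ : ∀ c c', blk ee c = blk ee c' → ∀ l, col g c l ≠ 0 → blk ee l = J c' := by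
    intro c c' hblk l hl
    by_cases hcc : c = c'
    · subst hcc
      obtain ⟨j, hj⟩ := Fintype.exists_ne_of_one_lt_card (by simp; omega : 1 < Fintype.card (Fin k)) (ee c).2
      set c' := ee.symm (blk ee c, j)
      obtain ⟨j', hj'⟩ := key c c' (fun h => hj (by rw [h]; simp [c'])) (by simp [c', blk])
      rw [hj' l (Or.inl hl)]; exact (hj' (r c) (Or.inl (hr c))).symm
    · obtain ⟨j', hj'⟩ := key c c' hcc hblk
      rw [hj' l (Or.inl hl)]; exact (hj' (r c') (Or.inr (hr c'))).symm
  let rep : Fin t → Fin n := fun i => ee.symm (i, ⟨0, by omega⟩)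
  have hrep : ∀ i, blk ee (rep i) = i := fun i => by simp [rep, blk]
  let f : Fin t → Fin t := fun i => J (rep i)
  have hinj : Function.Injective f := by
    intro i i' hii
    by_contra hne'
    let T := (Finset.univ : Finset (Fin n)).filter fun c => blk ee c = i ∨ blk ee c = i'
    let S := (Finset.univ : Finset (Fin n)).filter fun c => blk ee c = f i
    have hcard : ∀ j, ((Finset.univ : Finset (Fin n)).filter fun c => blk ee c = j).card = k := fun j => by
      rw [← Fintype.card_subtype]
      refine (Fintype.card_congr (?_ : {c // blk ee c = j} ≃ Fin k)).trans (Fintype.card_fin k)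
      exact { toFun := fun c => (ee c.1).2
              invFun := fun m => ⟨ee.symm (j, m), by simp [blk]⟩
              left_inv := fun c => Subtype.ext (by
                apply ee.injective; rw [Equiv.apply_symm_apply]; exact Prod.ext c.2.symm rfl)
              right_inv := fun m => by simp }
    have hT : T.card = 2 * k := by
      simp only [T]
      rw [Finset.filter_or, Finset.card_union_of_disjoint, hcard, hcard]
      · omega
      · exact Finset.disjoint_filter.2 fun c _ h1 h2 => hne' (h1.symm.trans h2)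
    have hsub : ∀ c ∈ T, supp (col g c) ⊆ S := by
      intro c hc l hl
      simp only [S, Finset.mem_filter, Finset.mem_univ, true_and]
      rcases (Finset.mem_filter.1 hc).2 with h | h
      · exact hJ c (rep i) (by rw [h, hrep]) l (mem_supp.1 hl)
      · exact (hJ c (rep i') (by rw [h, hrep]) l (mem_supp.1 hl)).trans hii.symm
    have hli : LinearIndependent F (fun (c : T) (l : S) => (g : MM) l c) := by
      rw [Fintype.linearIndependent_iff]
      intro e he c
      have h0 : (∑ i : T, e i • col g i) = 0 := by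
        funext l
        rw [Finset.sum_apply]
        by_cases hl : l ∈ S
        · simpa [col, Finset.sum_apply] using congrFun he ⟨l, hl⟩
        · refine Finset.sum_eq_zero fun i _ => ?_
          rw [Pi.smul_apply, notMem_supp.1 (fun h => hl (hsub i i.2 h)), smul_zero]
      have h1 := congrArg (fun w => hh w (col g c)) h0
      simp only [un_sum_left K.form, K.form.smul_left, hh_col K hgU, un_zero_left K.form] at h1
      rw [Finset.sum_eq_single c (fun i _ hi => by rw [if_neg fun h => hi (Subtype.ext h), mul_zero]) (by simp),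
        if_pos rfl, mul_one] at h1
      exact h1
    have := hli.fintype_card_le_finrank
    rw [Fintype.card_coe, Module.finrank_pi, Fintype.card_coe, hT] at this
    have hS : S.card = k := hcard (f i)
    omega
  exact ⟨Equiv.ofBijective f (Finite.injective_iff_bijective.1 hinj), fun y x hyx =>
    hJ x (rep (blk ee x)) (hrep _).symm y hyx⟩

/-- A full vector on two coordinates of different blocks. -/
lemma exists_cross (hNb : ∃ g ∈ M, ¬ IsBlock (blk ee) g) :
    ∃ (v : Fin n → F) (a b : Fin n), blk ee a ≠ blk ee b ∧ hh v v = 0 ∧ v a ≠ 0 ∧ v b ≠ 0 ∧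
      (∀ i, i ≠ a → i ≠ b → v i = 0) ∧ UFull τ q M v := by
  obtain ⟨u, a, b, huu, hu, ha, hb, hab⟩ := exists_spread K hn hk hO hNb
  -- it suffices to find a zero coordinate
  suffices hz : ∃ (w : Fin n → F) (a b c : Fin n), hh w w = 0 ∧ UFull τ q M w ∧ w a ≠ 0 ∧ w b ≠ 0 ∧
      blk ee a ≠ blk ee b ∧ w c = 0 by
    obtain ⟨w, a, b, c, hww, hw, ha, hb, hab, hc⟩ := hz
    have hne : a ≠ b := fun h => hab (by rw [h])
    obtain ⟨v, hvv, hva, hvb, hoff, hv⟩ := shrink K hO.le hw hww hne ha hb fun d hd _ =>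
      full_scal K hO.le (hO.hasDiag K) hw hd hc
    exact ⟨v, a, b, hab, hvv, hva, hvb, hoff, hv⟩
  -- a component of non-zero norm gives one
  have hmain : ∀ (w : Fin n → F) (a b : Fin n), hh w w = 0 → UFull τ q M w → w b ≠ 0 → blk ee a ≠ blk ee b →
      hh (fun i => if blk ee i = blk ee a then w i else 0) (fun i => if blk ee i = blk ee a then w i else 0) ≠ 0 →
      ∃ (w : Fin n → F) (a b c : Fin n), hh w w = 0 ∧ UFull τ q M w ∧ w a ≠ 0 ∧ w b ≠ 0 ∧
        blk ee a ≠ blk ee b ∧ w c = 0 := by
    intro w a b hww hw hb hab hP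
    obtain ⟨a₁, ha₁⟩ : ∃ a₁, (if blk ee a₁ = blk ee a then w a₁ else 0) ≠ 0 := by
      by_contra h; push Not at h
      exact hP (by rw [K.hh_eq]; exact Finset.sum_eq_zero fun i _ => by rw [h i, zero_mul])
    by_cases hblk : blk ee a₁ = blk ee a
    swap
    · exact absurd (if_neg hblk) ha₁
    obtain ⟨g, hg, α, hα, hgu⟩ := transit K hk hO (A := blk ee a)
      (x := fun i => if blk ee i = blk ee a then w i else 0) (fun i hi => if_neg hi) hblk ha₁ hP
    have hgw := hgu w fun i hi => by rw [if_pos hi]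
    obtain ⟨j, hj⟩ := Fintype.exists_ne_of_one_lt_card (by simp; omega : 1 < Fintype.card (Fin k)) (ee a₁).2
    refine ⟨(g : MM) *ᵥ w, a₁, b, ee.symm (blk ee a, j), by rw [(mem_GU_iff g).1 (hO.le hg).1, hww],
      hw.map K.form hO.le hg, ?_, ?_, fun h => hab (hblk.symm.trans h), ?_⟩ <;> rw [hgw]
    · simpa [hblk] using hα
    · simpa [hab.symm] using hb
    · have h1 : ee.symm (blk ee a, j) ≠ a₁ := fun h => hj (by rw [← h]; simp)
      simp [blk] at h1 ⊢
      simp [h1]
  by_cases hzero : ∃ c, u c = 0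
  · obtain ⟨c, hc⟩ := hzero; exact ⟨u, a, b, c, huu, hu, ha, hb, hab, hc⟩
  by_cases hA : hh (fun i => if blk ee i = blk ee a then u i else 0) (fun i => if blk ee i = blk ee a then u i else 0) ≠ 0
  · exact hmain u a b huu hu hb hab hA
  rw [not_not] at hA
  by_cases hB : hh (fun i => if blk ee i = blk ee b then u i else 0) (fun i => if blk ee i = blk ee b then u i else 0) ≠ 0
  · exact hmain u b a huu hu ha (Ne.symm hab) hB
  rw [not_not] at hB
  -- all components considered are isotropic: move by a phase change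
  obtain ⟨ζ, hζ, hζn⟩ := exists_nonfix K
  have hτ0 : ∀ {z : F}, z ≠ 0 → τ z ≠ 0 := fun hx h => hx (τ.injective (by rw [h, map_zero]))
  obtain ⟨c₀, hc₀, hc₀0⟩ := un_skew_exists K.form |> fun ⟨c, h1, h2⟩ => (⟨c, h2, h1⟩ : ∃ c, τ c = -c ∧ c ≠ 0)
  have hne : a ≠ b := fun h => hab (by rw [h])
  let d : Fin n → F := fun i => if i = a then ζ else if i = b then τ ζ else 1
  have hd : ∀ i, d i * τ (d i) = 1 := fun i => by
    simp only [d]; split_ifs <;> simp [hζ, K.invol, mul_comm (τ ζ)]
  have hdu : UFull τ q M (scal d u) := by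
    have := hu.map K.form hO.le (hO.hasDiag K (fun i => Units.mk0 (d i) (K.ne_of_nm (hd i))) (fun i => hd i)
      (by
        show ∏ i, d i = 1
        rw [Finset.prod_eq_mul a b hne (fun i _ hi => by simp [d, hi.1, hi.2]) (by simp) (by simp)]
        simp [d, hne.symm, hζ]))
    rwa [dg_mulVec] at this
  set X := u a * τ (u a) with hX
  set Y := u b * τ (u b) with hY
  have hX0 : X ≠ 0 := mul_ne_zero ha (hτ0 ha)
  have hY0 : Y ≠ 0 := mul_ne_zero hb (hτ0 hb)
  set h := hh u (scal d u) with hh_def
  have hval : h = (τ ζ - 1) * X + (ζ - 1) * Y := by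
    have e : scal d u = u + fun i => (d i - 1) * u i := funext fun i => by simp [scal]; ring
    rw [hh_def, e, un_add_right K.form, huu, zero_add,
      K.hh_eq, Finset.sum_eq_add a b hne (fun i _ hi => by simp [d, hi.1, hi.2]) (by simp) (by simp)]
    simp [d, hne.symm, hX, hY, K.invol]
    ring
  set s := c₀ * h with hs
  set w := u + s • scal d u with hw_def
  have hw : UFull τ q M w := UFull.step K hO.le hu hdu hc₀
  have hww : hh w w = 0 := by
    have h1 := un_tv_isometry K.form (by rw [hh_scal K hd, huu] : hh (scal d u) (scal d u) = 0) hc₀ u u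
    rwa [tv_mulVec, un_dot K.form, smul_smul, mul_comm, huu] at h1
  have hwi : ∀ i, w i = (1 + s * d i) * u i := fun i => by
    simp [hw_def, scal]; ring
  have hdda : d a = ζ := if_pos rfl
  have hddb : d b = τ ζ := by simp [d, hne.symm]
  have hT : ζ + τ ζ - 2 ≠ 0 := fun h => hζn (by
    rw [eq_one_of_tr_two K hζ (sub_eq_zero.1 h), map_one])
  have hζτ : ζ - τ ζ ≠ 0 := sub_ne_zero.2 (Ne.symm hζn)
  -- the two components change their norms
  have hnorm : ∀ (p p' : Fin n) (z : F), blk ee p ≠ blk ee p' → d p = z → z * τ z = 1 →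
      (∀ i, i ≠ p → i ≠ p' → d i = 1) →
      hh (fun i => if blk ee i = blk ee p then u i else 0) (fun i => if blk ee i = blk ee p then u i else 0) = 0 →
      hh (fun i => if blk ee i = blk ee p then w i else 0) (fun i => if blk ee i = blk ee p then w i else 0) =
        u p * τ (u p) * (s * (z - 1) + τ (s * (z - 1))) := by
    intro p p' z hpp hdp hz hoff h0
    rw [K.hh_eq] at h0 ⊢
    have e : ∀ i, (if blk ee i = blk ee p then w i else 0) * τ (if blk ee i = blk ee p then w i else 0) -
        (1 + s) * τ (1 + s) * ((if blk ee i = blk ee p then u i else 0) * τ (if blk ee i = blk ee p then u i else 0)) =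
        if i = p then u p * τ (u p) * (s * (z - 1) + τ (s * (z - 1))) else 0 := by
      intro i
      by_cases hip : i = p
      · subst hip
        rw [if_pos rfl, if_pos rfl, if_pos rfl, hwi, hdp]
        simp only [map_mul, map_add, map_sub, map_one]
        linear_combination (u i * τ (u i) * s * τ s) * hz
      rw [if_neg hip]
      by_cases hib : blk ee i = blk ee p
      · rw [if_pos hib, if_pos hib, hwi, hoff i hip (fun h => hpp (by rw [← hib, h])), mul_one, map_mul]
        ring
      · simp [if_neg hib]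
    have e1 := Finset.sum_congr rfl fun i (_ : i ∈ Finset.univ) => e i
    rw [Finset.sum_sub_distrib, ← Finset.mul_sum, h0, mul_zero, sub_zero, Finset.sum_ite_eq' Finset.univ p,
      if_pos (Finset.mem_univ p)] at e1
    exact e1
  have hhτ : τ h = (ζ - 1) * X + (τ ζ - 1) * Y := by
    simp only [hval, map_add, map_mul, map_sub, map_one, K.invol, hX, hY]
    ring
  have hwA : hh (fun i => if blk ee i = blk ee a then w i else 0) (fun i => if blk ee i = blk ee a then w i else 0) ≠ 0 := by
    rw [hnorm a b ζ hab hdda hζ (fun i h1 h2 => by simp [d, h1, h2]) hA, ← hX]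
    refine mul_ne_zero hX0 ?_
    have e : s * (ζ - 1) + τ (s * (ζ - 1)) = c₀ * Y * (ζ - τ ζ) * (ζ + τ ζ - 2) := by
      rw [hs, map_mul, map_mul, hc₀, hhτ, hval, map_sub, map_one]; ring
    rw [e]
    exact mul_ne_zero (mul_ne_zero (mul_ne_zero hc₀0 hY0) hζτ) hT
  have hwB : hh (fun i => if blk ee i = blk ee b then w i else 0) (fun i => if blk ee i = blk ee b then w i else 0) ≠ 0 := by
    rw [hnorm b a (τ ζ) hab.symm hddb (K.nm_tau hζ) (fun i h1 h2 => by simp [d, h1, h2]) hB, ← hY]
    refine mul_ne_zero hY0 ?_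
    have e : s * (τ ζ - 1) + τ (s * (τ ζ - 1)) = -(c₀ * X * (ζ - τ ζ) * (ζ + τ ζ - 2)) := by
      rw [hs, map_mul, map_mul, hc₀, hhτ, hval, map_sub, map_one, K.invol]; ring
    rw [e]
    exact neg_ne_zero.2 (mul_ne_zero (mul_ne_zero (mul_ne_zero hc₀0 hX0) hζτ) hT)
  obtain ⟨b₁, hb₁, hb₁b⟩ : ∃ b₁, w b₁ ≠ 0 ∧ blk ee b₁ = blk ee b := by
    by_contra hcon
    push Not at hcon
    exact hwB (by
      rw [K.hh_eq]
      refine Finset.sum_eq_zero fun i _ => ?_
      by_cases hi : blk ee i = blk ee b
      · rw [if_pos hi, not_not.1 fun h => hcon i h hi, zero_mul]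
      · rw [if_neg hi, zero_mul])
  exact hmain w a b₁ hww hw hb₁ (by rw [hb₁b]; exact hab) hwA

/-- A subgroup strictly over the block stabiliser is everything. -/
theorem suGL_le_of_overB (hq : 3 ≤ q) (hNb : ∃ g ∈ M, ¬ IsBlock (blk ee) g) :
    suGL n F q ≤ M := by
  obtain ⟨v, a, b, hab, hvv, hva, hvb, hoff, hv⟩ := exists_cross K hn hk hO hNb
  have hne : a ≠ b := fun h => hab (by rw [h])
  have hP : ∀ w : Fin n → F, hh w w = 0 → (supp w).card ≤ 2 → UFull τ q M w := by
    intro w hww hcard
    obtain ⟨p, p', hpp, hsub⟩ : ∃ p p' : Fin n, p ≠ p' ∧ supp w ⊆ {p, p'} := by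
      obtain ⟨T, hT1, hT2⟩ := Finset.exists_superset_card_eq (s := supp w) (n := 2) hcard (by simp; omega)
      obtain ⟨p, p', hpp, rfl⟩ := Finset.card_eq_two.1 hT2
      exact ⟨p, p', hpp, hT1⟩
    have hwoff : ∀ i, i ≠ p → i ≠ p' → w i = 0 := fun i h1 h2 => by
      by_contra h; have := hsub (mem_supp.2 h); simp [h1, h2] at this
    by_cases hblk : blk ee p = blk ee p'
    · exact full_in_block K hO (A := blk ee p) hww fun i hi =>
        hwoff i (fun h => hi (by rw [h])) (fun h => hi (by rw [h, hblk]))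
    obtain ⟨π, σt, hπ, hπa, hπb⟩ := exists_block_perm hab hblk
    obtain ⟨m, e, hm, he, hmv⟩ := exists_block_elt K (by omega) hO π σt hπ
    refine pair_all K hO.le (hO.hasDiag K) (by omega) hpp (v := (m : MM) *ᵥ v)
      (by rw [(mem_GU_iff m).1 (hO.le hm).1, hvv]) ?_ ?_ (fun i h1 h2 => ?_) (hv.map K.form hO.le hm) hww hwoff
    · rw [← hπa, hmv]; exact mul_ne_zero (he a) hva
    · rw [← hπb, hmv]; exact mul_ne_zero (he b) hvb
    · obtain ⟨j, rfl⟩ := π.surjective i
      rw [hmv, hoff j (fun h => h1 (by rw [h, hπa])) (fun h => h2 (by rw [h, hπb])), mul_zero]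
  exact suGL_le_of_pairs K hO.le hn hq hP

end CfsgLib.Maximal.SUFour.Frames
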