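import Mathlib
import Cfsg.Agent.Lib.Maximal.SUFour.FrameTorus

/-!
Sparse non-monomial elements, dimension at least four.
-/

set_option autoImplicit false
set_option linter.unusedSectionVars false
set_option linter.unusedSimpArgs false

open scoped Classical

namespace CfsgLib.Maximal.SUFour.Frames

open scoped Matrix
open CfsgLib.Maximal CfsgLib.UnMono

variable {n q : ℕ} {F : Type*} [Field F] [Fintype F] {τ : F ≃+* F}
  {M : Subgroup (Matrix.GeneralLinearGroup (Fin n) F)}

local notation "hh" => Cfsg.hermForm n F q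
local notation "MM" => Matrix (Fin n) (Fin n) F

variable (K : Ctx n q τ)
include K

variable (hn : 4 ≤ n) (hO : Over q M)
include hn hO

/-- A column with one non-zero entry. -/
lemma fixer_of_single {x : Matrix.GeneralLinearGroup (Fin n) F} (hx : x ∈ M) (hxm : ¬ IsMono x) {k : Fin n}
    (hk : (supp (col x k)).card ≤ 1) : Fixer M := by
  obtain ⟨c, hc⟩ := Finset.card_pos.1 (card_supp_col_pos K (hO.le hx).1 k)
  have hone : ∀ l, l ≠ c → (x : MM) l k = 0 := fun l hl => by
    by_contra h
    exact hl (Finset.card_le_one.1 hk l (mem_supp.2 h) c hc)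
  by_cases hck : c = k
  · exact ⟨x, hx, hxm, k, fun l hl => hone l (hck ▸ hl)⟩
  obtain ⟨m, e, hm, hmm, -, he⟩ := swapGL_exists K (by omega : 3 ≤ n) hck
  refine ⟨m * x, mul_mem (hO.mono m hm hmm) hx, fun h => hxm ((isMono_iff_mul hmm).1 h), k, fun l hl => ?_⟩
  show ((m * x : Matrix.GeneralLinearGroup (Fin n) F) : MM) l k = 0
  have h1 := congrFun (mulVec_e (m * x) k) l
  rw [Units.val_mul, ← Matrix.mulVec_mulVec, mulVec_e, he] at h1
  simp only [col, Units.val_mul] at h1
  rw [Units.val_mul, ← h1, hone, mul_zero]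
  intro h
  exact hl (by rw [← Equiv.swap_apply_self c k l, h, Equiv.swap_apply_left])

/-- Two columns with a common zero. -/
lemma fixer_or_small (hno : ¬ Fixer M) {x : Matrix.GeneralLinearGroup (Fin n) F} (hx : x ∈ M)
    (hxm : ¬ IsMono x) {a b c : Fin n} (hab : a ≠ b) (ha : (x : MM) c a = 0) (hb : (x : MM) c b = 0) :
    supp (col x a) = supp (col x b) ∧ (supp (col x a)).card ≤ 4 := by
  obtain ⟨ζ, hζ, hζn⟩ := exists_nonfix K
  have hxU := (hO.le hx).1
  have h2 : ∀ k, 2 ≤ (supp (col x k)).card := fun k => by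
    by_contra h
    exact hno (fixer_of_single K hn hO hx hxm (by omega : (supp (col x k)).card ≤ 1))
  let d : Fin n → F := fun i => if i = a then ζ else if i = b then τ ζ else 1
  have hd : ∀ i, d i * τ (d i) = 1 := fun i => by
    simp only [d]; split_ifs <;> simp [hζ, K.invol, mul_comm (τ ζ)]
  have hda : d a = ζ := if_pos rfl
  have hdb : d b = τ ζ := by simp [d, hab.symm]
  have hoff : ∀ i, i ≠ a → i ≠ b → d i = 1 := fun i h1 h2 => by simp [d, h1, h2]
  have hprod : ∏ i, d i = 1 := by
    rw [Finset.prod_eq_mul a b hab (fun i _ hi => hoff i hi.1 hi.2) (by simp) (by simp), hda, hdb, hζ]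
  set y := x * ph d hd * x⁻¹
  have hyM : y ∈ M := mul_mem (mul_mem hx (hO.mono _ (ph_mem_su K hprod) (ph_isMono K))) (inv_mem hx)
  set u := col x a
  set v := col x b
  have hy : ∀ i l, (y : MM) l i =
      (Pi.single i 1 : Fin n → F) l + (ζ - 1) * τ (u i) * u l + (τ ζ - 1) * τ (v i) * v l := by
    intro i l
    have h1 := congrFun (conj_pair_mulVec K hxU hab hoff (hd := hd) (Pi.single i 1)) l
    rw [mulVec_e, K.hh_single_left, K.hh_single_left, hda, hdb] at h1
    simpa [col, y, u, v, ← mul_assoc] using h1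
  have hfix : Fix y c := fun l hl => by rw [hy]; simp [u, v, col, ha, hb, hl]
  have hym : IsMono y := by
    by_contra h; exact hno ⟨y, hyM, h, c, hfix⟩
  obtain ⟨σ, e, he⟩ := hym.exists_eq
  have hσ : ∀ i l, l ≠ σ i → (y : MM) l i = 0 := fun i l hl => by
    rw [he, monoGL_val]; simp [monoMat, hl]
  -- a coordinate in one support only gives two non-zero entries in one column
  have key : ∀ (z : F) (u v : Fin n → F), z * τ z = 1 → τ z ≠ z → 2 ≤ (supp u).card →
      (∀ i l, (y : MM) l i = (Pi.single i 1 : Fin n → F) l + (z - 1) * τ (u i) * u l + (τ z - 1) * τ (v i) * v l) →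
      supp u ⊆ supp v := by
    intro z u v hz hzn hu2 hy i hi
    by_contra hiv
    rw [notMem_supp] at hiv
    obtain ⟨l, hl, hli⟩ := Finset.exists_mem_ne (by omega : 1 < (supp u).card) i
    have hu0 : τ (u i) ≠ 0 := fun h => mem_supp.1 hi (τ.injective (by rw [h, map_zero]))
    have e1 : (y : MM) l i ≠ 0 := by
      rw [hy, hiv, Pi.single_eq_of_ne hli]
      simp only [map_zero, mul_zero, zero_mul, add_zero, zero_add]
      exact mul_ne_zero (mul_ne_zero (sub_ne_zero.2 fun h => hzn (by rw [h, map_one])) hu0) (mem_supp.1 hl)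
    have e2 : (y : MM) i i ≠ 0 := by
      rw [hy, hiv, Pi.single_eq_same]
      simp only [map_zero, mul_zero, add_zero]
      intro h
      have hX : u i * τ (u i) ≠ 0 := mul_ne_zero (mem_supp.1 hi) hu0
      have h' := congrArg τ h
      simp only [map_add, map_mul, map_sub, map_one, map_zero, K.invol] at h'
      exact hzn (mul_right_cancel₀ hX (by linear_combination h' - h))
    have hl' : l = σ i := by by_contra hne; exact e1 (hσ i l hne)
    have hi' : i = σ i := by by_contra hne; exact e2 (hσ i i hne)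
    exact hli (hl'.trans hi'.symm)
  have hsub : supp u = supp v := by
    refine Finset.Subset.antisymm (key ζ u v hζ hζn (h2 a) hy)
      (key (τ ζ) v u (K.nm_tau hζ) (fun h => hζn (τ.injective h)) (h2 b) fun i l => ?_)
    rw [hy, K.invol]; ring
  refine ⟨hsub, ?_⟩
  rcases Nat.lt_or_ge (supp u).card 3 with h | h
  · omega
  refine (small_of_mono K (u := u) (v := v) (fun α β h => col_indep K hxU hab h) (A := ζ - 1) (B := τ ζ - 1)
    (sub_ne_zero.2 fun h => hζn (by rw [h, map_one]))
    (sub_ne_zero.2 fun h => hζn (by rw [← K.invol ζ, h, map_one]; simp))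
    σ.injective (supp u) h (fun i hi => mem_supp.1 hi) fun i _ l h1 h2 => ?_).1
  have := hσ i l h2
  rw [hy, Pi.single_eq_of_ne h1, zero_add] at this
  exact this

/-- A fixer gives a non-monomial subgroup normalised by all diagonal isometries. -/
lemma exists_normalised (hfx : Fixer M) : ∃ N : Subgroup (Matrix.GeneralLinearGroup (Fin n) F),
    N ≤ M ∧ Over q N ∧ (∃ x ∈ N, ¬ IsMono x) ∧
      ∀ (d : Fin n → F) (hd : ∀ i, d i * τ (d i) = 1), ∀ g ∈ N, ph d hd * g * (ph d hd)⁻¹ ∈ N := by
  obtain ⟨x, hx, hxm, c, hc⟩ := hfx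
  let G : Set (Matrix.GeneralLinearGroup (Fin n) F) := insert x {g | g ∈ suGL n F q ∧ IsMono g}
  set N := Subgroup.closure G
  have hNM : N ≤ M := (Subgroup.closure_le _).2 fun g hg => by
    rcases hg with rfl | ⟨hg, hgm⟩
    · exact hx
    · exact hO.mono g hg hgm
  have hmN : ∀ g ∈ suGL n F q, IsMono g → g ∈ N := fun g hg hgm =>
    Subgroup.subset_closure (Or.inr ⟨hg, hgm⟩)
  refine ⟨N, hNM, ⟨hNM.trans hO.le, hmN⟩, ⟨x, Subgroup.subset_closure (Or.inl rfl), hxm⟩, fun d hd => ?_⟩
  suffices hle : N ≤ N.comap (MulAut.conj (ph d hd)).toMonoidHom from fun g hg => hle hg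
  refine (Subgroup.closure_le _).2 fun g hg => ?_
  show ph d hd * g * (ph d hd)⁻¹ ∈ N
  rcases hg with rfl | ⟨hg, hgm⟩
  swap
  · exact hmN _ (conj_mem_su K (ph_mem_GU K) hg) (isMono_mul (isMono_mul (ph_isMono K) hgm) (isMono_inv (ph_isMono K)))
  have hxU := (hO.le hx).1
  set P := ∏ i ∈ Finset.univ.erase c, d i
  have hP : P * τ P = 1 := by
    rw [map_prod, ← Finset.prod_mul_distrib]; exact Finset.prod_eq_one fun i _ => hd i
  let d' : Fin n → F := Function.update d c (τ P)
  let δ : Fin n → F := Function.update (fun _ => 1) c (d c * P)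
  have hd' : ∀ i, d' i * τ (d' i) = 1 := fun i => by
    simp only [d', Function.update_apply]; split_ifs
    · exact K.nm_tau hP
    · exact hd i
  have hδ : ∀ i, δ i * τ (δ i) = 1 := fun i => by
    simp only [δ, Function.update_apply]; split_ifs
    · exact K.nm_mul (hd c) hP
    · simp
  have e1 : ph d hd = ph d' hd' * ph δ hδ := Units.ext <|
    CfsgLib.Geometry.matrix_eq_of_mulVec fun v => by
      rw [Units.val_mul, ← Matrix.mulVec_mulVec, ph_mulVec K, ph_mulVec K, ph_mulVec K]
      funext i
      simp only [scal, d', δ, Function.update_apply]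
      split_ifs with h
      · subst h; linear_combination (-(d i * v i)) * hP
      · ring
  have e2 : ph δ hδ * g = g * ph δ hδ := Units.ext <|
    CfsgLib.Geometry.matrix_eq_of_mulVec fun v => by
      rw [Units.val_mul, Units.val_mul, ← Matrix.mulVec_mulVec, ← Matrix.mulVec_mulVec, ph_mulVec K,
        ph_mulVec K]
      funext l
      simp only [scal, Matrix.mulVec, dotProduct, Finset.mul_sum]
      refine Finset.sum_congr rfl fun j _ => ?_
      by_cases hl : l = c <;> by_cases hj : j = c
      · subst hl hj; ring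
      · subst hl; rw [Fix.row K hxU hc hj]; ring
      · subst hj; rw [hc l hl]; ring
      · simp [δ, hl, hj]
  have hp' : ph d' hd' ∈ N := hmN _ (ph_mem_su K (by
    rw [← Finset.mul_prod_erase _ _ (Finset.mem_univ c)]
    simp only [d', Function.update_self]
    rw [Finset.prod_congr rfl fun i hi => Function.update_of_ne (Finset.ne_of_mem_erase hi) _ _,
      mul_comm, hP])) (ph_isMono K)
  rw [e1, mul_inv_rev, show ph d' hd' * ph δ hδ * g * ((ph δ hδ)⁻¹ * (ph d' hd')⁻¹) =
    ph d' hd' * (ph δ hδ * g * (ph δ hδ)⁻¹) * (ph d' hd')⁻¹ by group, e2, mul_inv_cancel_right]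
  exact mul_mem (mul_mem hp' (Subgroup.subset_closure (Or.inl rfl))) (inv_mem hp')

end CfsgLib.Maximal.SUFour.Frames
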