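import Mathlib
import Cfsg.Agent.Lib.Maximal.SUFour.FrameSparse

/-!
If no non-monomial element over the monomial group of `SU₄(q)` fixes a coordinate line, then all of them have
no zero entries, and the norms of the entries are not all equal to one.
-/

set_option autoImplicit false
set_option linter.unusedSectionVars false
set_option linter.unusedSimpArgs false

open scoped Classical

namespace CfsgLib.Maximal.SUFour.Frames

open scoped Matrix
open CfsgLib.Maximal CfsgLib.UnMono

variable {q : ℕ} {F : Type*} [Field F] [Fintype F] {τ : F ≃+* F}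
  {M : Subgroup (Matrix.GeneralLinearGroup (Fin 4) F)}

local notation "hh" => Cfsg.hermForm 4 F q
local notation "MM" => Matrix (Fin 4) (Fin 4) F
local notation "GG" => Matrix.GeneralLinearGroup (Fin 4) F
local notation "VV" => (Fin 4 → F)

/-- Some indices avoiding two given ones. -/
lemma exists_two_others (a b : Fin 4) : ∃ l l' : Fin 4, l ≠ l' ∧ l ≠ a ∧ l ≠ b ∧ l' ≠ a ∧ l' ≠ b := by
  revert a b
  decide

variable (K : Ctx 4 q τ)
include K

lemma conj_diag_mulVec {g : GG} (hg : g ∈ Cfsg.GU 4 F q) {k : Fin 4} {d : Fin 4 → F}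
    {hd : ∀ i, d i * τ (d i) = 1} {ε η : F} (hk : d k = ε * η) (hoff : ∀ i, i ≠ k → d i = ε) (z : VV) :
    ((g * ph d hd * g⁻¹ : GG) : MM) *ᵥ z = ε • (z + ((η - 1) * hh z (col g k)) • col g k) := by
  rw [Units.val_mul, Units.val_mul, ← Matrix.mulVec_mulVec, ← Matrix.mulVec_mulVec, ph_mulVec K]
  set w := ((g⁻¹ : GG) : MM) *ᵥ z with hw
  have e : scal d w = ε • (w + ((η - 1) * w k) • Pi.single k 1) := by
    funext i
    simp only [scal, Pi.add_apply, Pi.smul_apply, smul_eq_mul]
    by_cases h1 : i = k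
    · subst h1; simp [hk]; ring
    · simp [h1, hoff i h1]
  rw [e, Matrix.mulVec_smul, Matrix.mulVec_add, Matrix.mulVec_smul, mulVec_e, hw, inv_coord K hg,
    Matrix.mulVec_mulVec, ← Units.val_mul, mul_inv_cancel, Units.val_one, Matrix.one_mulVec]

/-- The quasi-reflections at the columns of elements of `M`. -/
lemma refl_mem (hO : Over q M) {x : GG} (hx : x ∈ M) (k : Fin 4) {ε : F} (hε : ε * τ ε = 1) :
    ∃ R ∈ Cfsg.GU 4 F q, (∀ z, (R : MM) *ᵥ z = z + (((ε ^ 4)⁻¹ - 1) * hh z (col x k)) • col x k) ∧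
      ∃ m ∈ M, ∀ z, (m : MM) *ᵥ z = ε • ((R : MM) *ᵥ z) := by
  have hxU := (hO.le hx).1
  set η := (ε ^ 4)⁻¹ with hη
  have hηn : η * τ η = 1 := by
    rw [hη, map_inv₀, map_pow, ← mul_inv, ← mul_pow, hε, one_pow, inv_one]
  let d₁ : Fin 4 → F := fun i => if i = k then 1 * η else 1
  have hd₁ : ∀ i, d₁ i * τ (d₁ i) = 1 := fun i => by simp only [d₁]; split_ifs <;> simp [hηn]
  let d : Fin 4 → F := fun i => if i = k then ε * η else ε
  have hd : ∀ i, d i * τ (d i) = 1 := fun i => by
    simp only [d]; split_ifs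
    · exact K.nm_mul hε hηn
    · exact hε
  have hp : ∏ i, d i = 1 := by
    have := K.ne_of_nm hε
    rw [Fin.prod_univ_four]
    simp only [d, hη]
    fin_cases k <;> simp <;> field_simp
  have hR : ∀ z, ((x * ph d₁ hd₁ * x⁻¹ : GG) : MM) *ᵥ z = z + ((η - 1) * hh z (col x k)) • col x k := fun z => by
    rw [conj_diag_mulVec K hxU (ε := 1) (η := η) (k := k) (by simp [d₁]) (fun i hi => by simp [d₁, hi]), one_smul]
  refine ⟨x * ph d₁ hd₁ * x⁻¹, (Cfsg.GU 4 F q).mul_mem ((Cfsg.GU 4 F q).mul_mem hxU (ph_mem_GU K))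
    ((Cfsg.GU 4 F q).inv_mem hxU), hR, x * ph d hd * x⁻¹,
    mul_mem (mul_mem hx (hO.mono _ (ph_mem_su K hp) (ph_isMono K))) (inv_mem hx), fun z => ?_⟩
  rw [hR, conj_diag_mulVec K hxU (ε := ε) (η := η) (k := k) (by simp [d]) (fun i hi => by simp [d, hi])]

/-- A phase with fourth power different from one. -/
lemma exists_eps (hq : 4 ≤ q) : ∃ ε : F, ε * τ ε = 1 ∧ ε ^ 4 ≠ 1 := by
  by_contra hcon
  push Not at hcon
  have hmu := card_mu K
  let P : Polynomial F := Polynomial.X ^ 4 - Polynomial.C 1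
  have hdeg : P.natDegree = 4 := Polynomial.natDegree_X_pow_sub_C
  have hP : P ≠ 0 := fun e => by rw [e] at hdeg; simp at hdeg
  have : (mu τ).card ≤ 4 := hdeg ▸ Polynomial.card_le_degree_of_subset_roots fun x hx => by
    rw [Polynomial.mem_roots hP]
    simp [P, hcon x (mem_mu.1 hx)]
  omega

omit K in
/-- Two non-zero entries in one column. -/
lemma not_mono_of_two {g : GG} {i l l' : Fin 4} (hll : l ≠ l') (h : (g : MM) l i ≠ 0) (h' : (g : MM) l' i ≠ 0) :
    ¬ IsMono g := fun hm => by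
  obtain ⟨p, hp⟩ := hm i
  exact hll ((not_not.1 fun hne => h (hp l hne)).trans (not_not.1 fun hne => h' (hp l' hne)).symm)

variable (hq : 4 ≤ q) (hO : Over q M)
include hq hO

/-- A column with a zero and at least three non-zero entries. -/
lemma fixer_of_three {x : GG} (hx : x ∈ M) {k c : Fin 4} (hc : (x : MM) c k = 0)
    (h3 : 3 ≤ (supp (col x k)).card) : Fixer M := by
  obtain ⟨ε, hε, hε4⟩ := exists_eps K hq
  obtain ⟨R, -, hR, m, hm, hmR⟩ := refl_mem K hO hx k hε
  have hne : (ε ^ 4)⁻¹ - 1 ≠ 0 := sub_ne_zero.2 fun h => hε4 (by rw [← inv_inv (ε ^ 4), h, inv_one])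
  have hε0 : ε ≠ 0 := K.ne_of_nm hε
  have hmc : ∀ i l, (m : MM) l i =
      ε * ((Pi.single i 1 : VV) l + ((ε ^ 4)⁻¹ - 1) * τ (col x k i) * col x k l) := fun i l => by
    have h1 := congrFun (hmR (Pi.single i 1)) l
    rw [mulVec_e, hR, K.hh_single_left, one_mul] at h1
    simpa [col, mul_assoc] using h1
  refine ⟨m, hm, ?_, c, fun l hl => ?_⟩
  · obtain ⟨i, hi⟩ := Finset.card_pos.1 (by omega : 0 < (supp (col x k)).card)
    obtain ⟨l, hl, l', hl', hll⟩ := Finset.one_lt_card.1 (show 1 < ((supp (col x k)).erase i).card by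
      rw [Finset.card_erase_of_mem hi]; omega)
    obtain ⟨hli, hl⟩ := Finset.mem_erase.1 hl
    obtain ⟨hli', hl'⟩ := Finset.mem_erase.1 hl'
    have hτ : τ (col x k i) ≠ 0 := fun h => mem_supp.1 hi (τ.injective (by rw [h, map_zero]))
    refine not_mono_of_two hll (i := i) ?_ ?_ <;> rw [hmc] <;>
      simp only [Pi.single_apply, if_neg hli, if_neg hli', zero_add]
    · exact mul_ne_zero hε0 (mul_ne_zero (mul_ne_zero hne hτ) (mem_supp.1 hl))
    · exact mul_ne_zero hε0 (mul_ne_zero (mul_ne_zero hne hτ) (mem_supp.1 hl'))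
  · rw [hmc]
    simp [hl, col, hc]

/-- Without fixers the non-monomial elements have no zero entries. -/
theorem dense (hno : ¬ Fixer M) {x : GG} (hx : x ∈ M) (hxm : ¬ IsMono x) (l k : Fin 4) : (x : MM) l k ≠ 0 := by
  intro h0
  have hxU := (hO.le hx).1
  -- all columns with a zero have exactly two non-zero entries
  have two : ∀ {y : GG}, y ∈ M → ¬ IsMono y → ∀ {c j : Fin 4}, (y : MM) c j = 0 → (supp (col y j)).card = 2 := by
    intro y hy hym c j hc
    have h1 : ¬ (supp (col y j)).card ≤ 1 := fun h => hno (fixer_of_single K (le_refl 4) hO hy hym h)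
    have h3 : ¬ 3 ≤ (supp (col y j)).card := fun h => hno (fixer_of_three K hq hO hy hc h)
    omega
  have hu2 := two hx hxm h0
  obtain ⟨a, b, hab, hS⟩ := Finset.card_eq_two.1 hu2
  obtain ⟨c, c', -, hca, hcb, -, -⟩ := exists_two_others a b
  have hu : ∀ i, i ≠ a → i ≠ b → (x : MM) i k = 0 := fun i h1 h2 =>
    (notMem_supp (v := col x k)).1 (by rw [hS]; simp [h1, h2])
  have hua : (x : MM) a k ≠ 0 := (mem_supp (v := col x k)).1 (by rw [hS]; simp)
  have hub : (x : MM) b k ≠ 0 := (mem_supp (v := col x k)).1 (by rw [hS]; simp)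
  -- another column with the same zero
  obtain ⟨j, hjk, hj⟩ : ∃ j, j ≠ k ∧ (x : MM) c j = 0 := by
    by_contra hcon
    push Not at hcon
    have him : ¬ IsMono x⁻¹ := fun h => hxm (by simpa using isMono_inv h)
    have hck : ((x⁻¹ : GG) : MM) k c = 0 := by rw [inv_apply K hxU, hu c hca hcb, map_zero]
    have h2 := two (inv_mem hx) him hck
    have h3 : (Finset.univ.erase k) ⊆ supp (col x⁻¹ c) := fun j hj => by
      rw [mem_supp]
      show ((x⁻¹ : GG) : MM) j c ≠ 0
      rw [inv_apply K hxU]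
      exact fun h => hcon j (Finset.ne_of_mem_erase hj) (τ.injective (by rw [h, map_zero]))
    have := Finset.card_le_card h3
    rw [Finset.card_erase_of_mem (Finset.mem_univ k)] at this
    simp at this
    omega
  obtain ⟨hsame, -⟩ := fixer_or_small K (le_refl 4) hO hno hx hxm hjk.symm (hu c hca hcb) hj
  set u := col x k with hud
  set v := col x j with hvd
  have hSv : supp v = {a, b} := by rw [← hsame, hS]
  have hu' : ∀ i, i ≠ a → i ≠ b → u i = 0 := hu
  have hv' : ∀ i, i ≠ a → i ≠ b → v i = 0 := fun i h1 h2 => notMem_supp.1 (by rw [hSv]; simp [h1, h2])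
  -- the coordinate vector of `a` in the plane of the two columns
  set r : VV := (Pi.single a 1 : VV) + ((-τ (u a)) • u + (-τ (v a)) • v) with hr
  have huu : hh u u = 1 := by simpa using hh_col K hxU k k
  have hvv : hh v v = 1 := by simpa using hh_col K hxU j j
  have huv : hh u v = 0 := by simpa [hjk.symm] using hh_col K hxU k j
  have hvu : hh v u = 0 := by simpa [hjk] using hh_col K hxU j k
  have hroff : ∀ i, i ≠ a → i ≠ b → r i = 0 := fun i h1 h2 => by simp [hr, h1, hu' i h1 h2, hv' i h1 h2]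
  have hru : hh r u = 0 := by
    rw [hr, K.form.add_left, K.form.add_left, K.form.smul_left, K.form.smul_left, huu, hvu, K.hh_single_left]
    ring
  have hrv : hh r v = 0 := by
    rw [hr, K.form.add_left, K.form.add_left, K.form.smul_left, K.form.smul_left, huv, hvv, K.hh_single_left]
    ring
  have hdet : u a * v b - u b * v a ≠ 0 := fun h => by
    have h1 := (col_indep K hxU hjk.symm (α := v a) (β := -u a) (by
      funext i
      simp only [Pi.add_apply, Pi.smul_apply, smul_eq_mul, Pi.zero_apply]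
      by_cases h1 : i = a
      · subst h1; rw [← hud, ← hvd]; ring
      by_cases h2 : i = b
      · subst h2; rw [← hud, ← hvd]; linear_combination -h
      rw [← hud, ← hvd, hu' i h1 h2, hv' i h1 h2]; ring)).2
    exact hua (neg_eq_zero.1 h1)
  rw [hh_two K hab hroff] at hru hrv
  have hr0 : r b = 0 := by
    have e : r b * (τ (u a) * τ (v b) - τ (u b) * τ (v a)) = 0 := by linear_combination τ (u a) * hrv - τ (v a) * hru
    refine (mul_eq_zero.1 e).resolve_right fun h => hdet (τ.injective ?_)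
    rw [map_sub, map_mul, map_mul, h, map_zero]
  have hra : r a = 0 := by
    have e : r a * (τ (u a) * τ (v b) - τ (u b) * τ (v a)) = 0 := by linear_combination τ (v b) * hru - τ (u b) * hrv
    refine (mul_eq_zero.1 e).resolve_right fun h => hdet (τ.injective ?_)
    rw [map_sub, map_mul, map_mul, h, map_zero]
  simp [hr, hab.symm] at hr0 hra
  -- a phase
  set N := τ (u a) * u a with hN
  have hN0 : N ≠ 0 := mul_ne_zero (fun h => hua (τ.injective (h.trans (map_zero τ).symm))) hua
  obtain ⟨ζ, hζ, hζ1, hζN⟩ : ∃ ζ : F, ζ * τ ζ = 1 ∧ τ ζ ≠ ζ ∧ ζ * ζ * N + (1 - N) ≠ 0 := by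
    let t := (N - 1) / N
    let P : Polynomial F := (Polynomial.X ^ 2 - Polynomial.C 1) * (Polynomial.X ^ 2 - Polynomial.C t)
    have h2a : (Polynomial.X ^ 2 - Polynomial.C (1 : F)).natDegree = 2 := Polynomial.natDegree_X_pow_sub_C
    have h2b : (Polynomial.X ^ 2 - Polynomial.C t).natDegree = 2 := Polynomial.natDegree_X_pow_sub_C
    have ha0 : Polynomial.X ^ 2 - Polynomial.C (1 : F) ≠ 0 := fun e => by rw [e] at h2a; simp at h2a
    have hb0 : Polynomial.X ^ 2 - Polynomial.C t ≠ 0 := fun e => by rw [e] at h2b; simp at h2b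
    have hP : P ≠ 0 := mul_ne_zero ha0 hb0
    have hd : P.natDegree = 4 := by rw [Polynomial.natDegree_mul ha0 hb0, h2a, h2b]
    obtain ⟨ζ, hζ, hζP⟩ := Finset.exists_mem_notMem_of_card_lt_card (s := P.roots.toFinset) (t := mu τ)
      (lt_of_le_of_lt ((Multiset.toFinset_card_le _).trans (Polynomial.card_roots' P))
        (by rw [hd, card_mu K]; omega))
    rw [Multiset.mem_toFinset, Polynomial.mem_roots hP] at hζP
    simp [P, sub_eq_zero] at hζP
    rw [mem_mu] at hζ
    refine ⟨ζ, hζ, fun h => ?_, fun h => ?_⟩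
    · rw [h] at hζ
      rcases mul_self_eq_one_iff.1 hζ with h' | h' <;> simp [h'] at hζP
    · have e : ζ ^ 2 = t := by
        simp only [t]; field_simp; linear_combination h
      exact hζP.2 e
  let d : Fin 4 → F := fun i => if i = k then ζ else if i = j then τ ζ else 1
  have hd : ∀ i, d i * τ (d i) = 1 := fun i => by
    simp only [d]; split_ifs <;> simp [hζ, K.invol, mul_comm (τ ζ)]
  have hoff : ∀ i, i ≠ k → i ≠ j → d i = 1 := fun i h1 h2 => by simp [d, h1, h2]
  have hp : ∏ i, d i = 1 := by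
    rw [Finset.prod_eq_mul k j hjk.symm (fun i _ hi => hoff i hi.1 hi.2) (by simp) (by simp)]
    simp [d, hjk, hζ]
  set y := x * ph d hd * x⁻¹
  have hy : ∀ i l, (y : MM) l i =
      (Pi.single i 1 : VV) l + (ζ - 1) * τ (u i) * u l + (τ ζ - 1) * τ (v i) * v l := fun i l => by
    have h1 := congrFun (conj_pair_mulVec K hxU hjk.symm hoff (hd := hd) (Pi.single i 1)) l
    rw [mulVec_e, K.hh_single_left, K.hh_single_left] at h1
    simpa [col, y, u, v, d, hjk, ← mul_assoc] using h1
  refine hno ⟨y, mul_mem (mul_mem hx (hO.mono _ (ph_mem_su K hp) (ph_isMono K))) (inv_mem hx),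
    not_mono_of_two (i := a) hab ?_ ?_, c, fun i hi => ?_⟩
  · rw [hy, Pi.single_eq_same]
    intro e
    have e' : ζ * N + τ ζ * (1 - N) = 0 := by rw [hN]; linear_combination e + (τ ζ - 1) * hra
    exact hζN (by linear_combination ζ * e' - (1 - N) * hζ)
  · rw [hy, Pi.single_eq_of_ne hab.symm]
    intro e
    have e' : (ζ - τ ζ) * (τ (u a) * u b) = 0 := by linear_combination e + (τ ζ - 1) * hr0
    exact mul_ne_zero (sub_ne_zero.2 (Ne.symm hζ1))
      (mul_ne_zero (fun h => hua (τ.injective (h.trans (map_zero τ).symm))) hub) e'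
  · rw [hy, hu' c hca hcb, hv' c hca hcb]
    simp [hi]

omit hO in
/-- Some phase with trace avoiding three values. -/
lemma exists_tr_three (hq5 : 5 ≤ q) (a b c : F) : ∃ z : F, z * τ z = 1 ∧ z + τ z ≠ a ∧ z + τ z ≠ b ∧ z + τ z ≠ c := by
  obtain ⟨T, hT, hT'⟩ := Finset.exists_mem_notMem_of_card_lt_card (s := ({a, b, c} : Finset F)) (t := trs τ)
    (lt_of_le_of_lt Finset.card_le_three (by have := card_trs K; omega))
  obtain ⟨z, hz, rfl⟩ := Finset.mem_image.1 hT
  simp only [Finset.mem_insert, Finset.mem_singleton, not_or] at hT'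
  exact ⟨z, mem_mu.1 hz, hT'.1, hT'.2.1, hT'.2.2⟩

/-- Some entry has a norm other than one. -/
theorem exists_entry (hno : ¬ Fixer M) (hNm : ∃ x ∈ M, ¬ IsMono x) :
    ∃ x ∈ M, ¬ IsMono x ∧ ∃ i k : Fin 4, (x : MM) i k * τ ((x : MM) i k) ≠ 1 := by
  by_contra hcon
  push Not at hcon
  obtain ⟨x, hx, hxm⟩ := hNm
  have hxU := (hO.le hx).1
  have h30 : (3 : F) = 0 := by
    have h1 := hh_col K hxU 0 0
    rw [if_pos rfl, K.hh_self, Fin.sum_univ_four] at h1
    simp only [col, hcon x hx hxm] at h1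
    linear_combination h1
  have hq5 : 5 ≤ q := by
    by_contra h
    have h4 : (4 : F) = 0 := by
      have := K.cast_q; rw [show q = 4 by omega] at this; exact_mod_cast this
    exact one_ne_zero (α := F) (by linear_combination h4 - h30)
  obtain ⟨z, hz, hT0, hT1, hT2⟩ := exists_tr_three K hq hq5 (0 : F) 1 2
  let d : Fin 4 → F := fun i => if i = 0 then z else if i = 1 then τ z else 1
  have hd : ∀ i, d i * τ (d i) = 1 := fun i => by
    simp only [d]; split_ifs <;> simp [hz, K.invol, mul_comm (τ z)]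
  have hp : ∏ i, d i = 1 := by simp [Fin.prod_univ_four, d, hz]
  set y := x * ph d hd * x⁻¹
  have hyM : y ∈ M := mul_mem (mul_mem hx (hO.mono _ (ph_mem_su K hp) (ph_isMono K))) (inv_mem hx)
  have hy : (y : MM) 0 0 = z + τ z - 1 := by
    have h1 := congrFun (conj_pair_mulVec K hxU (show (0 : Fin 4) ≠ 1 by decide) (hd := hd)
      (fun i h1 h2 => by simp [d, h1, h2]) (Pi.single 0 1)) 0
    rw [mulVec_e, K.hh_single_left, K.hh_single_left] at h1
    simp only [col, d, if_pos rfl, if_neg (show (1 : Fin 4) ≠ 0 by decide), Pi.add_apply, Pi.smul_apply,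
      smul_eq_mul, Pi.single_eq_same, one_mul, if_true] at h1
    refine (show ((y : GG) : MM) 0 0 = _ from h1).trans ?_
    linear_combination (z - 1) * hcon x hx hxm 0 0 + (τ z - 1) * hcon x hx hxm 0 1
  have hy0 : (y : MM) 0 0 ≠ 0 := by rw [hy]; exact sub_ne_zero.2 hT1
  have hn1 : (y : MM) 0 0 * τ ((y : MM) 0 0) = 1 := by
    by_cases hym : IsMono y
    · obtain ⟨p, hp⟩ := hym 0
      have h0p : (0 : Fin 4) = p := by by_contra hne; exact hy0 (hp 0 hne)
      have h1 := hh_col K (hO.le hyM).1 0 0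
      rwa [if_pos rfl, K.hh_self, Finset.sum_eq_single 0 (fun l _ hl => by
        simp [col, hp l (h0p ▸ hl)]) (by simp)] at h1
    · exact hcon y hyM hym 0 0
  rw [hy, map_sub, map_one, K.fix_add_tau] at hn1
  have : (z + τ z) * (z + τ z - 2) = 0 := by linear_combination hn1
  rcases mul_eq_zero.1 this with h | h
  · exact hT0 h
  · exact hT2 (sub_eq_zero.1 h)

end CfsgLib.Maximal.SUFour.Frames
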