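import Mathlib
import Cfsg.Agent.Lib.Maximal.SUFour.FrameDense
import Cfsg.Agent.Lib.Maximal.SUFour.Basic

/-!
The isometries of the plane through a coordinate vector and a column, induced by a subgroup over the monomial
group of `SU₄(q)`.
-/

set_option autoImplicit false
set_option linter.unusedSectionVars false
set_option linter.unusedSimpArgs false

open scoped Classical

namespace CfsgLib.Maximal.SUFour.Frames

open scoped Matrix
open CfsgLib.Maximal CfsgLib.UnMono

variable {q : ℕ} {F : Type*} [Field F] [Fintype F] {τ : F ≃+* F}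
  {M : Subgroup (Matrix.GeneralLinearGroup (Fin 4) F)} {i : Fin 4} {u : Fin 4 → F}

local notation "hh" => Cfsg.hermForm 4 F q
local notation "MM" => Matrix (Fin 4) (Fin 4) F
local notation "GG" => Matrix.GeneralLinearGroup (Fin 4) F
local notation "VV" => (Fin 4 → F)
local notation "ee" => (Pi.single i (1 : F) : Fin 4 → F)
local notation "zz" => (u - u i • (Pi.single i (1 : F) : Fin 4 → F))

/-- The isometries fixing the perp of the plane which are, up to a scalar, in `M`. -/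
def plane (q : ℕ) (M : Subgroup (Matrix.GeneralLinearGroup (Fin 4) F)) (i : Fin 4) (u : Fin 4 → F) :
    Subgroup (Matrix.GeneralLinearGroup (Fin 4) F) where
  carrier := {g | g ∈ Cfsg.GU 4 F q ∧ (∀ w, Cfsg.hermForm 4 F q w (Pi.single i (1 : F)) = 0 → Cfsg.hermForm 4 F q w u = 0 → (g : Matrix (Fin 4) (Fin 4) F) *ᵥ w = w) ∧
    ∃ β : F, β ≠ 0 ∧ ∃ m ∈ M, ∀ w, (m : MM) *ᵥ w = β • ((g : Matrix (Fin 4) (Fin 4) F) *ᵥ w)}
  one_mem' := ⟨one_mem _, fun w _ _ => by simp, 1, one_ne_zero, 1, one_mem M, fun w => by simp⟩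
  mul_mem' := by
    rintro a b ⟨ha, ha', β, hβ, m, hm, em⟩ ⟨hb, hb', γ, hγ, m', hm', em'⟩
    refine ⟨mul_mem ha hb, fun w h1 h2 => ?_, β * γ, mul_ne_zero hβ hγ, m * m', mul_mem hm hm', fun w => ?_⟩
    · rw [Units.val_mul, ← Matrix.mulVec_mulVec, hb' w h1 h2, ha' w h1 h2]
    · rw [Units.val_mul, Units.val_mul, ← Matrix.mulVec_mulVec, ← Matrix.mulVec_mulVec, em', Matrix.mulVec_smul, em,
        smul_smul, mul_comm γ β]
  inv_mem' := by
    rintro a ⟨ha, ha', β, hβ, m, hm, em⟩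
    refine ⟨inv_mem ha, fun w h1 h2 => ?_, β⁻¹, inv_ne_zero hβ, m⁻¹, inv_mem hm, fun w => ?_⟩
    · conv_lhs => rw [← ha' w h1 h2]
      rw [Matrix.mulVec_mulVec, ← Units.val_mul, inv_mul_cancel, Units.val_one, Matrix.one_mulVec]
    · obtain ⟨v, rfl⟩ : ∃ v, (a : MM) *ᵥ v = w := mulVec_surj a w
      have e : (a : MM) *ᵥ v = β⁻¹ • ((m : MM) *ᵥ v) := by rw [em, inv_smul_smul₀ hβ]
      conv_lhs => rw [e]
      rw [Matrix.mulVec_smul, Matrix.mulVec_mulVec, Matrix.mulVec_mulVec, ← Units.val_mul, ← Units.val_mul,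
        inv_mul_cancel, inv_mul_cancel]

/-- A plane through a coordinate vector and a dense column, over a subgroup without fixers. -/
structure Pl {q : ℕ} {F : Type*} [Field F] [Fintype F] (τ : F ≃+* F)
    (M : Subgroup (Matrix.GeneralLinearGroup (Fin 4) F)) (i : Fin 4) (u : Fin 4 → F) : Prop where
  ctx : Ctx 4 q τ
  q4 : 4 ≤ q
  over' : Over q M
  nofix : ¬ Fixer M
  uu : Cfsg.hermForm 4 F q u u = 1
  dense : ∀ l, u l ≠ 0
  ne1 : u i * τ (u i) ≠ 1
  refl : ∀ ε : F, ε * τ ε = 1 → ∃ R ∈ Cfsg.GU 4 F q,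
    (∀ z, (R : Matrix (Fin 4) (Fin 4) F) *ᵥ z = z + (((ε ^ 4)⁻¹ - 1) * Cfsg.hermForm 4 F q z u) • u) ∧
      ∃ m ∈ M, ∀ z, (m : Matrix (Fin 4) (Fin 4) F) *ᵥ z = ε • ((R : Matrix (Fin 4) (Fin 4) F) *ᵥ z)

namespace Pl

variable (P : Pl (q := q) τ M i u)
include P

lemma eu : hh ee u = τ (u i) := by rw [P.ctx.hh_single_left, one_mul]
lemma ue : hh u ee = u i := by rw [P.ctx.hh_single_right, map_one, mul_one]
lemma self_e : hh ee ee = 1 := by rw [P.ctx.hh_single_left, Pi.single_eq_same, map_one, one_mul]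

lemma sub_l (a b c : VV) : hh (a - b) c = hh a c - hh b c := hh_sub_left P.ctx a b c

lemma sub_r (c a b : VV) : hh c (a - b) = hh c a - hh c b := by
  rw [P.ctx.form.herm, P.sub_l, map_sub, ← P.ctx.form.herm, ← P.ctx.form.herm]

lemma ze : hh zz ee = 0 := by rw [P.sub_l, P.ctx.form.smul_left, P.ue, P.self_e]; ring
lemma ez : hh ee zz = 0 := by rw [P.ctx.form.herm, P.ze, map_zero]

lemma zu : hh zz u = 1 - u i * τ (u i) := by rw [P.sub_l, P.ctx.form.smul_left, P.uu, P.eu]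

lemma zself : hh zz zz = 1 - u i * τ (u i) := by
  rw [P.sub_r, un_smul_right P.ctx.form, P.ze, P.zu]; ring

lemma zself_ne : hh zz zz ≠ 0 := by rw [P.zself]; exact sub_ne_zero.2 (Ne.symm P.ne1)

lemma z_apply {l : Fin 4} (hl : l ≠ i) : (zz : VV) l = u l := by simp [hl]

lemma perp_u {w : VV} (h1 : hh w ee = 0) (h2 : hh w zz = 0) : hh w u = 0 := by
  rw [P.sub_r, un_smul_right P.ctx.form, h1] at h2
  simpa using h2

lemma perp_z {w : VV} (h1 : hh w ee = 0) (h2 : hh w u = 0) : hh w zz = 0 := by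
  rw [P.sub_r, un_smul_right P.ctx.form, h1, h2]; ring

/-- The expansion along the plane. -/
lemma rest (w : VV) : hh (w - (hh w ee • ee + (hh w zz / hh zz zz) • zz)) ee = 0 ∧
    hh (w - (hh w ee • ee + (hh w zz / hh zz zz) • zz)) u = 0 := by
  have h1 : hh (w - (hh w ee • ee + (hh w zz / hh zz zz) • zz)) ee = 0 := by
    rw [P.sub_l, P.ctx.form.add_left, P.ctx.form.smul_left, P.ctx.form.smul_left, P.ze, P.self_e]; ring
  refine ⟨h1, P.perp_u h1 ?_⟩
  rw [P.sub_l, P.ctx.form.add_left, P.ctx.form.smul_left, P.ctx.form.smul_left, P.ez,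
    div_mul_cancel₀ _ P.zself_ne]
  ring

lemma in_e : ∀ w, hh w ee = 0 → hh w u = 0 → hh ee w = 0 := fun w h1 _ => by
  rw [P.ctx.form.herm, h1, map_zero]

lemma in_z : ∀ w, hh w ee = 0 → hh w u = 0 → hh zz w = 0 := fun w h1 h2 => by
  rw [P.ctx.form.herm, P.perp_z h1 h2, map_zero]

/-- The images of the plane lie in it. -/
lemma image {g : GG} (hg : g ∈ plane q M i u) {v : VV} (hv : ∀ w, hh w ee = 0 → hh w u = 0 → hh v w = 0) :
    (g : MM) *ᵥ v = hh ((g : MM) *ᵥ v) ee • ee + (hh ((g : MM) *ᵥ v) zz / hh zz zz) • zz := by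
  obtain ⟨hgU, hfix, -⟩ := hg
  have hperp : ∀ w, hh w ee = 0 → hh w u = 0 → hh ((g : MM) *ᵥ v) w = 0 := fun w h1 h2 => by
    rw [← hfix w h1 h2, (mem_GU_iff g).1 hgU]; exact hv w h1 h2
  set x := (g : MM) *ᵥ v
  obtain ⟨h1, h2⟩ := P.rest x
  set r := x - (hh x ee • ee + (hh x zz / hh zz zz) • zz) with hr
  refine sub_eq_zero.1 (UnFour.eq_zero_of P.ctx.form fun y => ?_)
  rw [← hr]
  obtain ⟨h3, h4⟩ := P.rest y
  have hr' : ∀ w, hh w ee = 0 → hh w u = 0 → hh r w = 0 := fun w h5 h6 => by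
    rw [hr, P.sub_l, P.ctx.form.add_left, P.ctx.form.smul_left, P.ctx.form.smul_left, hperp w h5 h6,
      P.in_e w h5 h6, P.in_z w h5 h6]
    ring
  have e := hr' _ h3 h4
  rw [P.sub_r, un_add_right P.ctx.form, un_smul_right P.ctx.form, un_smul_right P.ctx.form, h1,
    P.perp_z h1 h2, mul_zero, mul_zero, add_zero, sub_zero] at e
  rw [P.ctx.form.herm, e, map_zero]

/-- Elements agreeing on the plane are equal. -/
lemma ext {g g' : GG} (hg : g ∈ plane q M i u) (hg' : g' ∈ plane q M i u)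
    (h1 : (g : MM) *ᵥ ee = (g' : MM) *ᵥ ee) (h2 : (g : MM) *ᵥ zz = (g' : MM) *ᵥ zz) : g = g' := by
  refine Units.ext (CfsgLib.Geometry.matrix_eq_of_mulVec fun w => ?_)
  obtain ⟨h3, h4⟩ := P.rest w
  set r := w - (hh w ee • ee + (hh w zz / hh zz zz) • zz) with hr
  have e : w = (hh w ee • ee + (hh w zz / hh zz zz) • zz) + r := by rw [hr]; abel
  rw [e]
  simp only [Matrix.mulVec_add, Matrix.mulVec_smul, h1, h2, hg.2.1 r h3 h4, hg'.2.1 r h3 h4]

lemma norm_scalar {g : GG} {β : F} {m : GG} (hg : g ∈ Cfsg.GU 4 F q) (hm : m ∈ M)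
    (em : ∀ w, (m : MM) *ᵥ w = β • ((g : MM) *ᵥ w)) : β * τ β = 1 := by
  have h := (mem_GU_iff m).1 (P.over'.le hm).1 ee ee
  rw [em, P.ctx.form.smul_left, un_smul_right P.ctx.form, (mem_GU_iff g).1 hg, P.self_e, mul_one] at h
  exact h

lemma det_scalar {g : GG} {β : F} {m : GG} (hm : m ∈ M)
    (em : ∀ w, (m : MM) *ᵥ w = β • ((g : MM) *ᵥ w)) : β ^ 4 * (g : MM).det = 1 := by
  have e : (m : MM) = β • (g : MM) := CfsgLib.Geometry.matrix_eq_of_mulVec fun w => by
    rw [em, Matrix.smul_mulVec]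
  have := (mem_specialLinear_iff m).1 (P.over'.le hm).2
  rwa [e, Matrix.det_smul, Fintype.card_fin] at this

/-- A column of a scaled plane element cannot be the projection of the column. -/
lemma not_to_z {g : GG} (hg : g ∈ plane q M i u) {b : F} (hb : b ≠ 0) : (g : MM) *ᵥ ee ≠ b • zz := by
  intro e
  obtain ⟨-, -, β, hβ, m, hm, em⟩ := hg
  have hcol : ∀ l, (m : MM) l i = β * b * (zz : VV) l := fun l => by
    have h1 := congrFun (em ee) l
    rw [mulVec_e, e] at h1
    rw [show (m : MM) l i = col m i l from rfl, h1, Pi.smul_apply, Pi.smul_apply, smul_eq_mul, smul_eq_mul,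
      mul_assoc]
  obtain ⟨l, l', hll, hl, -, hl', -⟩ := exists_two_others i i
  by_cases hmm : IsMono m
  · refine not_mono_of_two hll (i := i) ?_ ?_ hmm
    · rw [hcol, P.z_apply hl]; exact mul_ne_zero (mul_ne_zero hβ hb) (P.dense l)
    · rw [hcol, P.z_apply hl']; exact mul_ne_zero (mul_ne_zero hβ hb) (P.dense l')
  · exact Frames.dense P.ctx P.q4 P.over' P.nofix hm hmm i i (by rw [hcol]; simp)

/-- Eigenvalue one on the projection of the column. -/
lemma eigen {g : GG} (hg : g ∈ plane q M i u) {a b : F} (h1 : (g : MM) *ᵥ ee = a • ee)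
    (h2 : (g : MM) *ᵥ zz = b • zz) : b = 1 := by
  by_contra hb
  obtain ⟨-, hfix, β, hβ, m, hm, em⟩ := hg
  have hFix : Fix m i := fun l hl => by
    have e := congrFun (em ee) l
    rw [mulVec_e, h1] at e
    rw [show (m : MM) l i = col m i l from rfl, e]
    simp [hl]
  by_cases hmm : IsMono m
  swap
  · exact P.nofix ⟨m, hm, hmm, i, hFix⟩
  obtain ⟨c, -, -, hc, -, -, -⟩ := exists_two_others i i
  obtain ⟨l, l', hll, hli, hlc, hli', hlc'⟩ := exists_two_others i c
  obtain ⟨h3, h4⟩ := P.rest (Pi.single c 1)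
  set lam := hh (Pi.single c 1 : VV) zz / hh zz zz
  have hlam : lam ≠ 0 := div_ne_zero (by
    rw [P.ctx.hh_single_left, one_mul, P.z_apply hc]
    exact fun h => P.dense c (τ.injective (h.trans (map_zero τ).symm))) P.zself_ne
  have hgc : ∀ l, l ≠ i → l ≠ c → (m : MM) l c = β * ((b - 1) * lam * u l) := by
    intro l hli hlc
    set r : VV := (Pi.single c 1 : VV) - (hh (Pi.single c 1 : VV) ee • ee + lam • zz) with hr
    have e : (Pi.single c 1 : VV) = (hh (Pi.single c 1 : VV) ee • ee + lam • zz) + r := by rw [hr]; abel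
    have h5 := congrFun (em (Pi.single c 1)) l
    rw [mulVec_e, e, Matrix.mulVec_add, Matrix.mulVec_add, Matrix.mulVec_smul, Matrix.mulVec_smul, h1, h2,
      hfix r h3 h4] at h5
    have hrl : r l = -(lam * u l) := by
      simp [hr, hli, hlc]
    rw [show (m : MM) l c = col m c l from rfl, h5]
    simp only [Pi.smul_apply, Pi.add_apply, smul_eq_mul, hrl, P.z_apply hli,
      Pi.single_eq_of_ne hli]
    ring
  refine not_mono_of_two hll (i := c) ?_ ?_ hmm
  · rw [hgc l hli hlc]; exact mul_ne_zero hβ (mul_ne_zero (mul_ne_zero (sub_ne_zero.2 hb) hlam) (P.dense l))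
  · rw [hgc l' hli' hlc']; exact mul_ne_zero hβ (mul_ne_zero (mul_ne_zero (sub_ne_zero.2 hb) hlam) (P.dense l'))

/-- The stabiliser of the coordinate line. -/
lemma stab {g : GG} (hg : g ∈ plane q M i u) {a : F} (h1 : (g : MM) *ᵥ ee = a • ee) :
    (g : MM) *ᵥ zz = zz ∧ ∃ β : F, β * τ β = 1 ∧ a = (β ^ 4)⁻¹ := by
  have hgU := (mem_GU_iff g).1 hg.1
  have ha : a ≠ 0 := fun h => one_ne_zero (α := F) (by
    have := hgU ee ee
    rw [h1, h, zero_smul, un_zero_left P.ctx.form, P.self_e] at this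
    exact this.symm)
  have hz : (g : MM) *ᵥ zz = (hh ((g : MM) *ᵥ zz) zz / hh zz zz) • zz := by
    conv_lhs => rw [P.image hg P.in_z]
    have : hh ((g : MM) *ᵥ zz) ee = 0 := by
      have e := hgU zz ee
      rw [h1, un_smul_right P.ctx.form, P.ze] at e
      exact (mul_eq_zero.1 e).resolve_left fun h => ha (τ.injective (h.trans (map_zero τ).symm))
    rw [this, zero_smul, zero_add]
  have hb := P.eigen hg h1 hz
  rw [hb, one_smul] at hz
  refine ⟨hz, ?_⟩
  obtain ⟨hgU', hfix, β, hβ, m, hm, em⟩ := hg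
  have hβn := P.norm_scalar hgU' hm em
  refine ⟨β, hβn, ?_⟩
  let d : Fin 4 → F := fun l => if l = i then a else 1
  have han : a * τ a = 1 := by
    have e := hgU ee ee
    rwa [h1, P.ctx.form.smul_left, un_smul_right P.ctx.form, P.self_e, mul_one] at e
  have hd : ∀ l, d l * τ (d l) = 1 := fun l => by simp only [d]; split_ifs <;> simp [han]
  have hgd : (g : MM) = (ph d hd : MM) := by
    refine CfsgLib.Geometry.matrix_eq_of_mulVec fun w => ?_
    obtain ⟨h3, h4⟩ := P.rest w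
    set r := w - (hh w ee • ee + (hh w zz / hh zz zz) • zz) with hr
    have e : w = (hh w ee • ee + (hh w zz / hh zz zz) • zz) + r := by rw [hr]; abel
    conv_lhs => rw [e]
    rw [Matrix.mulVec_add, Matrix.mulVec_add, Matrix.mulVec_smul, Matrix.mulVec_smul, h1, hz, hfix r h3 h4,
      ph_mulVec P.ctx]
    have hri : r i = 0 := by
      have := h3; rwa [P.ctx.hh_single_right, map_one, mul_one] at this
    funext l
    have el := congrFun e l
    simp only [Pi.add_apply, Pi.smul_apply, Pi.sub_apply, smul_eq_mul, scal, d] at el ⊢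
    by_cases hl : l = i
    · subst hl
      simp [hri] at el ⊢
      rw [P.ctx.hh_single_right, map_one, mul_one]
      ring
    · simp [hl] at el ⊢
      exact el.symm
  have hdet := P.det_scalar hm em
  rw [hgd, ph_det P.ctx, Finset.prod_eq_single i (fun l _ hl => by simp [d, hl]) (by simp)] at hdet
  simp only [d, if_pos rfl] at hdet
  exact eq_inv_of_mul_eq_one_right hdet

/-- All those scalars occur. -/
lemma exists_stab {ε : F} (hε : ε * τ ε = 1) :
    ∃ g ∈ plane q M i u, (g : MM) *ᵥ ee = (ε ^ 4)⁻¹ • ee ∧ (g : MM) *ᵥ zz = zz := by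
  have K := P.ctx
  set a := (ε ^ 4)⁻¹ with ha
  have han : a * τ a = 1 := by rw [ha, map_inv₀, map_pow, ← mul_inv, ← mul_pow, hε, one_pow, inv_one]
  let d : Fin 4 → F := fun l => if l = i then a else 1
  have hd : ∀ l, d l * τ (d l) = 1 := fun l => by simp only [d]; split_ifs <;> simp [han]
  let d' : Fin 4 → F := fun l => ε * d l
  have hd' : ∀ l, d' l * τ (d' l) = 1 := fun l => K.nm_mul hε (hd l)
  have hp : ∏ l, d' l = 1 := by
    simp only [d', Finset.prod_mul_distrib, Finset.prod_const, Finset.card_univ, Fintype.card_fin]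
    rw [Finset.prod_eq_single i (fun l _ hl => by simp [d, hl]) (by simp)]
    simp [d, ha, K.ne_of_nm hε]
  refine ⟨ph d hd, ⟨ph_mem_GU K, fun w h1 _ => ?_, ε, K.ne_of_nm hε, ph d' hd',
    P.over'.mono _ (ph_mem_su K hp) (ph_isMono K), fun w => ?_⟩, ?_, ?_⟩
  · rw [ph_mulVec K]
    rw [K.hh_single_right, map_one, mul_one] at h1
    funext l
    by_cases hl : l = i
    · subst hl; simp [scal, h1]
    · simp [scal, d, hl]
  · rw [ph_mulVec K, ph_mulVec K]
    funext l
    simp [scal, d', mul_assoc]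
  · rw [ph_mulVec K]
    funext l
    by_cases hl : l = i
    · subst hl; simp [scal, d]
    · simp [scal, d, hl]
  · rw [ph_mulVec K]
    funext l
    by_cases hl : l = i
    · subst hl; simp [scal]
    · simp [scal, d, hl]

/-- The quasi-reflections at the column. -/
lemma refl_plane {ε : F} (hε : ε * τ ε = 1) :
    ∃ g ∈ plane q M i u, ∀ w, (g : MM) *ᵥ w = w + (((ε ^ 4)⁻¹ - 1) * hh w u) • u := by
  obtain ⟨R, hR, eR, m, hm, em⟩ := P.refl ε hε
  exact ⟨R, ⟨hR, fun w _ h2 => by rw [eR, h2]; simp, ε, P.ctx.ne_of_nm hε, m, hm, em⟩, eR⟩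

end Pl

end CfsgLib.Maximal.SUFour.Frames
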