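import Mathlib
import Cfsg.Agent.Lib.Maximal.UnSubCore
import Cfsg.Agent.Lib.Maximal.UnSimFour

/-!
A four-dimensional unitary space over `F` with a symmetric structure over the fixed subfield: rational frames,
Siegel maps, and the transvection criterion.
-/

set_option autoImplicit false
set_option linter.unusedSectionVars false
set_option linter.unusedSimpArgs false
set_option maxHeartbeats 400000

namespace CfsgLib.Maximal.SUFour

open scoped Matrix

variable {F : Type*} [Field F] [Fintype F] {τ : F ≃+* F} {h : (Fin 4 → F) → (Fin 4 → F) → F} {F₀ : Subfield F}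
  {H : Subgroup (Matrix.GeneralLinearGroup (Fin 4) F)}

local notation "VV" => (Fin 4 → F)
local notation "MM" => Matrix (Fin 4) (Fin 4) F
local notation "GG" => Matrix.GeneralLinearGroup (Fin 4) F

/-- The standing hypotheses. -/
structure Orth4 (τ : F ≃+* F) (h : (Fin 4 → F) → (Fin 4 → F) → F) (F₀ : Subfield F)
    (H : Subgroup (Matrix.GeneralLinearGroup (Fin 4) F)) : Prop where
  unit : Cfsg.Geo.IsUnitaryForm τ h
  two : (2 : F) ≠ 0
  fix : ∀ x, τ x = x ↔ x ∈ F₀
  rat : ∀ u v : Fin 4 → F, RatV F₀ u → RatV F₀ v → h u v ∈ F₀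
  le : H ≤ suH h
  mem : ∀ g, g ∈ suH h → RatUpToScalar F₀ g → g ∈ H

/-- A rational hyperbolic pair with two orthogonal anisotropic rational vectors. -/
structure Frame (h : (Fin 4 → F) → (Fin 4 → F) → F) (F₀ : Subfield F) (e f c d : Fin 4 → F) : Prop where
  re : RatV F₀ e
  rf : RatV F₀ f
  rc : RatV F₀ c
  rd : RatV F₀ d
  ee : h e e = 0
  ff : h f f = 0
  ef : h e f = 1
  ec : h e c = 0
  ed : h e d = 0
  fc : h f c = 0
  fd : h f d = 0
  cd : h c d = 0
  cc : h c c ≠ 0
  dd : h d d ≠ 0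

/-- The Siegel map of a vector with the rational parameter. -/
def uMap (h : (Fin 4 → F) → (Fin 4 → F) → F) (e w : Fin 4 → F) (x : Fin 4 → F) : Fin 4 → F :=
  eMap h e w (-(h w w / 2)) x

namespace Orth4

variable (O : Orth4 τ h F₀ H)
include O

lemma invol (x : F) : τ (τ x) = x := O.unit.involutive x

lemma add_l (a b v : VV) : h (a + b) v = h a v + h b v := O.unit.add_left a b v

lemma smul_l (t : F) (a v : VV) : h (t • a) v = t * h a v := O.unit.smul_left t a v

lemma add_r (v a b : VV) : h v (a + b) = h v a + h v b := un_add_right O.unit v a b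

lemma smul_r (t : F) (v a : VV) : h v (t • a) = τ t * h v a := un_smul_right O.unit t v a

lemma sub_l (a b v : VV) : h (a - b) v = h a v - h b v := by
  rw [sub_eq_add_neg, O.add_l, ← neg_one_smul F b, O.smul_l]; ring

lemma sub_r (v a b : VV) : h v (a - b) = h v a - h v b := by
  rw [sub_eq_add_neg, O.add_r, ← neg_one_smul F b, O.smul_r, map_neg, map_one]; ring

lemma zero_l (v : VV) : h 0 v = 0 := un_zero_left O.unit v

lemma zero_r (v : VV) : h v 0 = 0 := un_zero_right O.unit v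

lemma flip0 {u v : VV} (e : h u v = 0) : h v u = 0 := by rw [O.unit.herm, e, map_zero]

lemma flip1 {u v : VV} (e : h u v = 1) : h v u = 1 := by rw [O.unit.herm, e, map_one]

lemma real_of_mem {x : F} (hx : x ∈ F₀) : τ x = x := (O.fix x).2 hx

lemma sym {u v : VV} (hu : RatV F₀ u) (hv : RatV F₀ v) : h v u = h u v := by
  rw [O.unit.herm, O.real_of_mem (O.rat u v hu hv)]

lemma tau_ne {x : F} (hx : x ≠ 0) : τ x ≠ 0 := fun e => hx (τ.injective (by rw [e, map_zero]))

lemma two_mem : (2 : F) ∈ F₀ := by rw [← one_add_one_eq_two]; exact F₀.add_mem F₀.one_mem F₀.one_mem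

lemma half_mem {x : F} (hx : x ∈ F₀) : x / 2 ∈ F₀ := F₀.div_mem hx O.two_mem

/-- Real and skew part of a scalar. -/
lemma split {ω : F} (hω : τ ω = -ω) (hω0 : ω ≠ 0) (x : F) : ∃ a ∈ F₀, ∃ b ∈ F₀, x = a + ω * b := by
  have := O.two
  refine ⟨(x + τ x) / 2, (O.fix _).1 ?_, (x - τ x) / (2 * ω), (O.fix _).1 ?_, by field_simp; ring⟩
  · rw [map_div₀, map_add, O.invol, O.real_of_mem O.two_mem, add_comm]
  · rw [map_div₀, map_sub, O.invol, map_mul, hω, O.real_of_mem O.two_mem]
    field_simp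
    ring

/-- Some rational vector outside a span is orthogonal to it and anisotropic. -/
lemma exists_aniso (p : VV →ₗ[F] VV) (hrat : ∀ y, RatV F₀ y → RatV F₀ (p y)) {k : ℕ} (s : Fin k → VV)
    (hk : k < 4) (hps : ∀ y i, h (p y) (s i) = 0) (hdiff : ∀ y, y - p y ∈ Submodule.span F (Set.range s)) :
    ∃ z, RatV F₀ z ∧ (∀ i, h z (s i) = 0) ∧ h z z ≠ 0 := by
  classical
  by_contra hcon
  push Not at hcon
  have hiso : ∀ y, RatV F₀ y → h (p y) (p y) = 0 := fun y hy => hcon _ (hrat y hy) (hps y)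
  have horth : ∀ u v, RatV F₀ u → RatV F₀ v → h (p u) (p v) = 0 := fun u v hu hv => by
    have h1 := hiso (u + v) (hu.addV hv)
    rw [map_add, O.add_l, O.add_r, O.add_r, hiso u hu, hiso v hv, O.sym (hrat u hu) (hrat v hv)] at h1
    exact (mul_eq_zero.1 (show (2 : F) * h (p u) (p v) = 0 by linear_combination h1)).resolve_left O.two
  have hz : ∀ i, p (Pi.single i 1) = 0 := fun i => by
    refine UnFour.eq_zero_of O.unit fun z => ?_
    obtain ⟨w, hw⟩ : ∃ w, w = z - p z := ⟨_, rfl⟩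
    have hperp : ∀ v ∈ Submodule.span F (Set.range s), h v (p (Pi.single i 1)) = 0 := fun v hv => by
      induction hv using Submodule.span_induction with
      | mem v hv => obtain ⟨j, rfl⟩ := hv; exact O.flip0 (hps _ j)
      | zero => exact O.zero_l _
      | add u v _ _ hu hv => rw [O.add_l, hu, hv, add_zero]
      | smul c u _ hu => rw [O.smul_l, hu, mul_zero]
    have hsum : h (p z) (p (Pi.single i 1)) = 0 := by
      rw [pi_eq_sum_univ' z, map_sum, un_sum_left O.unit]
      refine Finset.sum_eq_zero fun j _ => ?_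
      rw [map_smul, O.smul_l, horth _ _ (ratV_single j F₀.one_mem) (ratV_single i F₀.one_mem), mul_zero]
    rw [show z = (z - p z) + p z by abel, O.add_l, hperp _ (hdiff z), hsum, add_zero]
  have htop : (⊤ : Submodule F VV) ≤ Submodule.span F (Set.range s) := fun y _ => by
    rw [pi_eq_sum_univ' y]
    refine Submodule.sum_mem _ fun i _ => Submodule.smul_mem _ _ ?_
    have := hdiff (Pi.single i 1)
    rwa [hz i, sub_zero] at this
  have h1 := (Submodule.finrank_mono htop).trans (finrank_range_le_card s)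
  simp at h1
  omega

/-- Every rational isotropic vector starts a frame. -/
lemma exists_frame {e : VV} (he : RatV F₀ e) (hee : h e e = 0) (he0 : e ≠ 0) :
    ∃ f c d, Frame h F₀ e f c d := by
  classical
  obtain ⟨y, hy, hye⟩ : ∃ y, RatV F₀ y ∧ h y e ≠ 0 := by
    by_contra hcon
    push Not at hcon
    refine he0 (UnFour.eq_zero_of O.unit fun z => ?_)
    rw [pi_eq_sum_univ' z, un_sum_left O.unit]
    exact Finset.sum_eq_zero fun j _ => by rw [O.smul_l, hcon _ (ratV_single j F₀.one_mem), mul_zero]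
  obtain ⟨f, hf, hff, hfe⟩ : ∃ f, RatV F₀ f ∧ h f f = 0 ∧ h f e = 1 := by
    refine ⟨(h y e)⁻¹ • y - (h ((h y e)⁻¹ • y) ((h y e)⁻¹ • y) / 2) • e, ?_, ?_, ?_⟩
    · have hy' := hy.smul (F₀.inv_mem (O.rat _ _ hy he))
      exact hy'.sub (he.smul (O.half_mem (O.rat _ _ hy' hy')))
    · set y' := (h y e)⁻¹ • y with hy'def
      have hy' : RatV F₀ y' := hy.smul (F₀.inv_mem (O.rat _ _ hy he))
      have h1 : h y' e = 1 := by rw [hy'def, O.smul_l, inv_mul_cancel₀ hye]
      simp only [O.sub_l, O.sub_r, O.smul_l, O.smul_r, hee, h1, O.flip1 h1,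
        O.real_of_mem (O.half_mem (O.rat _ _ hy' hy'))]
      have := O.two
      field_simp
      ring
    · rw [O.sub_l, O.smul_l, O.smul_l, hee, inv_mul_cancel₀ hye, mul_zero, sub_zero]
  have hef : h e f = 1 := O.flip1 hfe
  let p : VV →ₗ[F] VV :=
    { toFun := fun y => y - h y f • e - h y e • f
      map_add' := fun a b => by simp only [O.add_l]; module
      map_smul' := fun t a => by simp only [O.smul_l, RingHom.id_apply]; module }
  have hpe : ∀ y, h (p y) e = 0 := fun y => by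
    show h (y - h y f • e - h y e • f) e = 0
    rw [O.sub_l, O.sub_l, O.smul_l, O.smul_l, hee, hfe]; ring
  have hpf : ∀ y, h (p y) f = 0 := fun y => by
    show h (y - h y f • e - h y e • f) f = 0
    rw [O.sub_l, O.sub_l, O.smul_l, O.smul_l, hff, hef]; ring
  have hprat : ∀ y, RatV F₀ y → RatV F₀ (p y) := fun y hy =>
    (hy.sub (he.smul (O.rat _ _ hy hf))).sub (hf.smul (O.rat _ _ hy he))
  obtain ⟨c, hc, hcp, hcc⟩ := O.exists_aniso p hprat ![e, f] (by norm_num)
    (fun y i => by fin_cases i; exacts [hpe y, hpf y]) fun y => by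
      show y - (y - h y f • e - h y e • f) ∈ _
      rw [show y - (y - h y f • e - h y e • f) = h y f • e + h y e • f by abel]
      exact add_mem (Submodule.smul_mem _ _ (Submodule.subset_span ⟨0, rfl⟩))
        (Submodule.smul_mem _ _ (Submodule.subset_span ⟨1, rfl⟩))
  have hce : h c e = 0 := hcp 0
  have hcf : h c f = 0 := hcp 1
  let p' : VV →ₗ[F] VV :=
    { toFun := fun y => p y - (h (p y) c / h c c) • c
      map_add' := fun a b => by simp only [map_add, O.add_l, add_div]; module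
      map_smul' := fun t a => by simp only [map_smul, O.smul_l, RingHom.id_apply, mul_div_assoc]; module }
  obtain ⟨d, hd, hdp, hdd⟩ := O.exists_aniso p'
    (fun y hy => (hprat y hy).sub (hc.smul (F₀.div_mem (O.rat _ _ (hprat y hy) hc) (O.rat _ _ hc hc)))) ![e, f, c]
    (by norm_num) (fun y i => by
      show h (p y - (h (p y) c / h c c) • c) _ = 0
      fin_cases i <;> simp [O.sub_l, O.smul_l, hpe, hpf, hce, hcf, hcc]) fun y => by
      show y - ((y - h y f • e - h y e • f) - (h (p y) c / h c c) • c) ∈ _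
      rw [show y - ((y - h y f • e - h y e • f) - (h (p y) c / h c c) • c)
        = h y f • e + h y e • f + (h (p y) c / h c c) • c by abel]
      exact add_mem (add_mem (Submodule.smul_mem _ _ (Submodule.subset_span ⟨0, rfl⟩))
        (Submodule.smul_mem _ _ (Submodule.subset_span ⟨1, rfl⟩)))
        (Submodule.smul_mem _ _ (Submodule.subset_span ⟨2, rfl⟩))
  exact ⟨f, c, d, he, hf, hc, hd, hee, hff, hef, O.flip0 hce, O.flip0 (hdp 0), O.flip0 hcf, O.flip0 (hdp 1),
    O.flip0 (hdp 2), hcc, hdd⟩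

variable {e f c d : Fin 4 → F} (R : Frame h F₀ e f c d)
include R

lemma fe : h f e = 1 := O.flip1 R.ef

lemma ce : h c e = 0 := O.flip0 R.ec

lemma de : h d e = 0 := O.flip0 R.ed

lemma cf : h c f = 0 := O.flip0 R.fc

lemma df : h d f = 0 := O.flip0 R.fd

lemma dc : h d c = 0 := O.flip0 R.cd

lemma e_ne : e ≠ 0 := fun h0 => one_ne_zero (α := F) (by rw [← R.ef, h0, O.zero_l])

lemma swap : Frame h F₀ f e c d :=
  ⟨R.rf, R.re, R.rc, R.rd, R.ff, R.ee, O.fe R, R.fc, R.fd, R.ec, R.ed, R.cd, R.cc, R.dd⟩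

lemma gram (α β κ μ : F) : h (α • e + β • f + κ • c + μ • d) f = α ∧ h (α • e + β • f + κ • c + μ • d) e = β ∧
    h (α • e + β • f + κ • c + μ • d) c = κ * h c c ∧ h (α • e + β • f + κ • c + μ • d) d = μ * h d d := by
  simp [O.add_l, O.smul_l, R.ee, R.ff, R.ef, R.ec, R.ed, R.fc, R.fd, R.cd, O.fe R, O.ce R, O.de R, O.cf R, O.df R,
    O.dc R]

lemma expand (x : VV) : x = h x f • e + h x e • f + (h x c / h c c) • c + (h x d / h d d) • d := by
  classical
  have hli : LinearIndependent F ![e, f, c, d] := by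
    rw [Fintype.linearIndependent_iff]
    intro g hg
    rw [Fin.sum_univ_four] at hg
    simp only [Matrix.cons_val_zero, Matrix.cons_val_one, Matrix.cons_val] at hg
    obtain ⟨h1, h2, h3, h4⟩ := O.gram R (g 0) (g 1) (g 2) (g 3)
    rw [hg, O.zero_l] at h1 h2 h3 h4
    intro i
    fin_cases i
    exacts [h1.symm, h2.symm, (mul_eq_zero.1 h3.symm).resolve_right R.cc, (mul_eq_zero.1 h4.symm).resolve_right R.dd]
  have htop := hli.span_eq_top_of_card_eq_finrank' (by simp)
  obtain ⟨g, hg⟩ := (Submodule.mem_span_range_iff_exists_fun F).1 (htop.symm ▸ Submodule.mem_top (x := x))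
  rw [Fin.sum_univ_four] at hg
  simp only [Matrix.cons_val_zero, Matrix.cons_val_one, Matrix.cons_val] at hg
  obtain ⟨h1, h2, h3, h4⟩ := O.gram R (g 0) (g 1) (g 2) (g 3)
  rw [hg] at h1 h2 h3 h4
  rw [h1, h2, h3, h4, mul_div_cancel_right₀ _ R.cc, mul_div_cancel_right₀ _ R.dd, hg]

lemma ext_frame {x : VV} (h1 : h x e = 0) (h2 : h x f = 0) (h3 : h x c = 0) (h4 : h x d = 0) : x = 0 := by
  rw [O.expand R x, h1, h2, h3, h4]; simp

/-- A matrix is rational as soon as it is on a frame. -/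
lemma ratM_of_frame {A : MM} (h1 : RatV F₀ (A *ᵥ e)) (h2 : RatV F₀ (A *ᵥ f)) (h3 : RatV F₀ (A *ᵥ c))
    (h4 : RatV F₀ (A *ᵥ d)) : RatM F₀ A := fun i j => by
  have hx : RatV F₀ (Pi.single j 1 : VV) := ratV_single j F₀.one_mem
  have e1 : A i j = (A *ᵥ (Pi.single j 1 : VV)) i := by simp
  rw [e1, O.expand R (Pi.single j 1)]
  simp only [Matrix.mulVec_add, Matrix.mulVec_smul]
  exact ((((h1.smul (O.rat _ _ hx R.rf)).addV (h2.smul (O.rat _ _ hx R.re))).addV
    (h3.smul (F₀.div_mem (O.rat _ _ hx R.rc) (O.rat _ _ R.rc R.rc)))).addV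
    (h4.smul (F₀.div_mem (O.rat _ _ hx R.rd) (O.rat _ _ R.rd R.rd)))) i

omit R

lemma gram_self {x : VV} (hx : RatV F₀ x) : τ (h x x) = h x x := O.real_of_mem (O.rat x x hx hx)

lemma exists_eMap {u w : VV} {t : F} (huu : h u u = 0) (hw : h w u = 0) (ht : t + τ t + h w w = 0) :
    ∃ g ∈ suH h, ∀ x, Units.val g *ᵥ x = eMap h u w t x :=
  ⟨unSiegel O.unit huu hw t, ⟨fun x y => unSiegel_isometry O.unit huu hw ht x y, unSiegel_mem_SL O.unit huu hw t⟩,
    fun x => unSiegel_mulVec O.unit huu hw t x⟩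

lemma eMap_comp {u w w' : VV} (huu : h u u = 0) (hw : h w u = 0) (hw' : h w' u = 0) (t t' : F) (x : VV) :
    eMap h u w t (eMap h u w' t' x) = eMap h u (w + w') (t + t' - h w' w) x := by
  simp only [eMap, O.add_l, O.smul_l, O.add_r, huu, hw', O.flip0 hw, mul_zero, add_zero]
  module

lemma eMap_shift {u : VV} (w : VV) (s t : F) (x : VV) :
    eMap h u (w + s • u) t x = eMap h u w (t + s - τ s) x := by
  simp only [eMap, O.add_r, O.smul_r]
  module

lemma eMap_smul (u w : VV) (s t : F) (x : VV) :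
    eMap h (s • u) w t x = eMap h u (τ s • w) (s * τ s * t) x := by
  simp only [eMap, O.smul_r, O.invol]
  module

lemma eMap_zero_right (u : VV) (t : F) (x : VV) : eMap h u 0 t x = tMap h t u x := by
  simp only [eMap, tMap, O.zero_r]
  module

lemma eMap_conj {u w : VV} {t : F} (hm : HasMap H (eMap h u w t)) {g : GG} (hg : g ∈ H) :
    HasMap H (eMap h (Units.val g *ᵥ u) (Units.val g *ᵥ w) t) := by
  obtain ⟨k, hk, ek⟩ := hm
  refine ⟨g * k * g⁻¹, mul_mem (mul_mem hg hk) (inv_mem hg), fun y => ?_⟩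
  obtain ⟨x, rfl⟩ := mulVec_surj g y
  simp only [Units.val_mul, ← Matrix.mulVec_mulVec]
  rw [Matrix.mulVec_mulVec x, ← Units.val_mul, inv_mul_cancel, Units.val_one, Matrix.one_mulVec, ek]
  simp only [eMap, Matrix.mulVec_add, Matrix.mulVec_smul, suH_iso (O.le hg)]

lemma tMap_conj {u : VV} {k : F} (hm : HasMap H (tMap h k u)) {g : GG} (hg : g ∈ H) :
    HasMap H (tMap h k (Units.val g *ᵥ u)) := by
  have h1 := O.eMap_conj (hm.congr fun x => (O.eMap_zero_right u k x).symm) hg
  rw [Matrix.mulVec_zero] at h1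
  exact h1.congr fun x => O.eMap_zero_right _ k x

/-- The rational Siegel maps belong to the group. -/
lemma uMap_mem {u w : VV} (hu : RatV F₀ u) (huu : h u u = 0) (hw : RatV F₀ w) (hwu : h w u = 0) :
    HasMap H (uMap h u w) := by
  have hr := O.half_mem (O.rat _ _ hw hw)
  obtain ⟨g, hg, eg⟩ := O.exists_eMap (t := -(h w w / 2)) huu hwu (by
    rw [map_neg, O.real_of_mem hr]
    have := O.two
    field_simp
    ring)
  refine ⟨g, O.mem g hg ⟨1, one_ne_zero, fun i j => ?_⟩, eg⟩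
  have hx : RatV F₀ (Pi.single j 1 : VV) := ratV_single j F₀.one_mem
  have e1 : ((1 : F) • Units.val g) i j = eMap h u w (-(h w w / 2)) (Pi.single j 1) i := by
    rw [← eg, one_smul]; simp
  rw [e1]
  exact (((hx.addV (hu.smul (F₀.sub_mem (F₀.mul_mem (F₀.neg_mem hr) (O.rat _ _ hx hu)) (O.rat _ _ hx hw))))).addV
    (hw.smul (O.rat _ _ hx hu))) i

include R

/-- Every rational point is the image of the first one. -/
lemma move {e' : VV} (he' : RatV F₀ e') (hee' : h e' e' = 0) (he0 : e' ≠ 0) :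
    ∃ g ∈ H, RatM F₀ (Units.val g) ∧ ∃ s : F, s ≠ 0 ∧ Units.val g *ᵥ e = s • e' := by
  have ratM_of : ∀ {u w : VV}, RatV F₀ u → RatV F₀ w → ∀ {g : GG},
      (∀ x, Units.val g *ᵥ x = uMap h u w x) → RatM F₀ (Units.val g) := by
    intro u w hu hw g eg
    have key : ∀ x, RatV F₀ x → RatV F₀ (Units.val g *ᵥ x) := fun x hx => by
      rw [eg]
      exact (hx.addV (hu.smul (F₀.sub_mem (F₀.mul_mem (F₀.neg_mem (O.half_mem (O.rat _ _ hw hw)))
        (O.rat _ _ hx hu)) (O.rat _ _ hx hw)))).addV (hw.smul (O.rat _ _ hx hu))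
    exact O.ratM_of_frame R (key _ R.re) (key _ R.rf) (key _ R.rc) (key _ R.rd)
  -- a partner not orthogonal to the target
  obtain ⟨w, hw, hwe, hne⟩ : ∃ w, RatV F₀ w ∧ h w e = 0 ∧ h e' (uMap h e w f) ≠ 0 := by
    have hf : ∀ w, uMap h e w f = f + (-(h w w / 2) - h f w) • e + w := fun w => by
      simp only [uMap, eMap, O.fe R, mul_one, one_smul]
    by_contra hcon
    push Not at hcon
    have h0 := hcon 0 ratV_zero (O.zero_l e)
    rw [hf, O.zero_l, O.zero_r] at h0
    simp [O.add_r, O.smul_r] at h0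
    have hc1 := hcon c R.rc (O.ce R)
    have hc2 := hcon ((-1 : F) • c) (R.rc.smul (F₀.neg_mem F₀.one_mem)) (by rw [O.smul_l, O.ce R, mul_zero])
    have hd1 := hcon d R.rd (O.de R)
    have gc := O.gram_self R.rc
    simp only [hf, R.fc, R.fd, O.smul_r, O.smul_l, O.add_r, h0, map_neg, map_one, map_sub, map_div₀, map_zero,
      neg_zero, mul_zero, O.real_of_mem O.two_mem, O.gram_self R.rc, O.gram_self R.rd] at hc1 hc2 hd1
    have hcc : h c c * h e' e = 0 := by
      have := O.two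
      field_simp at hc1 hc2
      have h4 : (2 : F) * (h c c * h e' e) = 0 := by linear_combination -(hc1 + hc2) - h e' e * gc
      exact (mul_eq_zero.1 h4).resolve_left this
    have he : h e' e = 0 := (mul_eq_zero.1 hcc).resolve_left R.cc
    rw [he] at hc1 hd1
    simp at hc1 hd1
    exact he0 (O.ext_frame R he h0 hc1 hd1)
  -- the new partner
  set f' := uMap h e w f with hf'
  obtain ⟨g₁, hg₁, e₁⟩ := O.uMap_mem R.re R.ee hw hwe
  have hf'r : RatV F₀ f' := by
    rw [hf', ← e₁]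
    exact (ratM_of R.re hw e₁).mulVec R.rf
  have hf'f : h f' f' = 0 := by rw [hf', ← e₁, suH_iso (O.le hg₁), R.ff]
  have hf'e : h f' e = 1 := by
    have : h (Units.val g₁ *ᵥ f) (Units.val g₁ *ᵥ e) = 1 := by rw [suH_iso (O.le hg₁), O.fe R]
    rwa [e₁, e₁ e, show uMap h e w e = e by simp [uMap, eMap, R.ee, O.flip0 hwe]] at this
  set a := h e' f' with ha
  set z := a⁻¹ • e' - e - (a⁻¹ * h e' e) • f' with hz
  have haF : a ∈ F₀ := O.rat _ _ he' hf'r
  have hzr : RatV F₀ z :=
    ((he'.smul (F₀.inv_mem haF)).sub R.re).sub (hf'r.smul (F₀.mul_mem (F₀.inv_mem haF) (O.rat _ _ he' R.re)))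
  have hzf : h z f' = 0 := by
    rw [hz, O.sub_l, O.sub_l, O.smul_l, O.smul_l, hf'f, O.flip1 hf'e, ← ha, inv_mul_cancel₀ hne]; ring
  have hze : h z e = 0 := by
    rw [hz, O.sub_l, O.sub_l, O.smul_l, O.smul_l, R.ee, hf'e]; ring
  obtain ⟨g₂, hg₂, e₂⟩ := O.uMap_mem hf'r hf'f hzr hzf
  refine ⟨g₂, hg₂, ratM_of hf'r hzr e₂, a⁻¹, inv_ne_zero hne, ?_⟩
  have hee : a⁻¹ • e' = z + e + (a⁻¹ * h e' e) • f' := by rw [hz]; abel
  have hzz : h (a⁻¹ • e') (a⁻¹ • e') = 0 := by rw [O.smul_l, O.smul_r, hee']; ring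
  rw [hee] at hzz
  have hre : τ (a⁻¹ * h e' e) = a⁻¹ * h e' e := O.real_of_mem (F₀.mul_mem (F₀.inv_mem haF) (O.rat _ _ he' R.re))
  simp only [O.add_l, O.add_r, O.smul_l, O.smul_r, hzf, hze, O.flip0 hzf, O.flip0 hze, hf'f, hf'e, O.flip1 hf'e,
    R.ee, hre] at hzz
  rw [e₂, hee, uMap, eMap, O.flip0 hze, O.flip1 hf'e, one_smul, mul_one, sub_zero]
  have := O.two
  rw [show -(h z z / 2) = a⁻¹ * h e' e by field_simp at hzz ⊢; refine mul_left_cancel₀ hne ?_; linear_combination -hzz]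
  abel

/-- Scaling a hyperbolic pair. -/
lemma exists_scale {a : F} (ha : a ∈ F₀) (ha0 : a ≠ 0) : ∃ g ∈ H, Units.val g *ᵥ e = a • e := by
  classical
  let U : Matrix (Fin 4) (Fin 2) F := Matrix.of fun i j => ![e, f] j i
  let W : Matrix (Fin 2) (Fin 4) F := Matrix.of fun j i => ![(a - 1) • fvec h f, (a⁻¹ - 1) • fvec h e] j i
  have act : ∀ x, (1 + U * W) *ᵥ x = x + ((a - 1) * h x f) • e + ((a⁻¹ - 1) * h x e) • f := by
    intro x
    have hU : ∀ y : Fin 2 → F, U *ᵥ y = y 0 • e + y 1 • f := fun y => funext fun i => by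
      simp [U, Matrix.mulVec, dotProduct, Fin.sum_univ_two, mul_comm]
    rw [Matrix.add_mulVec, Matrix.one_mulVec, ← Matrix.mulVec_mulVec, hU]
    have h0 : (W *ᵥ x) 0 = (a - 1) * h x f := by
      rw [← un_dot O.unit f x, ← smul_eq_mul, ← smul_dotProduct]; rfl
    have h1 : (W *ᵥ x) 1 = (a⁻¹ - 1) * h x e := by
      rw [← un_dot O.unit e x, ← smul_eq_mul, ← smul_dotProduct]; rfl
    rw [h0, h1]
    module
  have hWU : W * U = Matrix.diagonal ![a - 1, a⁻¹ - 1] := by
    ext j l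
    have e1 : (W * U) j l = ![(a - 1) • fvec h f, (a⁻¹ - 1) • fvec h e] j ⬝ᵥ ![e, f] l := rfl
    rw [e1]
    fin_cases j <;> fin_cases l <;>
      simp [smul_dotProduct, un_dot O.unit, R.ee, R.ff, R.ef, O.fe R]
  have hdet : (1 + U * W).det = 1 := by
    rw [Matrix.det_one_add_mul_comm, hWU, ← Matrix.diagonal_one, Matrix.diagonal_add, Matrix.det_diagonal,
      Fin.prod_univ_two]
    simp
    field_simp
  let g : GG := Matrix.GeneralLinearGroup.mkOfDetNeZero (1 + U * W) (by rw [hdet]; exact one_ne_zero)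
  have eg : ∀ x, Units.val g *ᵥ x = x + ((a - 1) * h x f) • e + ((a⁻¹ - 1) * h x e) • f := act
  have hτ : τ a = a := O.real_of_mem ha
  have hgs : g ∈ suH h := by
    refine ⟨fun x y => ?_, (mem_specialLinear_iff g).2 hdet⟩
    show h (Units.val g *ᵥ x) (Units.val g *ᵥ y) = h x y
    rw [eg, eg]
    simp only [O.add_l, O.add_r, O.smul_l, O.smul_r, R.ee, R.ff, R.ef, O.fe R, map_mul, map_sub, map_inv₀, map_one,
      hτ, ← O.unit.herm]
    field_simp
    ring
  refine ⟨g, O.mem g hgs ⟨1, one_ne_zero, ?_⟩, ?_⟩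
  · rw [one_smul]
    refine O.ratM_of_frame R ?_ ?_ ?_ ?_ <;> rw [eg] <;>
      simp only [R.ee, R.ff, R.ef, R.fc, R.fd, O.fe R, O.ce R, O.cf R, O.de R, O.df R, mul_zero, mul_one, zero_smul,
        add_zero]
    · exact R.re.addV (R.re.smul (F₀.sub_mem ha F₀.one_mem))
    · exact R.rf.addV (R.rf.smul (F₀.sub_mem (F₀.inv_mem ha) F₀.one_mem))
    · exact R.rc
    · exact R.rd
  · rw [eg, R.ee, R.ef]
    module

end Orth4

end CfsgLib.Maximal.SUFour
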