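import Mathlib
import Cfsg.Agent.Lib.Maximal.SUFour.OrthBasic

/-!
One transvection with a rational centre gives all transvections.
-/

set_option autoImplicit false
set_option linter.unusedSectionVars false
set_option linter.unusedSimpArgs false
set_option maxHeartbeats 400000

namespace CfsgLib.Maximal.SUFour

open scoped Matrix

variable {F : Type*} [Field F] [Fintype F] {τ : F ≃+* F} {h : (Fin 4 → F) → (Fin 4 → F) → F} {F₀ : Subfield F}
  {H : Subgroup (Matrix.GeneralLinearGroup (Fin 4) F)}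

local notation "VV" => (Fin 4 → F)

/-- All transvections at a centre. -/
def TFull (τ : F ≃+* F) (h : (Fin 4 → F) → (Fin 4 → F) → F) (H : Subgroup (Matrix.GeneralLinearGroup (Fin 4) F))
    (v : Fin 4 → F) : Prop :=
  ∀ k, τ k = -k → HasMap H (tMap h k v)

namespace Orth4

variable (O : Orth4 τ h F₀ H)
include O

lemma tfull_smul {v : VV} (hv : TFull τ h H v) (s : F) : TFull τ h H (s • v) := fun k hk => by
  refine (hv (k * (s * τ s)) (by rw [map_mul, map_mul, O.invol, hk]; ring)).congr fun x => ?_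
  simp only [tMap, O.smul_r]
  module

lemma tfull_move {v w : VV} (hv : TFull τ h H v) {g : Matrix.GeneralLinearGroup (Fin 4) F} (hg : g ∈ H)
    (e : Units.val g *ᵥ v = w) : TFull τ h H w := fun k hk => e ▸ O.tMap_conj (hv k hk) hg

variable {e f c d : Fin 4 → F} (R : Frame h F₀ e f c d)
include R

/-- All parameters at the centre. -/
lemma tfull_first {k₀ : F} (hk0 : k₀ ≠ 0) (hk : τ k₀ = -k₀) (hm : HasMap H (tMap h k₀ e)) : TFull τ h H e := by
  have sq : ∀ a ∈ F₀, HasMap H (tMap h (k₀ * (a * a)) e) := fun a ha => by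
    by_cases ha0 : a = 0
    · refine hasMap_id.congr fun x => ?_
      simp [tMap, ha0]
    obtain ⟨g, hg, eg⟩ := O.exists_scale R ha ha0
    refine (O.tMap_conj hm hg).congr fun x => ?_
    simp only [tMap, eg, O.smul_r, O.real_of_mem ha]
    module
  intro k hk'
  set s := k / k₀ with hs
  have hsF : s ∈ F₀ := (O.fix s).1 (by rw [hs, map_div₀, hk, hk', neg_div_neg_eq])
  set a := (s + 1) / 2
  set b := (s - 1) / 2
  have ha := sq a (F₀.div_mem (F₀.add_mem hsF F₀.one_mem) O.two_mem)
  have hb := sq b (F₀.div_mem (F₀.sub_mem hsF F₀.one_mem) O.two_mem)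
  refine HasMap.left_cancel hb (ha.congr fun x => ?_)
  have hk2 : k₀ * (a * a) = k₀ * (b * b) + k := by
    have := O.two
    simp only [a, b, hs]
    field_simp
    ring
  simp only [tMap, Function.comp, O.add_l, O.smul_l, R.ee, hk2]
  module

lemma tfull_rat (hE : TFull τ h H e) {r : VV} (hr : RatV F₀ r) (hrr : h r r = 0) : TFull τ h H r := by
  by_cases hr0 : r = 0
  · intro k _
    exact hasMap_id.congr fun x => by simp [tMap, hr0]
  obtain ⟨g, hg, -, s, hs, eg⟩ := O.move R hr hrr hr0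
  have h1 := O.tfull_smul (O.tfull_move hE hg eg) s⁻¹
  rwa [inv_smul_smul₀ hs] at h1

omit R

/-- A point on the line of two full rational points. -/
lemma tfull_line {r r' : VV} (hr : RatV F₀ r) (hr' : RatV F₀ r') (hrr : h r r = 0) (hrr' : h r' r' = 0)
    (hne : h r r' ≠ 0) (hF : TFull τ h H r) (hF' : TFull τ h H r') {α β : F}
    (hiso : h (α • r + β • r') (α • r + β • r') = 0) : TFull τ h H (α • r + β • r') := by
  by_cases hα : α = 0
  · simpa [hα] using O.tfull_smul hF' β
  set k := β / (α * h r r') with hk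
  have hre : τ (h r r') = h r r' := O.real_of_mem (O.rat _ _ hr hr')
  have hτα := O.tau_ne hα
  have hskew : τ k = -k := by
    simp only [O.add_l, O.add_r, O.smul_l, O.smul_r, hrr, hrr', O.sym hr hr'] at hiso
    have h1 : α * τ β + β * τ α = 0 := (mul_eq_zero.1 (show (α * τ β + β * τ α) * h r r' = 0 by
      linear_combination hiso)).resolve_right hne
    rw [hk, map_div₀, map_mul, hre]
    field_simp
    linear_combination h1
  obtain ⟨g, hg, eg⟩ := hF' k hskew
  have h1 : TFull τ h H (r + (β / α) • r') := O.tfull_move hF hg (by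
    rw [eg, tMap]
    congr 2
    rw [hk]
    field_simp)
  have h2 := O.tfull_smul h1 α
  rwa [smul_add, smul_smul, mul_div_cancel₀ _ hα] at h2

include R

/-- All isotropic points are full. -/
theorem full_of_tv (hq : 5 ≤ Nat.card F₀) {k₀ : F} (hk0 : k₀ ≠ 0) (hk : τ k₀ = -k₀)
    (hm : HasMap H (tMap h k₀ e)) {x : VV} (hxx : h x x = 0) : TFull τ h H x := by
  classical
  have hall : ∀ r, RatV F₀ r → h r r = 0 → TFull τ h H r := fun r => O.tfull_rat R (O.tfull_first R hk0 hk hm)
  by_cases hx0 : x = 0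
  · intro k _
    exact hasMap_id.congr fun y => by simp [tMap, hx0]
  -- a rational centre not orthogonal to the point
  obtain ⟨p, hp, hpp, hxp⟩ : ∃ p, RatV F₀ p ∧ h p p = 0 ∧ h x p ≠ 0 := by
    by_contra hcon
    push Not at hcon
    have h1 := hcon e R.re R.ee
    have h2 := hcon f R.rf R.ff
    have side : ∀ w, RatV F₀ w → h w e = 0 → h w f = 0 → h x w = 0 := fun w hw hwe hwf => by
      obtain ⟨g, hg, eg⟩ := O.uMap_mem R.rf R.ff hw hwf
      have hge : Units.val g *ᵥ e = e + (-(h w w / 2)) • f + w := by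
        rw [eg, uMap, eMap, R.ef, O.flip0 hwe]; simp
      have h3 := hcon (Units.val g *ᵥ e) (by
        rw [hge]
        exact (R.re.addV (R.rf.smul (F₀.neg_mem (O.half_mem (O.rat _ _ hw hw))))).addV hw) (by rw [suH_iso (O.le hg), R.ee])
      rw [hge, O.add_r, O.add_r, O.smul_r, h1, h2] at h3
      simpa using h3
    exact hx0 (O.ext_frame R h1 h2 (side c R.rc (O.ce R) (O.cf R)) (side d R.rd (O.de R) (O.df R)))
  obtain ⟨ω, hω0, hω⟩ := un_skew_exists O.unit
  choose a ha b hb hab using fun i => O.split hω hω0 (x i)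
  have hxab : x = a + ω • b := funext fun i => by rw [hab i]; simp
  have ha : RatV F₀ a := ha
  have hb : RatV F₀ b := hb
  have hω2 : ω * ω ∈ F₀ := (O.fix _).1 (by rw [map_mul, hω, neg_mul_neg])
  set l := h a p with hl
  set m := h b p with hm'
  set A := h a a
  set B := h a b
  set C := h b b
  have hlF : l ∈ F₀ := O.rat _ _ ha hp
  have hmF : m ∈ F₀ := O.rat _ _ hb hp
  have hxpe : h x p = l + ω * m := by rw [hxab, O.add_l, O.smul_l]
  set N := l * l - ω * ω * (m * m) with hN
  have hN0 : N ≠ 0 := fun h0 => by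
    have h1 : l + ω * m = 0 ∨ l - ω * m = 0 := mul_eq_zero.1 (by linear_combination h0)
    rcases h1 with h1 | h1
    · exact hxp (hxpe.trans h1)
    · refine hxp (hxpe.trans ?_)
      have h2 : τ (l - ω * m) = 0 := by rw [h1, map_zero]
      rw [map_sub, map_mul, hω, O.real_of_mem hlF, O.real_of_mem hmF] at h2
      linear_combination h2
  -- choose the parameter making the plane of the moved point hyperbolic
  set B1 := (2 * B * (l * l + ω * ω * (m * m)) - 2 * l * m * (A + ω * ω * C)) / (2 * N) with hB1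
  set C0 := B * B - A * C - B1 * B1 with hC0
  have hB1F : B1 ∈ F₀ := by
    have hB := O.rat _ _ ha hb
    have hA := O.rat _ _ ha ha
    have hC := O.rat _ _ hb hb
    exact F₀.div_mem (F₀.sub_mem (F₀.mul_mem (F₀.mul_mem O.two_mem hB) (F₀.add_mem (F₀.mul_mem hlF hlF)
      (F₀.mul_mem hω2 (F₀.mul_mem hmF hmF)))) (F₀.mul_mem (F₀.mul_mem (F₀.mul_mem O.two_mem hlF) hmF)
      (F₀.add_mem hA (F₀.mul_mem hω2 hC)))) (F₀.mul_mem O.two_mem (F₀.sub_mem (F₀.mul_mem hlF hlF)
      (F₀.mul_mem hω2 (F₀.mul_mem hmF hmF))))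
  have hC0F : C0 ∈ F₀ := F₀.sub_mem (F₀.sub_mem (F₀.mul_mem (O.rat _ _ ha hb) (O.rat _ _ ha hb))
    (F₀.mul_mem (O.rat _ _ ha ha) (O.rat _ _ hb hb))) (F₀.mul_mem hB1F hB1F)
  obtain ⟨u, huF, hu0, huC⟩ : ∃ u ∈ F₀, u ≠ 0 ∧ u * u + C0 ≠ 0 := by
    by_contra hcon
    push Not at hcon
    haveI : Fintype F₀ := Fintype.ofFinite _
    have hex : ∀ S : Finset F₀, S.card < 5 → ∃ u : F₀, u ∉ S := fun S hS => by
      by_contra h'
      push Not at h'
      have := Finset.card_le_card (fun u _ => h' u : (Finset.univ : Finset F₀) ⊆ S)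
      rw [Nat.card_eq_fintype_card] at hq
      simp at this
      omega
    obtain ⟨u₁, hu₁⟩ := hex {0} (by simp)
    obtain ⟨u₂, hu₂⟩ := hex {0, u₁, -u₁} (Finset.card_le_three.trans_lt (by norm_num))
    simp only [Finset.mem_singleton, Finset.mem_insert, not_or] at hu₁ hu₂
    have e1 := hcon u₁ u₁.2 fun e => hu₁ (Subtype.ext e)
    have e2 := hcon u₂ u₂.2 fun e => hu₂.1 (Subtype.ext e)
    rcases mul_self_eq_mul_self_iff.1 (show (u₂ : F) * u₂ = u₁ * u₁ by linear_combination e2 - e1) with h' | h'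
    · exact hu₂.2.1 (Subtype.ext h')
    · exact hu₂.2.2 (Subtype.ext h')
  set z := (u + C0 / u) / 2 with hz
  set s := ((u - C0 / u) / 2 - B1) / N with hs
  have hz0 : z ≠ 0 := by
    intro h0
    rw [hz, div_eq_zero_iff, or_iff_left O.two, add_comm, ← eq_neg_iff_add_eq_zero, div_eq_iff hu0] at h0
    exact huC (by linear_combination h0)
  have hsF : s ∈ F₀ := F₀.div_mem (F₀.sub_mem (O.half_mem (F₀.sub_mem huF (F₀.div_mem hC0F huF))) hB1F)
    (F₀.sub_mem (F₀.mul_mem hlF hlF) (F₀.mul_mem hω2 (F₀.mul_mem hmF hmF)))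
  have hk' : τ (ω * s) = -(ω * s) := by rw [map_mul, hω, O.real_of_mem hsF]; ring
  obtain ⟨g, hg, eg⟩ := hall p hp hpp _ hk'
  set a' := a + (ω * ω * s * m) • p with ha'd
  set b' := b + (s * l) • p with hb'd
  have ha' : RatV F₀ a' := ha.addV (hp.smul (F₀.mul_mem (F₀.mul_mem hω2 hsF) hmF))
  have hb' : RatV F₀ b' := hb.addV (hp.smul (F₀.mul_mem hsF hlF))
  have hgx : Units.val g *ᵥ x = a' + ω • b' := by
    rw [eg, tMap, hxpe, hxab, ha'd, hb'd]
    module
  have hx' : h (a' + ω • b') (a' + ω • b') = 0 := by rw [← hgx, suH_iso (O.le hg), hxx]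
  have hAC : h a' a' - ω * ω * h b' b' = 0 := by
    simp only [O.add_l, O.add_r, O.smul_l, O.smul_r, hω, O.sym ha' hb'] at hx'
    linear_combination hx'
  set A' := h a' a'
  set B' := h a' b'
  set C' := h b' b'
  have hsym : h b' a' = B' := O.sym ha' hb'
  have hD : B' * B' - A' * C' = z * z := by
    have eA : A' = A + 2 * (ω * ω) * s * m * l := by
      simp only [A', ha'd, O.add_l, O.add_r, O.smul_l, O.smul_r, hpp, O.sym ha hp,
        O.real_of_mem (F₀.mul_mem (F₀.mul_mem hω2 hsF) hmF)]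
      ring
    have eB : B' = B + s * l * l + ω * ω * s * m * m := by
      simp only [B', ha'd, hb'd, O.add_l, O.add_r, O.smul_l, O.smul_r, hpp, O.sym hb hp,
        O.real_of_mem (F₀.mul_mem hsF hlF)]
      ring
    have eC : C' = C + 2 * s * l * m := by
      simp only [C', hb'd, O.add_l, O.add_r, O.smul_l, O.smul_r, hpp, O.sym hb hp,
        O.real_of_mem (F₀.mul_mem hsF hlF)]
      ring
    have e1 : N * s + B1 = (u - C0 / u) / 2 := by rw [hs]; field_simp; ring
    have e2 : z * z = (N * s + B1) * (N * s + B1) + C0 := by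
      rw [e1, hz]
      have := O.two
      field_simp
      ring
    have e3 : 2 * N * B1 = 2 * B * (l * l + ω * ω * (m * m)) - 2 * l * m * (A + ω * ω * C) := by
      rw [hB1, mul_div_cancel₀ _ (mul_ne_zero O.two hN0)]
    rw [eA, eB, eC, e2, hC0, hN]
    rw [hN] at e3
    linear_combination -s * e3
  have hx'F : TFull τ h H (a' + ω • b') := by
    by_cases hC : C' = 0
    · have hA : A' = 0 := by rw [hC] at hAC; simpa using hAC
      have hB : B' ≠ 0 := fun e0 => hz0 (mul_self_eq_zero.1 (by rw [← hD, e0, hC]; ring))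
      have := O.tfull_line (α := (1 : F)) (β := ω) ha' hb' hA hC hB (hall _ ha' hA) (hall _ hb' hC)
        (by rwa [one_smul])
      rwa [one_smul] at this
    set r := C' • a' + (z - B') • b' with hrd
    set r' := C' • a' + (-z - B') • b' with hr'd
    have hB'F := O.rat _ _ ha' hb'
    have hC'F := O.rat _ _ hb' hb'
    have hzF : z ∈ F₀ := O.half_mem (F₀.add_mem huF (F₀.div_mem hC0F huF))
    have hr : RatV F₀ r := (ha'.smul hC'F).addV (hb'.smul (F₀.sub_mem hzF hB'F))
    have hr' : RatV F₀ r' := (ha'.smul hC'F).addV (hb'.smul (F₀.sub_mem (F₀.neg_mem hzF) hB'F))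
    have form : ∀ p q p' q', p ∈ F₀ → q ∈ F₀ → p' ∈ F₀ → q' ∈ F₀ →
        h (p • a' + q • b') (p' • a' + q' • b') = p * p' * A' + (p * q' + q * p') * B' + q * q' * C' := by
      intro p q p' q' _ _ hp' hq'
      simp only [O.add_l, O.add_r, O.smul_l, O.smul_r, hsym, O.real_of_mem hp', O.real_of_mem hq']
      ring
    have hz1 := F₀.sub_mem hzF hB'F
    have hz2 := F₀.sub_mem (F₀.neg_mem hzF) hB'F
    have h1 : h r r = 0 := by rw [hrd, form _ _ _ _ hC'F hz1 hC'F hz1]; linear_combination -C' * hD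
    have h2 : h r' r' = 0 := by rw [hr'd, form _ _ _ _ hC'F hz2 hC'F hz2]; linear_combination -C' * hD
    have h3 : h r r' ≠ 0 := by
      rw [hrd, hr'd, form _ _ _ _ hC'F hz1 hC'F hz2]
      intro e0
      have : -(2 * (z * z) * C') = 0 := by linear_combination e0 + C' * hD
      simp [O.two, hz0, hC] at this
    set α := (z + B') / (2 * z * C') + ω / (2 * z)
    set β := (z - B') / (2 * z * C') - ω / (2 * z)
    have heq : a' + ω • b' = α • r + β • r' := by
      have := O.two
      simp only [α, β, hrd, hr'd]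
      match_scalars <;> field_simp <;> ring
    rw [heq] at hx' ⊢
    exact O.tfull_line hr hr' h1 h2 h3 (hall _ hr h1) (hall _ hr' h2) hx'
  refine O.tfull_move hx'F (inv_mem hg) ?_
  rw [← hgx, Matrix.mulVec_mulVec, ← Units.val_mul, inv_mul_cancel, Units.val_one, Matrix.one_mulVec]

end Orth4

end CfsgLib.Maximal.SUFour
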