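import Mathlib
import Cfsg.Agent.Lib.Maximal.SUFour.OrthFull

/-!
An overgroup without rational transvections: stabilisers of rational points are rational, and no further point
of its orbit is orthogonal to a rational one.
-/

set_option autoImplicit false
set_option linter.unusedSectionVars false
set_option linter.unusedSimpArgs false
set_option maxHeartbeats 400000

namespace CfsgLib.Maximal.SUFour

open scoped Matrix

variable {F : Type*} [Field F] [Fintype F] {τ : F ≃+* F} {h : (Fin 4 → F) → (Fin 4 → F) → F} {F₀ : Subfield F}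
  {H : Subgroup (Matrix.GeneralLinearGroup (Fin 4) F)}

local notation "VV" => (Fin 4 → F)
local notation "MM" => Matrix (Fin 4) (Fin 4) F
local notation "GG" => Matrix.GeneralLinearGroup (Fin 4) F

/-- No transvection has a rational centre. -/
def NoTv (τ : F ≃+* F) (h : (Fin 4 → F) → (Fin 4 → F) → F) (F₀ : Subfield F)
    (H : Subgroup (Matrix.GeneralLinearGroup (Fin 4) F)) : Prop :=
  ∀ (e : Fin 4 → F) (k : F), RatV F₀ e → h e e = 0 → e ≠ 0 → τ k = -k → HasMap H (tMap h k e) → k = 0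

/-- An element of `H` with the given matrix on the pair `e, v`. -/
def ActsOn (H : Subgroup (Matrix.GeneralLinearGroup (Fin 4) F)) (e v : Fin 4 → F) (a b a' b' : F) : Prop :=
  ∃ g ∈ H, Units.val g *ᵥ e = a • e + b • v ∧ Units.val g *ᵥ v = a' • e + b' • v

omit [Fintype F] in
lemma ActsOn.comp {e v : VV} {a b a' b' p q p' q' : F} (h1 : ActsOn H e v a b a' b') (h2 : ActsOn H e v p q p' q') :
    ActsOn H e v (p * a + q * a') (p * b + q * b') (p' * a + q' * a') (p' * b + q' * b') := by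
  obtain ⟨g, hg, e1, e2⟩ := h1
  obtain ⟨k, hk, f1, f2⟩ := h2
  refine ⟨g * k, mul_mem hg hk, ?_, ?_⟩
  · rw [Units.val_mul, ← Matrix.mulVec_mulVec, f1, Matrix.mulVec_add, Matrix.mulVec_smul, Matrix.mulVec_smul, e1, e2]
    module
  · rw [Units.val_mul, ← Matrix.mulVec_mulVec, f2, Matrix.mulVec_add, Matrix.mulVec_smul, Matrix.mulVec_smul, e1, e2]
    module

namespace Orth4

variable (O : Orth4 τ h F₀ H)
include O

lemma natCard_eq : Nat.card F = Nat.card F₀ ^ 2 := by
  obtain ⟨ω, hω0, hω⟩ := un_skew_exists O.unit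
  let m : F₀ × F₀ → F := fun p => (p.1 : F) + ω * (p.2 : F)
  have hm : Function.Bijective m := by
    refine ⟨fun p p' hp => ?_, fun x => ?_⟩
    · obtain ⟨⟨a, ha⟩, ⟨b, hb⟩⟩ := p
      obtain ⟨⟨a', ha'⟩, ⟨b', hb'⟩⟩ := p'
      simp only [m] at hp
      have h2 := congrArg τ hp
      simp only [map_add, map_mul, hω, O.real_of_mem ha, O.real_of_mem hb, O.real_of_mem ha', O.real_of_mem hb'] at h2
      have e1 : a = a' := mul_left_cancel₀ O.two (by linear_combination hp + h2)
      have e2 : b = b' := mul_left_cancel₀ hω0 (by linear_combination hp - e1)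
      simp [e1, e2]
    · obtain ⟨a, ha, b, hb, rfl⟩ := O.split hω hω0 x
      exact ⟨(⟨a, ha⟩, ⟨b, hb⟩), rfl⟩
  rw [← Nat.card_eq_of_bijective m hm, Nat.card_prod, sq]

lemma pow_eq_one {x : F} (hx : x ∈ F₀) (hx0 : x ≠ 0) : x ^ (Nat.card F₀ - 1) = 1 := by
  haveI : Fintype F₀ := Fintype.ofFinite _
  rw [Nat.card_eq_fintype_card]
  exact congrArg Subtype.val (FiniteField.pow_card_sub_one_eq_one (⟨x, hx⟩ : F₀) fun e => hx0 (congrArg Subtype.val e))

variable {e f c d : Fin 4 → F} (R : Frame h F₀ e f c d) (hNT : NoTv τ h F₀ H)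
include R hNT

/-- Siegel elements at a rational point are rational. -/
lemma radical {w : VV} {t : F} (hwe : h w e = 0) (ht : t ∈ F₀) (hv : t + τ t + h w w = 0)
    (hm : HasMap H (eMap h e w t)) : RatV F₀ w := by
  have real : ∀ v, RatV F₀ v → h v e = 0 → h w v ∈ F₀ := by
    intro v hvr hve
    have hu : HasMap H (eMap h e v (-(h v v / 2))) := O.uMap_mem R.re R.ee hvr hve
    have h1 : HasMap H (eMap h e (w + v) (t + -(h v v / 2) - h v w)) :=
      (hm.comp hu).congr fun x => O.eMap_comp R.ee hwe hve _ _ x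
    have h2 : HasMap H (eMap h e (w + v) (-(h v v / 2) + t - h w v)) := by
      rw [add_comm w v]
      exact (hu.comp hm).congr fun x => O.eMap_comp R.ee hve hwe _ _ x
    have hwv : h (w + v) e = 0 := by rw [O.add_l, hwe, hve, add_zero]
    have h3 : HasMap H (tMap h (h w v - h v w) e) := by
      refine HasMap.right_cancel h2 (h1.congr fun x => ?_) h2.surjective
      rw [Function.comp_apply, ← O.eMap_zero_right, O.eMap_comp R.ee (O.zero_l e) hwv, zero_add, O.zero_r]
      congr 1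
      ring
    have h4 := hNT e _ R.re R.ee (O.e_ne R) (by rw [map_sub, ← O.unit.herm, ← O.unit.herm]; ring) h3
    exact (O.fix _).1 (by rw [← O.unit.herm, ← sub_eq_zero.1 h4])
  have hwc := real c R.rc (O.ce R)
  have hwd := real d R.rd (O.de R)
  set w₀ := (h w c / h c c) • c + (h w d / h d d) • d with hw0
  have hw0r : RatV F₀ w₀ := (R.rc.smul (F₀.div_mem hwc (O.rat _ _ R.rc R.rc))).addV
    (R.rd.smul (F₀.div_mem hwd (O.rat _ _ R.rd R.rd)))
  have hw0e : h w₀ e = 0 := by rw [hw0, O.add_l, O.smul_l, O.smul_l, O.ce R, O.de R]; simp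
  set s := h w f with hs
  have hw : w = w₀ + s • e := by
    conv_lhs => rw [O.expand R w, hwe, zero_smul, add_zero]
    rw [hw0]
    abel
  have hww : h w w = h w₀ w₀ := by
    rw [hw]; simp only [O.add_l, O.add_r, O.smul_l, O.smul_r, hw0e, O.flip0 hw0e, R.ee]; ring
  have h1 : HasMap H (eMap h e w₀ (t + s - τ s)) := hm.congr fun x => by rw [hw, O.eMap_shift]
  have hu : HasMap H (eMap h e w₀ (-(h w₀ w₀ / 2))) := O.uMap_mem R.re R.ee hw0r hw0e
  have h3 : HasMap H (tMap h (s - τ s) e) := by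
    refine HasMap.right_cancel hu (h1.congr fun x => ?_) hu.surjective
    rw [Function.comp_apply, ← O.eMap_zero_right, O.eMap_comp R.ee (O.zero_l e) hw0e, zero_add, O.zero_r]
    congr 1
    rw [hww, O.real_of_mem ht] at hv
    have := O.two
    field_simp
    linear_combination hv
  have h4 := hNT e _ R.re R.ee (O.e_ne R) (by rw [map_sub, O.invol]; ring) h3
  rw [hw]
  exact hw0r.addV (R.re.smul ((O.fix s).1 (sub_eq_zero.1 h4).symm))

/-- The stabiliser of a rational point is rational. -/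
theorem stab_rat {g : GG} (hg : g ∈ H) {lam : F} (hge : Units.val g *ᵥ e = lam • e) :
    RatM F₀ (τ lam • Units.val g) := by
  classical
  have hgi := suH_iso (O.le hg)
  have hlam : lam ≠ 0 := fun e0 => O.e_ne R (mulVec_inj g (show Units.val g *ᵥ e = Units.val g *ᵥ 0 by
    rw [hge, e0, zero_smul, Matrix.mulVec_zero]))
  have hN : lam * τ lam ∈ F₀ := (O.fix _).1 (by rw [map_mul, O.invol, mul_comm])
  have hN0 : lam * τ lam ≠ 0 := mul_ne_zero hlam (O.tau_ne hlam)
  set μ := τ lam with hμ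
  have img : ∀ v, RatV F₀ v → h v e = 0 → RatV F₀ (μ • (Units.val g *ᵥ v)) := by
    intro v hv hve
    have hr := O.half_mem (O.rat _ _ hv hv)
    have h1 := O.eMap_conj (show HasMap H (eMap h e v (-(h v v / 2))) from O.uMap_mem R.re R.ee hv hve) hg
    rw [hge] at h1
    refine O.radical R hNT (t := lam * τ lam * -(h v v / 2)) ?_ (F₀.mul_mem hN (F₀.neg_mem hr)) ?_
      (h1.congr fun x => O.eMap_smul e _ lam _ x)
    · have h2 : h (Units.val g *ᵥ v) (lam • e) = 0 := by rw [← hge, hgi, hve]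
      rw [O.smul_r] at h2
      rw [O.smul_l, hμ]
      exact h2
    · rw [O.real_of_mem (F₀.mul_mem hN (F₀.neg_mem hr)), O.smul_l, O.smul_r, hgi, hμ, O.invol]
      have := O.two
      field_simp
      ring
  have he' : μ • (Units.val g *ᵥ e) = (lam * τ lam) • e := by rw [hge, hμ, smul_smul, mul_comm]
  set W := μ • (Units.val g *ᵥ f) with hW
  have hWe : h W e = 1 := by
    have h2 : h (Units.val g *ᵥ f) (lam • e) = 1 := by rw [← hge, hgi, O.fe R]
    rw [O.smul_r] at h2
    rw [hW, O.smul_l, hμ]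
    exact h2
  set t := h W f
  set x₁ := h W c
  set x₂ := h W d
  have hWexp : W = t • e + f + (x₁ / h c c) • c + (x₂ / h d d) • d := by
    conv_lhs => rw [O.expand R W, hWe, one_smul]
  set Y := ((x₁ - τ x₁) / h c c) • c + ((x₂ - τ x₂) / h d d) • d with hY
  have hYperp : ∀ v, RatV F₀ v → h v e = 0 → h v f = 0 → h Y (μ • (Units.val g *ᵥ v)) = 0 := by
    intro v hv hve hvf
    set P := μ • (Units.val g *ᵥ v)
    have hP : RatV F₀ P := img v hv hve
    have hPe : h e P = 0 := by
      have h2 : h (lam • e) (Units.val g *ᵥ v) = 0 := by rw [← hge, hgi, O.flip0 hve]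
      rw [O.smul_l, mul_eq_zero, or_iff_right hlam] at h2
      rw [O.smul_r, h2, mul_zero]
    have h0 : h W P = 0 := by rw [hW, O.smul_l, O.smul_r, hgi, O.flip0 hvf]; ring
    rw [hWexp] at h0
    simp only [O.add_l, O.smul_l, hPe] at h0
    have h1 := congrArg τ h0
    simp only [map_add, map_mul, map_div₀, map_zero, O.real_of_mem (O.rat _ _ R.rf hP),
      O.real_of_mem (O.rat _ _ R.rc hP), O.real_of_mem (O.rat _ _ R.rd hP), O.gram_self R.rc, O.gram_self R.rd] at h1
    simp only [hY, O.add_l, O.smul_l, sub_div]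
    linear_combination h0 - h1
  obtain ⟨y, hy⟩ := mulVec_surj g Y
  replace hy : Units.val g *ᵥ y = Y := hy
  have hye : h y e = 0 := by
    rw [← hgi y e, hy, hge, O.smul_r, hY, O.add_l, O.smul_l, O.smul_l, O.ce R, O.de R]; simp
  have hyv : ∀ v, RatV F₀ v → h v e = 0 → h v f = 0 → h y v = 0 := fun v h1 h2 h3 => by
    have h4 := hYperp v h1 h2 h3
    rw [← hy, O.smul_r, hgi] at h4
    exact (mul_eq_zero.1 h4).resolve_left (O.tau_ne (hμ ▸ O.tau_ne hlam))
  have hyexp : y = h y f • e := by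
    conv_lhs => rw [O.expand R y, hye, hyv c R.rc (O.ce R) (O.cf R), hyv d R.rd (O.de R) (O.df R)]
    simp
  have hYe : Y = (h y f * lam) • e := by rw [← hy, hyexp, Matrix.mulVec_smul, hge, smul_smul]; simp [O.smul_l, R.ef]
  have hx1 : x₁ ∈ F₀ := by
    have h2 := congrArg (fun z => h z c) hYe
    simp only [hY, O.add_l, O.smul_l, O.dc R, R.ec, div_mul_cancel₀ _ R.cc, mul_zero, add_zero] at h2
    exact (O.fix _).1 (sub_eq_zero.1 h2).symm
  have hx2 : x₂ ∈ F₀ := by
    have h2 := congrArg (fun z => h z d) hYe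
    simp only [hY, O.add_l, O.smul_l, R.cd, R.ed, div_mul_cancel₀ _ R.dd, mul_zero, zero_add] at h2
    exact (O.fix _).1 (sub_eq_zero.1 h2).symm
  set k := -(t - τ t) / (2 * (lam * τ lam)) with hk
  have hkskew : τ k = -k := by
    rw [hk, map_div₀, map_neg, map_sub, O.invol, map_mul, O.real_of_mem O.two_mem, O.real_of_mem hN]
    field_simp
    ring
  obtain ⟨T, hT, eT⟩ := O.exists_eMap (w := 0) (t := k) R.ee (O.zero_l e) (by rw [hkskew, O.zero_l]; ring)
  have eT' : ∀ x, Units.val T *ᵥ x = tMap h k e x := fun x => by rw [eT, O.eMap_zero_right]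
  have hrat : RatM F₀ (μ • Units.val (g * T)) := by
    have key : ∀ x, (μ • Units.val (g * T)) *ᵥ x = μ • (Units.val g *ᵥ x) + (k * h x e) • μ • (Units.val g *ᵥ e) :=
      fun x => by
        rw [Matrix.smul_mulVec, Units.val_mul, ← Matrix.mulVec_mulVec, eT', tMap, Matrix.mulVec_add,
          Matrix.mulVec_smul]
        module
    refine O.ratM_of_frame R ?_ ?_ ?_ ?_ <;> rw [key]
    · rw [R.ee, mul_zero, zero_smul, add_zero, he']; exact R.re.smul hN
    · rw [O.fe R, mul_one, he', smul_smul, ← hW, hWexp]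
      have hmem : (t + τ t) / 2 ∈ F₀ := (O.fix _).1 (by
        rw [map_div₀, map_add, O.invol, O.real_of_mem O.two_mem, add_comm])
      rw [show t • e + f + (x₁ / h c c) • c + (x₂ / h d d) • d + (k * (lam * τ lam)) • e =
        ((t + τ t) / 2) • e + f + (x₁ / h c c) • c + (x₂ / h d d) • d by
          rw [show (t + τ t) / 2 = t + k * (lam * τ lam) by
            rw [hk]; have := O.two; have := O.tau_ne hlam; field_simp; ring]
          module]
      exact (((R.re.smul hmem).addV R.rf).addV (R.rc.smul (F₀.div_mem hx1 (O.rat _ _ R.rc R.rc)))).addV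
        (R.rd.smul (F₀.div_mem hx2 (O.rat _ _ R.rd R.rd)))
    · rw [O.ce R, mul_zero, zero_smul, add_zero]; exact img c R.rc (O.ce R)
    · rw [O.de R, mul_zero, zero_smul, add_zero]; exact img d R.rd (O.de R)
  have hTH : T ∈ H := by
    have h1 := O.mem (g * T) (mul_mem (O.le hg) hT) ⟨μ, O.tau_ne hlam, hrat⟩
    have := mul_mem (inv_mem hg) h1
    rwa [inv_mul_cancel_left] at this
  have hk0 := hNT e k R.re R.ee (O.e_ne R) hkskew ⟨T, hTH, eT'⟩
  have hT1 : T = 1 := Units.ext (CfsgLib.Geometry.matrix_eq_of_mulVec fun x => by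
    rw [eT', tMap, hk0]; simp)
  rwa [hT1, mul_one] at hrat

/-- An eigenvalue at a rational point has a rational fourth power. -/
lemma eigen_pow {g : GG} (hg : g ∈ H) {lam : F} (hge : Units.val g *ᵥ e = lam • e) : lam ^ 4 ∈ F₀ := by
  obtain ⟨A, hA⟩ := (O.stab_rat R hNT hg hge).lift
  have h1 : (A.map F₀.subtype).det = τ lam ^ 4 := by
    rw [hA, Matrix.det_smul, Fintype.card_fin, (mem_specialLinear_iff g).1 (O.le hg).2, mul_one]
  have h2 : τ lam ^ 4 ∈ F₀ := by
    rw [← h1, show A.map F₀.subtype = F₀.subtype.mapMatrix A from rfl, ← RingHom.map_det]; exact A.det.2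
  rw [← map_pow] at h2
  have := O.real_of_mem h2
  rw [O.invol] at this
  exact this ▸ h2

/-- No further point of the orbit is orthogonal to the first one. -/
theorem no_perp (hq : 5 ≤ Nat.card F₀) {g : GG} (hg : g ∈ H) {r : VV} (hr : RatV F₀ r) (hrr : h r r = 0)
    (hr0 : r ≠ 0) (hve : h (Units.val g *ᵥ r) e = 0) : RatLine F₀ (Units.val g *ᵥ r) := by
  classical
  by_contra hnr
  have hgi := suH_iso (O.le hg)
  set v := Units.val g *ᵥ r with hv
  have hvv : h v v = 0 := by rw [hv, hgi, hrr]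
  have hev := O.flip0 hve
  have line : ∀ (s : F) (w : VV), RatV F₀ w → v = s • w → False := fun s w hw hvs => hnr (by
    by_cases hs : s = 0
    · exact ⟨1, one_ne_zero, by rw [one_smul, hvs, hs, zero_smul]; exact ratV_zero⟩
    · exact ⟨s⁻¹, inv_ne_zero hs, by rw [hvs, inv_smul_smul₀ hs]; exact hw⟩)
  -- an element moving `e` along the point
  obtain ⟨y, hy0, X, hX, hXe, hXv⟩ : ∃ y : F, y ≠ 0 ∧ ∃ X ∈ H, Units.val X *ᵥ e = e + y • v ∧
      Units.val X *ᵥ v = v := by
    obtain ⟨f', c', d', R'⟩ := O.exists_frame hr hrr hr0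
    have one : ∀ w, RatV F₀ w → h w r = 0 → h e (Units.val g *ᵥ w) ≠ 0 →
        ∃ y : F, y ≠ 0 ∧ ∃ X ∈ H, Units.val X *ᵥ e = e + y • v ∧ Units.val X *ᵥ v = v := by
      intro w hw hwr hne
      obtain ⟨X, hX, eX⟩ := O.eMap_conj (show HasMap H (eMap h r w (-(h w w / 2))) from O.uMap_mem hr hrr hw hwr) hg
      refine ⟨-h e (Units.val g *ᵥ w), neg_ne_zero.2 hne, X, hX, ?_, ?_⟩
      · rw [eX, eMap, ← hv, hev]; simp
      · rw [eX, eMap, ← hv, hvv, show h v (Units.val g *ᵥ w) = 0 by rw [hv, hgi, O.flip0 hwr]]; simp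
    by_cases h1 : h e (Units.val g *ᵥ c') = 0
    · refine one d' R'.rd (O.de R') fun h2 => ?_
      obtain ⟨y, hy⟩ := mulVec_surj g e
      replace hy : Units.val g *ᵥ y = e := hy
      rw [← hy, hgi] at h1 h2
      have h0 : h y r = 0 := by rw [← hgi y r, hy, ← hv, hev]
      have hy2 : y = h y f' • r := by
        conv_lhs => rw [O.expand R' y, h0, h1, h2]
        simp
      have he2 : e = h y f' • v := by
        conv_lhs => rw [← hy, hy2]
        rw [Matrix.mulVec_smul]
      have hs : h y f' ≠ 0 := fun e0 => O.e_ne R (by rw [he2, e0, zero_smul])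
      exact line (h y f')⁻¹ e R.re (by conv_rhs => rw [he2, inv_smul_smul₀ hs])
    · exact one c' R'.rc (O.ce R') h1
  set p := h v c with hp
  set q := h v d with hq'
  set α := h v f
  have hvexp : v = α • e + (p / h c c) • c + (q / h d d) • d := by
    conv_lhs => rw [O.expand R v, hve, zero_smul, add_zero]
  by_cases hdep : ∃ c₁ ∈ F₀, ∃ c₂ ∈ F₀, (c₁ ≠ 0 ∨ c₂ ≠ 0) ∧ c₁ * p + c₂ * q = 0
  · -- the point is on a rational totally isotropic line
    obtain ⟨π, r₀, hr₀, hr₀e, hr₀f, hvr⟩ : ∃ π : F, ∃ r₀, RatV F₀ r₀ ∧ h r₀ e = 0 ∧ h r₀ f = 0 ∧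
        v = α • e + π • r₀ := by
      obtain ⟨c₁, hc₁, c₂, hc₂, hne, hcomb⟩ := hdep
      by_cases h1 : c₁ = 0
      · have hq0 : q = 0 := by
          rw [h1, zero_mul, zero_add, mul_eq_zero] at hcomb
          exact hcomb.resolve_left (hne.resolve_left (not_not.2 h1))
        refine ⟨p, (h c c)⁻¹ • c, R.rc.smul (F₀.inv_mem (O.rat _ _ R.rc R.rc)), by rw [O.smul_l, O.ce R, mul_zero],
          by rw [O.smul_l, O.cf R, mul_zero], ?_⟩
        conv_lhs => rw [hvexp, hq0, zero_div, zero_smul, add_zero]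
        rw [smul_smul, div_eq_mul_inv]
      · refine ⟨q, (-(c₂ / c₁) / h c c) • c + (h d d)⁻¹ • d, ?_, ?_, ?_, ?_⟩
        · exact (R.rc.smul (F₀.div_mem (F₀.neg_mem (F₀.div_mem hc₂ hc₁)) (O.rat _ _ R.rc R.rc))).addV
            (R.rd.smul (F₀.inv_mem (O.rat _ _ R.rd R.rd)))
        · rw [O.add_l, O.smul_l, O.smul_l, O.ce R, O.de R]; simp
        · rw [O.add_l, O.smul_l, O.smul_l, O.cf R, O.df R]; simp
        · have hp' : p = -(c₂ / c₁) * q := by field_simp; linear_combination hcomb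
          conv_lhs => rw [hvexp, hp']
          module
    by_cases hα : α = 0
    · exact line π r₀ hr₀ (by rw [hvr, hα, zero_smul, zero_add])
    have hπ : π ≠ 0 := fun e0 => line α e R.re (by rw [hvr, e0, zero_smul, add_zero])
    set σ := π / α with hσ
    have hσ0 : σ ≠ 0 := div_ne_zero hπ hα
    have hvσ : v = α • (e + σ • r₀) := by rw [hvr, smul_add, smul_smul, hσ, mul_div_cancel₀ _ hα]
    have hσn : τ σ ≠ σ := fun e0 => line α _ (R.re.addV (hr₀.smul ((O.fix σ).1 e0))) hvσ
    have hr₀r : h r₀ r₀ = 0 := by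
      rw [hvσ] at hvv
      simp only [O.smul_l, O.smul_r, O.add_l, O.add_r, R.ee, hr₀e, O.flip0 hr₀e] at hvv
      simpa [hα, hσ0, O.tau_ne hα, O.tau_ne hσ0] using hvv
    obtain ⟨x₀, hx₀, hx₀e, hx₀p⟩ : ∃ x, RatV F₀ x ∧ h x e = 0 ∧ h x r₀ ≠ 0 := by
      by_contra hcon
      push Not at hcon
      have hz := O.ext_frame R hr₀e hr₀f (O.flip0 (hcon c R.rc (O.ce R))) (O.flip0 (hcon d R.rd (O.de R)))
      exact line α e R.re (by rw [hvσ, hz, smul_zero, add_zero])
    set z := y * α with hz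
    have hz0 : z ≠ 0 := mul_ne_zero hy0 hα
    have hXe' : Units.val X *ᵥ e = (1 + z) • e + (z * σ) • r₀ := by rw [hXe, hvσ, hz]; module
    have hXr : Units.val X *ᵥ r₀ = (-(z / σ)) • e + (1 - z) • r₀ := by
      have h1 := hXv
      rw [hvσ, Matrix.mulVec_smul, Matrix.mulVec_add, Matrix.mulVec_smul, hXe'] at h1
      have h2 := smul_right_injective _ hα h1
      have h3 : σ • (Units.val X *ᵥ r₀) = σ • ((-(z / σ)) • e + (1 - z) • r₀) := by
        rw [smul_add, smul_smul, show σ * -(z / σ) = -z by field_simp]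
        linear_combination (norm := module) h2
      exact smul_right_injective _ hσ0 h3
    -- the conjugate of a rational element fixing the line
    obtain ⟨E, hE, eE⟩ := O.eMap_conj (show HasMap H (eMap h e r₀ 0) from
      (O.uMap_mem R.re R.ee hr₀ hr₀e).congr fun x => by simp [uMap, hr₀r]) hX
    have hEe : Units.val E *ᵥ e = (1 : F) • e := by
      rw [eE, eMap, hXe', hXr]
      simp [-neg_smul, O.add_r, O.smul_r, R.ee, O.flip0 hr₀e]
    have hErat := O.stab_rat R hNT hE hEe
    rw [map_one, one_smul] at hErat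
    have diff : ∀ x, RatV F₀ x → h (-(h x (Units.val X *ᵥ r₀)) • ((1 + z) • e + (z * σ) • r₀) +
        h x (Units.val X *ᵥ e) • ((-(z / σ)) • e + (1 - z) • r₀)) f ∈ F₀ ∧
        h (-(h x (Units.val X *ᵥ r₀)) • ((1 + z) • e + (z * σ) • r₀) +
        h x (Units.val X *ᵥ e) • ((-(z / σ)) • e + (1 - z) • r₀)) x₀ ∈ F₀ := by
      intro x hx
      have h1 := (hErat.mulVec hx).sub hx
      have e1 : Units.val E *ᵥ x - x = -(h x (Units.val X *ᵥ r₀)) • ((1 + z) • e + (z * σ) • r₀) +
          h x (Units.val X *ᵥ e) • ((-(z / σ)) • e + (1 - z) • r₀) := by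
        rw [eE, eMap, ← hXe', ← hXr]
        module
      rw [e1] at h1
      exact ⟨O.rat _ _ h1 R.rf, O.rat _ _ h1 hx₀⟩
    have hτz : ∀ a : F, a ∈ F₀ → τ a = -a → a = 0 := fun a ha h1 => by
      rw [O.real_of_mem ha] at h1
      exact (mul_eq_zero.1 (show (2 : F) * a = 0 by linear_combination h1)).resolve_left O.two
    have hp0 : τ (h x₀ r₀) = h x₀ r₀ := O.real_of_mem (O.rat _ _ hx₀ hr₀)
    obtain ⟨hf1, hf2⟩ := diff f R.rf
    obtain ⟨-, hg2⟩ := diff x₀ hx₀
    simp only [hXe', hXr, O.add_l, O.add_r, O.smul_l, O.smul_r, R.ef, R.ee, hr₀f, O.flip0 hr₀f, O.fe R,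
      O.flip0 hx₀e, hx₀e, O.sym hx₀ hr₀, mul_zero, add_zero, zero_add, mul_one] at hf1 hf2 hg2
    have hpF := O.rat _ _ hx₀ hr₀
    have k1 : τ (z / σ) * (1 + z) - τ (1 + z) * (z / σ) = 0 := hτz _ (by convert hf1 using 1; simp; ring) (by
      simp only [map_sub, map_mul, O.invol]; ring)
    have k2 : τ (z * σ) * (1 - z) - τ (1 - z) * (z * σ) = 0 := by
      have h1 : (τ (z * σ) * (1 - z) - τ (1 - z) * (z * σ)) * (h x₀ r₀ * h x₀ r₀) ∈ F₀ := by
        convert hg2 using 1; ring
      have h2 := F₀.div_mem h1 (F₀.mul_mem hpF hpF)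
      rw [mul_div_cancel_right₀ _ (mul_ne_zero hx₀p hx₀p)] at h2
      exact hτz _ h2 (by simp only [map_sub, map_mul, O.invol]; ring)
    have hK : τ (z / σ) * (z * σ) + τ (1 + z) * (1 - z) ∈ F₀ := by
      have h1 : (τ (z / σ) * (z * σ) + τ (1 + z) * (1 - z)) * h x₀ r₀ ∈ F₀ := by
        convert hf2 using 1; simp; ring
      have h2 := F₀.div_mem h1 hpF
      rwa [mul_div_cancel_right₀ _ hx₀p] at h2
    set u := z / σ * (1 + τ z) with hu
    have hzu : z * (1 + τ z) = u * σ := by rw [hu]; field_simp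
    set b := z * σ * (1 - τ z) with hb
    have hzb : z * (1 - τ z) * σ = b := by rw [hb]; ring
    have hτu : τ u = u := by
      rw [hu]; simp only [map_mul, map_add, map_one, O.invol] at k1 ⊢; linear_combination k1
    have hτb : τ b = b := by
      rw [hb]; simp only [map_mul, map_sub, map_one, O.invol] at k2 ⊢; linear_combination k2
    have hτσ := O.tau_ne hσ0
    -- `2 z τ(z) = u σ - b / σ` is real
    have h2N : 2 * (z * τ z) * σ = u * σ * σ - b := by linear_combination σ * hzu - hzb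
    have hbu : b = -(u * (σ * τ σ)) := by
      have h1 := congrArg τ h2N
      simp only [map_mul, map_sub, map_ofNat, O.invol, hτu, hτb] at h1
      have h2 : (σ - τ σ) * (u * (σ * τ σ) + b) = 0 := by linear_combination σ * h1 - τ σ * h2N
      linear_combination ((mul_eq_zero.1 h2).resolve_left (sub_ne_zero.2 hσn.symm))
    have h2z : 2 * z = u * (σ - τ σ) := mul_left_cancel₀ hσ0 (by linear_combination σ * hzu + hzb + hbu)
    have h2NN : 2 * (z * τ z) = u * (σ + τ σ) := mul_left_cancel₀ hσ0 (by linear_combination h2N - hbu)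
    have hτzn : τ z = -z := by
      have h1 := congrArg τ h2z
      simp only [map_mul, map_sub, map_ofNat, O.invol, hτu] at h1
      exact mul_left_cancel₀ O.two (by linear_combination h1 + h2z)
    set K := τ (z / σ) * (z * σ) + τ (1 + z) * (1 - z) with hKd
    have hKσ : K * τ σ = τ σ + u / 2 * (σ - τ σ) * (σ - τ σ) := by
      rw [hτzn] at h2NN
      have := O.two
      simp only [hKd, map_div₀, map_add, map_one, hτzn]
      field_simp
      linear_combination (-2 * τ σ) * h2z + (σ - τ σ) * h2NN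
    have hKσ' := congrArg τ hKσ
    simp only [map_add, map_mul, map_div₀, map_sub, map_ofNat, O.invol, hτu, O.real_of_mem hK] at hKσ'
    have hK1 : K = 1 := by
      have h1 : (K - 1) * (τ σ - σ) = 0 := by linear_combination hKσ - hKσ'
      exact sub_eq_zero.1 ((mul_eq_zero.1 h1).resolve_right (sub_ne_zero.2 hσn))
    rw [hK1, one_mul] at hKσ
    have h0 : u / 2 * (σ - τ σ) * (σ - τ σ) = 0 := by linear_combination -hKσ
    have hu0 : u = 0 := by simpa [O.two, sub_eq_zero, hσn.symm] using h0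
    rw [hu0, zero_mul] at h2z
    exact hz0 ((mul_eq_zero.1 h2z).resolve_left O.two)
  · -- all transvections of the plane
    push Not at hdep
    let m : F₀ × F₀ → F := fun x => (x.1 : F) * p + (x.2 : F) * q
    have hinj : Function.Injective m := by
      rintro ⟨⟨a, ha⟩, ⟨b, hb⟩⟩ ⟨⟨a', ha'⟩, ⟨b', hb'⟩⟩ hab
      simp only [m] at hab
      by_contra hne
      refine hdep (a - a') (F₀.sub_mem ha ha') (b - b') (F₀.sub_mem hb hb') ?_ (by linear_combination hab)
      by_contra h'
      push Not at h'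
      exact hne (by simp [sub_eq_zero.1 h'.1, sub_eq_zero.1 h'.2])
    have hsurj : Function.Surjective m := ((Nat.bijective_iff_injective_and_card m).2
      ⟨hinj, by rw [Nat.card_prod, O.natCard_eq, sq]⟩).2
    have U : ∀ x : F, ActsOn H e v 1 0 x 1 := fun x => by
      obtain ⟨⟨⟨a, ha⟩, ⟨b, hb⟩⟩, hab⟩ := hsurj (-x)
      simp only [m] at hab
      have hw : RatV F₀ (a • c + b • d) := (R.rc.smul ha).addV (R.rd.smul hb)
      have hwe : h (a • c + b • d) e = 0 := by rw [O.add_l, O.smul_l, O.smul_l, O.ce R, O.de R]; simp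
      obtain ⟨g, hg, eg⟩ := O.uMap_mem R.re R.ee hw hwe
      refine ⟨g, hg, ?_, ?_⟩
      · rw [eg, uMap, eMap, R.ee, O.flip0 hwe]; simp
      · have hvw : h v (a • c + b • d) = -x := by
          rw [O.add_r, O.smul_r, O.smul_r, O.real_of_mem ha, O.real_of_mem hb, ← hp, ← hq', hab]
        rw [eg, uMap, eMap, hve, hvw]
        simp [add_comm]
    have hY : ActsOn H e v 1 y 0 1 := ⟨X, hX, by rw [hXe, one_smul], by rw [hXv]; simp⟩
    have hY' : ActsOn H e v 1 (-y) 0 1 := by
      refine ⟨X⁻¹, inv_mem hX, mulVec_inj X ?_, mulVec_inj X ?_⟩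
      · show Units.val X *ᵥ _ = Units.val X *ᵥ _
        rw [Matrix.mulVec_mulVec, ← Units.val_mul, mul_inv_cancel, Units.val_one, Matrix.one_mulVec,
          Matrix.mulVec_add, Matrix.mulVec_smul, Matrix.mulVec_smul, hXe, hXv]
        module
      · show Units.val X *ᵥ _ = Units.val X *ᵥ _
        rw [Matrix.mulVec_mulVec, ← Units.val_mul, mul_inv_cancel, Units.val_one, Matrix.one_mulVec,
          Matrix.mulVec_add, Matrix.mulVec_smul, Matrix.mulVec_smul, hXe, hXv]
        module
    set t := -y⁻¹ with ht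
    have hty : t * y = -1 := by rw [ht, neg_mul, inv_mul_cancel₀ hy0]
    have norm : ∀ {a b a' b' a₁ b₁ a₂ b₂ : F}, ActsOn H e v a b a' b' → a = a₁ → b = b₁ → a' = a₂ → b' = b₂ →
        ActsOn H e v a₁ b₁ a₂ b₂ := fun h' h1 h2 h3 h4 => h1 ▸ h2 ▸ h3 ▸ h4 ▸ h'
    have hW : ActsOn H e v 0 y t 0 := norm (((U t).comp hY).comp (U t))
      (by linear_combination hty) (by ring) (by linear_combination t * hty) (by linear_combination hty)
    have hW' : ActsOn H e v 0 (-y) (-t) 0 := norm (((U (-t)).comp hY').comp (U (-t)))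
      (by linear_combination hty) (by ring) (by linear_combination (-t) * hty) (by linear_combination hty)
    have L : ∀ x : F, ActsOn H e v 1 x 0 1 := fun x => norm ((hW.comp (U (-x / (y * y)))).comp hW')
      (by linear_combination -hty) (by field_simp; ring) (by ring) (by linear_combination -hty)
    have diag : ∀ lam : F, lam ≠ 0 → lam ^ 4 ∈ F₀ := fun lam hlam => by
      set s := lam / y with hs
      have hs0 : s ≠ 0 := div_ne_zero hlam hy0
      obtain ⟨g, hg, e1, -⟩ := norm ((((U s).comp (L (-s⁻¹))).comp (U s)).comp hW)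
        (a₁ := lam) (b₁ := 0) (a₂ := 0) (b₂ := (-s⁻¹) * t)
        (by rw [hs]; field_simp; ring) (by field_simp; ring) (by field_simp; ring) (by field_simp; ring)
      rw [zero_smul, add_zero] at e1
      exact O.eigen_pow R hNT hg e1
    obtain ⟨ζ, hζ⟩ := IsCyclic.exists_ofOrder_eq_natCard (α := Fˣ)
    have h1 : ((ζ : F) ^ 4) ^ (Nat.card F₀ - 1) = 1 :=
      O.pow_eq_one (diag ζ ζ.ne_zero) (pow_ne_zero _ ζ.ne_zero)
    have h2 : orderOf ζ ∣ 4 * (Nat.card F₀ - 1) := orderOf_dvd_of_pow_eq_one (Units.ext (by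
      rw [Units.val_pow_eq_pow_val, pow_mul, h1, Units.val_one]))
    rw [hζ, Nat.card_units, O.natCard_eq] at h2
    have h3 := Nat.le_of_dvd (by omega) h2
    generalize Nat.card F₀ = q at hq h3
    obtain ⟨j, rfl⟩ : ∃ j, q = j + 5 := ⟨q - 5, by omega⟩
    have h4 : 4 * (j + 5 - 1) + 1 < (j + 5) ^ 2 := by
      rw [show j + 5 - 1 = j + 4 from rfl]; nlinarith
    omega

end Orth4

end CfsgLib.Maximal.SUFour
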