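import Mathlib
import Cfsg.Agent.Lib.Maximal.SUFour.OrthRadical

/-!
The orbit of the rational points under an overgroup without rational transvections is too large unless the
overgroup is rational.
-/

set_option autoImplicit false
set_option linter.unusedSectionVars false
set_option linter.unusedSimpArgs false
set_option linter.style.haveILetI false
set_option maxHeartbeats 400000

namespace CfsgLib.Maximal.SUFour

open scoped Matrix LinearAlgebra.Projectivization

lemma card_dvd_of_free {K X : Type*} [Group K] [MulAction K X] [Finite X] (S : Set X)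
    (inv : ∀ k : K, ∀ x ∈ S, k • x ∈ S) (free : ∀ k : K, ∀ x ∈ S, k • x = x → k = 1) :
    Nat.card K ∣ Nat.card S := by
  let T : SubMulAction K X := ⟨S, fun k x hx => inv k x hx⟩
  let e := MulAction.selfEquivOrbitsQuotientProd (G := K) (X := T) fun b => by
    rw [eq_bot_iff]
    intro k hk
    exact free k b.1 b.2 (congrArg Subtype.val (MulAction.mem_stabilizer_iff.1 hk))
  exact ⟨Nat.card (Quotient (MulAction.orbitRel K T)), by
    rw [mul_comm, ← Nat.card_prod, ← Nat.card_congr e]; rfl⟩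

lemma card_modEq_one {p : ℕ} [Fact p.Prime] {K X : Type*} [Group K] [MulAction K X] [Finite X]
    (hK : IsPGroup p K) (S : Set X) (inv : ∀ k : K, ∀ x ∈ S, k • x ∈ S) {x₀ : X} (hx₀ : x₀ ∈ S)
    (hfix : ∀ k : K, k • x₀ = x₀) (only : ∀ x ∈ S, (∀ k : K, k • x = x) → x = x₀) :
    Nat.card S ≡ 1 [MOD p] := by
  let T : SubMulAction K X := ⟨S, fun k x hx => inv k x hx⟩
  have h1 := hK.card_modEq_card_fixedPoints (α := T)
  have h2 : Nat.card (MulAction.fixedPoints K T) = 1 := by
    rw [Nat.card_eq_one_iff_unique]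
    refine ⟨⟨fun a b => Subtype.ext (Subtype.ext ?_)⟩, ⟨⟨⟨x₀, hx₀⟩, fun k => Subtype.ext (hfix k)⟩⟩⟩
    rw [only _ a.1.2 fun k => congrArg Subtype.val (a.2 k), only _ b.1.2 fun k => congrArg Subtype.val (b.2 k)]
  rw [h2] at h1
  exact h1

variable {F : Type*} [Field F] [Fintype F] {τ : F ≃+* F} {h : (Fin 4 → F) → (Fin 4 → F) → F} {F₀ : Subfield F}
  {H : Subgroup (Matrix.GeneralLinearGroup (Fin 4) F)}

local notation "VV" => (Fin 4 → F)
local notation "GG" => Matrix.GeneralLinearGroup (Fin 4) F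

/-- Rational isotropic points. -/
def ratPts (h : (Fin 4 → F) → (Fin 4 → F) → F) (F₀ : Subfield F) : Set (ℙ F (Fin 4 → F)) :=
  {P | ∃ (r : Fin 4 → F) (hr : r ≠ 0), RatV F₀ r ∧ h r r = 0 ∧ P = Projectivization.mk F r hr}

/-- Points orthogonal to a vector. -/
def perpPts (h : (Fin 4 → F) → (Fin 4 → F) → F) (e : Fin 4 → F) : Set (ℙ F (Fin 4 → F)) :=
  {P | h P.rep e = 0}

namespace Orth4

variable (O : Orth4 τ h F₀ H)
include O

lemma mk_perp {e v : VV} (hv : v ≠ 0) : Projectivization.mk F v hv ∈ perpPts h e ↔ h v e = 0 := by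
  obtain ⟨a, ha⟩ := Projectivization.exists_smul_eq_mk_rep F v hv
  show h _ e = 0 ↔ _
  rw [← ha, Units.smul_def, O.smul_l, mul_eq_zero, or_iff_right a.ne_zero]

lemma exists_line {v : VV} (hv : v ≠ 0) {g : GG} {w : VV} (hw : w ≠ 0)
    (e : g • Projectivization.mk F v hv = Projectivization.mk F w hw) :
    ∃ a : F, a ≠ 0 ∧ Units.val g *ᵥ v = a • w := by
  rw [Projectivization.smul_mk, Projectivization.mk_eq_mk_iff'] at e
  obtain ⟨a, ha⟩ := e
  refine ⟨a, fun h0 => hv (mulVec_inj g (show Units.val g *ᵥ v = Units.val g *ᵥ 0 by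
    rw [Matrix.mulVec_zero]; exact ha.symm.trans (by rw [h0, zero_smul]))), ha.symm⟩

lemma rat_mem {g : GG} (hg : g ∈ H) (hr : RatUpToScalar F₀ g) {P : ℙ F VV} (hP : P ∈ ratPts h F₀) :
    g • P ∈ ratPts h F₀ := by
  obtain ⟨r, hr0, hrr, hiso, rfl⟩ := hP
  obtain ⟨c, hc, hM⟩ := hr
  have h1 := hM.mulVec hrr
  rw [Matrix.smul_mulVec] at h1
  have hne : c • (Units.val g *ᵥ r) ≠ 0 := smul_ne_zero hc fun e0 => hr0 (mulVec_inj g
    (show Units.val g *ᵥ r = Units.val g *ᵥ 0 by rw [Matrix.mulVec_zero]; exact e0))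
  refine ⟨_, hne, h1, by rw [O.smul_l, O.smul_r, suH_iso (O.le hg), hiso]; ring, ?_⟩
  rw [Projectivization.smul_mk, Projectivization.mk_eq_mk_iff']
  exact ⟨c⁻¹, by rw [smul_smul, inv_mul_cancel₀ hc, one_smul]; rfl⟩

variable {e f c d : Fin 4 → F} (R : Frame h F₀ e f c d)
include R

lemma exists_norm_sol {N : F} (hN : τ N = N) : ∃ s : F, s * τ s = N := by
  have hσ : (τ : F →+* F) ≠ RingHom.id F := fun h' => O.unit.ne_refl (RingEquiv.ext fun a => RingHom.congr_fun h' a)
  exact CfsgLib.Geometry.exists_norm_eq (σ := (τ : F →+* F)) hσ O.invol hN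

/-- Parameters of non-rational totally isotropic lines through the first point. -/
lemma card_private : Nat.card F₀ - 1 ≤ Nat.card {s : F // s * τ s = -(h c c / h d d) ∧ τ s ≠ s} := by
  classical
  haveI : Fintype F₀ := Fintype.ofFinite _
  set N := -(h c c / h d d) with hNdef
  have hN : τ N = N := by rw [hNdef, map_neg, map_div₀, O.gram_self R.rc, O.gram_self R.rd]
  obtain ⟨s₀, hs₀⟩ := O.exists_norm_sol R hN
  have hs₀0 : s₀ ≠ 0 := fun e0 => by
    rw [e0, zero_mul, hNdef] at hs₀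
    exact div_ne_zero R.cc R.dd (neg_eq_zero.1 hs₀.symm)
  let nm : Fˣ →* F₀ˣ :=
    { toFun := fun x => Units.mk0 ⟨(x : F) * τ x, (O.fix _).1 (by rw [map_mul, O.invol, mul_comm])⟩
        (fun e0 => mul_ne_zero x.ne_zero (O.tau_ne x.ne_zero) (congrArg Subtype.val e0))
      map_one' := by ext; simp
      map_mul' := fun x y => by ext; simp; ring }
  have hker : Nat.card F₀ + 1 ≤ Nat.card nm.ker := by
    have h1 := Subgroup.card_mul_index nm.ker
    rw [Subgroup.index_ker, Nat.card_units, O.natCard_eq] at h1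
    have h2 : Nat.card nm.range ≤ Nat.card F₀ - 1 := by
      rw [← Nat.card_units]; exact Nat.card_le_card_of_injective _ Subtype.val_injective
    obtain ⟨j, hj⟩ : ∃ j, Nat.card F₀ = j + 2 := ⟨Nat.card F₀ - 2, by
      have : 1 < Nat.card F₀ := Finite.one_lt_card
      omega⟩
    rw [hj] at h1 h2 ⊢
    by_contra hlt
    push Not at hlt
    have h3 : Nat.card nm.ker * Nat.card nm.range ≤ (j + 2) * (j + 1) :=
      Nat.mul_le_mul (by omega) (by omega)
    have h4 : (j + 2) ^ 2 = (j + 2) * (j + 1) + (j + 2) := by ring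
    omega
  let toSol : nm.ker → {s : F // s * τ s = N} := fun x => ⟨s₀ * (x.1 : F), by
    have h1 := congrArg (fun u : F₀ˣ => ((u : F₀) : F)) (MonoidHom.mem_ker.1 x.2)
    simp [nm] at h1
    rw [map_mul]; linear_combination (s₀ * τ s₀) * h1 + hs₀⟩
  have hinj : Function.Injective toSol := fun x y hxy =>
    Subtype.ext (Units.ext (mul_left_cancel₀ hs₀0 (congrArg Subtype.val hxy)))
  have h1 := hker.trans (Nat.card_le_card_of_injective toSol hinj)
  rw [Nat.card_eq_fintype_card (α := {s : F // s * τ s = N}), Fintype.card_subtype] at h1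
  rw [Nat.card_eq_fintype_card (α := {s : F // s * τ s = N ∧ τ s ≠ s}), Fintype.card_subtype]
  have h2 := Finset.card_filter_add_card_filter_not (s := Finset.univ.filter fun s : F => s * τ s = N)
    (fun s => τ s ≠ s)
  rw [Finset.filter_filter, Finset.filter_filter] at h2
  have h3 : (Finset.univ.filter fun s : F => s * τ s = N ∧ ¬τ s ≠ s).card ≤ 2 := by
    by_cases hex : ∃ r : F, r * τ r = N ∧ τ r = r
    · obtain ⟨r, hr1, hr2⟩ := hex
      refine (Finset.card_le_card (t := {r, -r}) fun s hs => ?_).trans Finset.card_le_two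
      simp only [Finset.mem_filter, Finset.mem_univ, true_and, not_not] at hs
      rw [hs.2] at hs
      rw [hr2] at hr1
      simpa using mul_self_eq_mul_self_iff.1 (hs.1.trans hr1.symm)
    · rw [show (Finset.univ.filter fun s : F => s * τ s = N ∧ ¬τ s ≠ s) = ∅ from
        Finset.filter_eq_empty_iff.2 fun s _ hs => hex ⟨s, hs.1, not_not.1 hs.2⟩]
      simp
  omega

omit R

/-- An overgroup is rational or has all transvections. -/
theorem rational_or_full (hq : 5 ≤ Nat.card F₀) {e : VV} (he : RatV F₀ e) (hee : h e e = 0) (he0 : e ≠ 0)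
    (hlines : Nat.card {W : Submodule F VV // Module.finrank F W = 2 ∧ ∀ u ∈ W, ∀ v ∈ W, h u v = 0} =
      (Nat.card F₀ + 1) * (Nat.card F₀ ^ 3 + 1)) :
    (∀ g ∈ H, RatUpToScalar F₀ g) ∨ ∀ v, h v v = 0 → TFull τ h H v := by
  classical
  obtain ⟨f, c, d, R⟩ := O.exists_frame he hee he0
  by_cases hNT : NoTv τ h F₀ H
  swap
  · simp only [NoTv, not_forall] at hNT
    obtain ⟨e', k, he', hee', he0', hk, hm, hk0⟩ := hNT
    obtain ⟨f', c', d', R'⟩ := O.exists_frame he' hee' he0'
    exact Or.inr fun v hv => O.full_of_tv R' hq hk0 hk hm hv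
  left
  by_contra hcon
  haveI : Finite GG := Finite.of_injective (fun g : GG => Units.val g) fun a b h' => Units.ext h'
  haveI : Finite (ℙ F VV) := Quotient.finite _
  set q := Nat.card F₀ with hqdef
  set P₀ := Projectivization.mk F e he0 with hP₀
  have movePt : ∀ P ∈ ratPts h F₀, ∃ g ∈ H, RatM F₀ (Units.val g) ∧ g • P₀ = P := by
    rintro P ⟨r, hr0, hrr, hiso, rfl⟩
    obtain ⟨g, hg, hM, s, hs, eg⟩ := O.move R hrr hiso hr0
    refine ⟨g, hg, hM, ?_⟩
    rw [hP₀, Projectivization.smul_mk, Projectivization.mk_eq_mk_iff']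
    exact ⟨s, eg.symm⟩
  have hP₀R : P₀ ∈ ratPts h F₀ := ⟨e, he0, he, hee, rfl⟩
  have stab : ∀ g ∈ H, g • P₀ = P₀ → RatUpToScalar F₀ g := fun g hg hgP => by
    obtain ⟨a, ha, hga⟩ := O.exists_line he0 he0 hgP
    exact ⟨τ a, O.tau_ne ha, O.stab_rat R hNT hg hga⟩
  -- the orbit
  let Ob : Set (ℙ F VV) := {P | ∃ g ∈ H, g • P₀ = P}
  have hRO : ratPts h F₀ ⊆ Ob := fun P hP => let ⟨g, hg, _, e1⟩ := movePt P hP; ⟨g, hg, e1⟩
  have hne : Ob ≠ ratPts h F₀ := by
    intro heq
    refine hcon fun g hg => ?_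
    obtain ⟨ρ, hρ, hρM, hρe⟩ := movePt (g • P₀) (heq ▸ ⟨g, hg, rfl⟩)
    obtain ⟨a, ha, hM⟩ := stab (ρ⁻¹ * g) (mul_mem (inv_mem hρ) hg) (by rw [mul_smul, ← hρe, inv_smul_smul])
    refine ⟨a, ha, ?_⟩
    have h1 := hρM.mul hM
    rwa [Matrix.mul_smul, ← Units.val_mul, mul_inv_cancel_left] at h1
  have hrep : ∀ P ∈ Ob, ∃ g ∈ H, ∃ hv : Units.val g *ᵥ e ≠ 0,
      P = Projectivization.mk F (Units.val g *ᵥ e) hv := by
    rintro P ⟨g, hg, rfl⟩
    exact ⟨g, hg, _, Projectivization.smul_mk g he0⟩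
  have hB : Ob ∩ perpPts h e = ratPts h F₀ ∩ perpPts h e := by
    refine Set.Subset.antisymm ?_ (Set.inter_subset_inter_left _ hRO)
    rintro P ⟨hP, hPe⟩
    refine ⟨?_, hPe⟩
    obtain ⟨g, hg, hv, rfl⟩ := hrep P hP
    obtain ⟨a, ha, har⟩ := O.no_perp R hNT hq hg he hee he0 ((O.mk_perp hv).1 hPe)
    refine ⟨a • (Units.val g *ᵥ e), smul_ne_zero ha hv, har, ?_, ?_⟩
    · rw [O.smul_l, O.smul_r, suH_iso (O.le hg), hee]; ring
    · rw [Projectivization.mk_eq_mk_iff']; exact ⟨a⁻¹, inv_smul_smul₀ ha _⟩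
  -- divisibility by the number of rational points
  have hdvd : Nat.card (ratPts h F₀) ∣ Nat.card Ob := by
    let G : Subgroup GG :=
      { carrier := {g | g ∈ H ∧ ∀ P, P ∈ ratPts h F₀ ↔ g • P ∈ ratPts h F₀}
        one_mem' := ⟨one_mem H, fun P => by rw [one_smul]⟩
        mul_mem' := fun {a b} ha hb => ⟨mul_mem ha.1 hb.1, fun P => by rw [mul_smul]; exact (hb.2 P).trans (ha.2 _)⟩
        inv_mem' := fun {a} ha => ⟨inv_mem ha.1, fun P => by rw [ha.2 (a⁻¹ • P), smul_inv_smul]⟩ }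
    have hGH : G ≤ H := fun g hg => hg.1
    have inG : ∀ g ∈ H, RatUpToScalar F₀ g → g ∈ G := fun g hg hr => ⟨hg, fun P => ⟨O.rat_mem hg hr, fun hP => by
      have hfin : (ratPts h F₀).Finite := Set.toFinite _
      have him : (fun P => g • P) '' ratPts h F₀ = ratPts h F₀ := Set.eq_of_subset_of_ncard_le
        (Set.image_subset_iff.2 fun P hP' => O.rat_mem hg hr hP')
        (by rw [Set.ncard_image_of_injective _ (MulAction.injective g)]) hfin
      obtain ⟨P', hP', e'⟩ := him.ge hP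
      rwa [MulAction.injective g e'] at hP'⟩⟩
    have oH : Ob = MulAction.orbit H P₀ := by
      ext P; exact ⟨fun ⟨g, hg, e'⟩ => ⟨⟨g, hg⟩, e'⟩, fun ⟨g, e'⟩ => ⟨g.1, g.2, e'⟩⟩
    have oG : ratPts h F₀ = MulAction.orbit G P₀ := by
      ext P
      constructor
      · intro hP
        obtain ⟨g, hg, hM, e'⟩ := movePt P hP
        exact ⟨⟨g, inG g hg ⟨1, one_ne_zero, by rwa [one_smul]⟩⟩, e'⟩
      · rintro ⟨g, rfl⟩; exact (g.2.2 P₀).1 hP₀R
    have hH := Nat.card_congr (MulAction.orbitProdStabilizerEquivGroup H P₀)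
    have hG := Nat.card_congr (MulAction.orbitProdStabilizerEquivGroup G P₀)
    rw [Nat.card_prod, ← oH] at hH
    rw [Nat.card_prod, ← oG] at hG
    have hst : Nat.card (MulAction.stabilizer H P₀) = Nat.card (MulAction.stabilizer G P₀) :=
      Nat.card_congr
        { toFun := fun g => ⟨⟨g.1.1, inG _ g.1.2 (stab _ g.1.2 (MulAction.mem_stabilizer_iff.1 g.2))⟩,
            MulAction.mem_stabilizer_iff.2 (MulAction.mem_stabilizer_iff.1 g.2 : g.1.1 • P₀ = P₀)⟩
          invFun := fun g => ⟨⟨g.1.1, hGH g.1.2⟩,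
            MulAction.mem_stabilizer_iff.2 (MulAction.mem_stabilizer_iff.1 g.2 : g.1.1 • P₀ = P₀)⟩
          left_inv := fun g => rfl
          right_inv := fun g => rfl }
    obtain ⟨j, hj⟩ := Subgroup.card_dvd_of_le hGH
    rw [hst, hj, ← hG, mul_right_comm] at hH
    exact ⟨j, Nat.eq_of_mul_eq_mul_right Nat.card_pos hH⟩
  -- the translations at the first point
  let w : F₀ × F₀ → VV := fun x => (x.1 : F) • c + (x.2 : F) • d
  have hwr : ∀ x, RatV F₀ (w x) := fun x => (R.rc.smul x.1.2).addV (R.rd.smul x.2.2)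
  have hwe : ∀ x, h (w x) e = 0 := fun x => by simp [w, O.add_l, O.smul_l, O.ce R, O.de R]
  have hwec : ∀ x, h e (w x) = 0 := fun x => O.flip0 (hwe x)
  choose u hu eu using fun x => O.uMap_mem R.re R.ee (hwr x) (hwe x)
  let φ : Multiplicative (F₀ × F₀) →* GG :=
    MonoidHom.mk' (fun x => u (Multiplicative.toAdd x)) fun x y => by
      refine Units.ext (CfsgLib.Geometry.matrix_eq_of_mulVec fun z => ?_)
      simp only [Units.val_mul, ← Matrix.mulVec_mulVec, eu, toAdd_mul]
      rw [show uMap h e (w x.toAdd) (uMap h e (w y.toAdd) z) = eMap h e (w x.toAdd) _ (eMap h e (w y.toAdd) _ z)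
        from rfl, O.eMap_comp R.ee (hwe _) (hwe _)]
      have hsum : w (x.toAdd + y.toAdd) = w x.toAdd + w y.toAdd := by
        simp only [w, Prod.fst_add, Prod.snd_add, AddMemClass.coe_add]; module
      simp only [uMap, hsum, O.add_l, O.add_r, O.sym (hwr x.toAdd) (hwr y.toAdd)]
      congr 1
      have := O.two
      field_simp
      ring
  letI : MulAction (Multiplicative (F₀ × F₀)) (ℙ F VV) := MulAction.compHom _ φ
  have act : ∀ (x : Multiplicative (F₀ × F₀)) (P : ℙ F VV), x • P = φ x • P := fun x P => rfl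
  have hfixe : ∀ x, Units.val (φ x) *ᵥ e = e := fun x => by
    show Units.val (u _) *ᵥ e = e
    rw [eu, uMap, eMap, R.ee, hwec]; simp
  have hperp : ∀ (x : Multiplicative (F₀ × F₀)) P, P ∈ perpPts h e → x • P ∈ perpPts h e := by
    intro x P hP
    induction P using Projectivization.ind with
    | h v hv =>
      rw [act, Projectivization.smul_mk, O.mk_perp]
      rw [O.mk_perp] at hP
      show h (Units.val (φ x) *ᵥ v) e = 0
      rw [← hfixe x]
      exact (suH_iso (O.le (hu _)) v e).trans hP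
  have hperp' : ∀ (x : Multiplicative (F₀ × F₀)) P, x • P ∈ perpPts h e → P ∈ perpPts h e := fun x P hP => by
    have := hperp x⁻¹ _ hP
    rwa [inv_smul_smul] at this
  have invOb : ∀ (x : Multiplicative (F₀ × F₀)), ∀ P ∈ Ob, x • P ∈ Ob := by
    rintro x P ⟨g, hg, rfl⟩
    exact ⟨φ x * g, mul_mem (hu _) hg, by rw [act, mul_smul]⟩
  have invRat : ∀ (x : Multiplicative (F₀ × F₀)), ∀ P ∈ ratPts h F₀, x • P ∈ ratPts h F₀ := fun x P hP => by
    rw [act]
    refine O.rat_mem (hu _) ⟨1, one_ne_zero, ?_⟩ hP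
    rw [one_smul]
    refine O.ratM_of_frame R ?_ ?_ ?_ ?_ <;>
      (show RatV F₀ (Units.val (u _) *ᵥ _); rw [eu])
    all_goals
      exact ((fun {v : VV} (hv : RatV F₀ v) => (hv.addV (he.smul (F₀.sub_mem (F₀.mul_mem (F₀.neg_mem
        (O.half_mem (O.rat _ _ (hwr _) (hwr _)))) (O.rat _ _ hv he)) (O.rat _ _ hv (hwr _))))).addV
        ((hwr _).smul (O.rat _ _ hv he))) (by first | exact R.re | exact R.rf | exact R.rc | exact R.rd))
  have hcardK : Nat.card (Multiplicative (F₀ × F₀)) = q ^ 2 := by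
    rw [Nat.card_congr Multiplicative.toAdd, Nat.card_prod, hqdef, sq]
  have free : ∀ (x : Multiplicative (F₀ × F₀)) P, P ∉ perpPts h e → x • P = P → x = 1 := by
    intro x P hP hx
    induction P using Projectivization.ind with
    | h v hv =>
      rw [O.mk_perp] at hP
      obtain ⟨a, -, ha⟩ := O.exists_line hv hv hx
      have h1 : h (Units.val (φ x) *ᵥ v) (Units.val (φ x) *ᵥ e) = h v e := suH_iso (O.le (hu _)) v e
      rw [hfixe, ha, O.smul_l] at h1
      rw [mul_left_eq_self₀.1 h1 |>.resolve_right hP, one_smul] at ha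
      change Units.val (u _) *ᵥ v = v at ha
      rw [eu, uMap, eMap] at ha
      have h2 := congrArg (fun z => h z c) ha
      have h3 := congrArg (fun z => h z d) ha
      simp only [O.add_l, O.smul_l, R.ec, R.ed, w, O.dc R, R.cd, mul_zero, add_zero, zero_add,
        add_eq_left, mul_eq_zero, hP, R.cc, R.dd, false_or, or_false] at h2 h3
      exact congrArg Multiplicative.ofAdd (Prod.ext (Subtype.ext h2) (Subtype.ext h3) : x.toAdd = 0)
  have hfree : ∀ S : Set (ℙ F VV), (∀ (x : Multiplicative (F₀ × F₀)), ∀ P ∈ S, x • P ∈ S) →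
      q ^ 2 ∣ Nat.card ↥(S \ perpPts h e) := fun S hS => hcardK ▸ card_dvd_of_free _
    (fun x P hP => ⟨hS x P hP.1, fun h' => hP.2 (hperp' x P h')⟩) fun x P hP hx => free x P hP.2 hx
  have hA := hfree Ob invOb
  have hA' := hfree _ invRat
  obtain ⟨p, hp⟩ := CharP.exists F₀
  haveI : Fintype F₀ := Fintype.ofFinite _
  obtain ⟨n, hpp, hn⟩ := FiniteField.card F₀ p
  haveI : Fact p.Prime := ⟨hpp⟩
  have hqp : q = p ^ (n : ℕ) := by rw [hqdef, Nat.card_eq_fintype_card, hn]
  have hKp : IsPGroup p (Multiplicative (F₀ × F₀)) := IsPGroup.of_card (n := (n : ℕ) * 2)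
    (by rw [hcardK, hqp, ← pow_mul])
  have hmod : Nat.card ↥(ratPts h F₀ ∩ perpPts h e) ≡ 1 [MOD p] := by
    refine card_modEq_one hKp _ (fun x P hP => ⟨invRat x P hP.1, hperp x P hP.2⟩) (x₀ := P₀)
      ⟨hP₀R, (O.mk_perp he0).2 hee⟩ (fun x => ?_) ?_
    · rw [act, hP₀, Projectivization.smul_mk, Projectivization.mk_eq_mk_iff']
      exact ⟨1, by rw [one_smul]; exact (hfixe x).symm⟩
    · rintro P ⟨⟨r, hr0, hrr, -, rfl⟩, hre⟩ hall
      rw [O.mk_perp] at hre
      have key : ∀ x : F₀ × F₀, ∃ a : F, r - h r (w x) • e = a • r := fun x => by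
        obtain ⟨a, -, ha⟩ := O.exists_line hr0 hr0 (hall (Multiplicative.ofAdd x))
        refine ⟨a, ?_⟩
        rw [← ha]
        show _ = Units.val (u x) *ᵥ r
        rw [eu, uMap, eMap, hre]
        module
      have orth : ∀ (x : F₀ × F₀) (v : VV), h e v = 0 → h r v ≠ 0 → h r (w x) = 0 := fun x v hev hrv => by
        obtain ⟨a, ha⟩ := key x
        have h1 := congrArg (fun z => h z v) ha
        simp only [O.sub_l, O.smul_l, hev, mul_zero, sub_zero] at h1
        rw [mul_left_eq_self₀.1 h1.symm |>.resolve_right hrv, one_smul] at ha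
        exact (smul_eq_zero.1 (sub_eq_self.1 ha)).resolve_right he0
      have hrc : h r c = 0 := by
        by_contra hne
        exact hne (by simpa [w] using orth (1, 0) c R.ec hne)
      have hrd : h r d = 0 := by
        by_contra hne
        exact hne (by simpa [w] using orth (0, 1) d R.ed hne)
      rw [hP₀, Projectivization.mk_eq_mk_iff']
      exact ⟨h r f, by conv_rhs => rw [O.expand R r, hre, hrc, hrd]; simp⟩
  have hsplit : ∀ S : Set (ℙ F VV), Nat.card S = Nat.card ↥(S \ perpPts h e) + Nat.card ↥(S ∩ perpPts h e) := fun S => by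
    rw [Nat.card_coe_set_eq, Nat.card_coe_set_eq, Nat.card_coe_set_eq, add_comm,
      Set.ncard_inter_add_ncard_sdiff_eq_ncard _ _ (Set.toFinite _)]
  have hO := hsplit Ob
  have hRat := hsplit (ratPts h F₀)
  rw [hB] at hO
  have hcop : Nat.Coprime (q ^ 2) (Nat.card (ratPts h F₀)) := by
    refine Nat.Coprime.pow_left 2 (hqp ▸ Nat.Coprime.pow_left _ (hpp.coprime_iff_not_dvd.2 fun hd => ?_))
    rw [hRat] at hd
    have hd' : p ∣ Nat.card ↥(ratPts h F₀ \ perpPts h e) :=
      (dvd_pow (dvd_of_eq (pow_one p).symm |>.trans (hqp ▸ pow_dvd_pow p n.2)) two_ne_zero).trans hA'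
    have h1 := (Nat.dvd_add_right hd').1 hd
    rw [← Nat.modEq_zero_iff_dvd] at h1
    exact hpp.one_lt.ne' (Nat.dvd_one.1 (Nat.modEq_zero_iff_dvd.1 (hmod.symm.trans h1)))
  obtain ⟨m, hm⟩ := hdvd
  have hRpos : q ^ 2 + 1 ≤ Nat.card (ratPts h F₀) := by
    have hf0 : f ≠ 0 := O.e_ne (O.swap R)
    have h1 : 0 < Nat.card ↥(ratPts h F₀ \ perpPts h e) :=
      Nat.card_pos_iff.2 ⟨⟨⟨_, ⟨f, hf0, R.rf, R.ff, rfl⟩, fun h' => one_ne_zero (α := F)
        (by rw [← O.fe R]; exact (O.mk_perp hf0).1 h')⟩⟩, Finite.of_injective _ Subtype.val_injective⟩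
    have h2 : 0 < Nat.card ↥(ratPts h F₀ ∩ perpPts h e) :=
      Nat.card_pos_iff.2 ⟨⟨⟨P₀, hP₀R, (O.mk_perp he0).2 hee⟩⟩, Finite.of_injective _ Subtype.val_injective⟩
    have := Nat.le_of_dvd h1 hA'
    omega
  have hm1 : 1 < m := by
    have hlt : Nat.card (ratPts h F₀) < Nat.card Ob := by
      rw [Nat.card_coe_set_eq, Nat.card_coe_set_eq]
      exact Set.ncard_lt_ncard (hRO.ssubset_of_ne (Ne.symm hne)) (Set.toFinite _)
    rw [hm] at hlt
    by_contra hle
    have : Nat.card (ratPts h F₀) * m ≤ Nat.card (ratPts h F₀) := by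
      conv_rhs => rw [← mul_one (Nat.card (ratPts h F₀))]
      exact Nat.mul_le_mul_left _ (by omega)
    omega
  have hmq : q ^ 2 + 1 ≤ m := by
    obtain ⟨α, hα⟩ := hA
    obtain ⟨β, hβ⟩ := hA'
    have h1 : q ^ 2 ∣ (m - 1) * Nat.card (ratPts h F₀) := by
      refine ⟨α - β, ?_⟩
      rw [Nat.mul_sub, Nat.sub_mul, ← hα, ← hβ, one_mul, mul_comm m, ← hm]
      omega
    have := Nat.le_of_dvd (by omega) (hcop.dvd_of_dvd_mul_right h1)
    omega
  -- the private lines
  choose g hg hgP using fun P : Ob => P.2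
  let ℓ : F → Submodule F VV := fun s => Submodule.span F {e, c + s • d}
  let S := {s : F // s * τ s = -(h c c / h d d) ∧ τ s ≠ s}
  let L : Ob × S → {W : Submodule F VV // Module.finrank F W = 2 ∧ ∀ u ∈ W, ∀ v ∈ W, h u v = 0} := fun x =>
    ⟨(ℓ x.2.1).map (Matrix.mulVecLin (Units.val (g x.1))), by
      constructor
      · rw [← LinearEquiv.finrank_eq (Submodule.equivMapOfInjective _ (fun a b hab => mulVec_inj (g x.1) hab) _)]
        have hli : LinearIndependent F ![e, c + x.2.1 • d] := by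
          rw [LinearIndependent.pair_iff]
          intro α β hab
          have h1 := congrArg (fun z => h z c) hab
          have h2 := congrArg (fun z => h z f) hab
          simp only [O.add_l, O.smul_l, R.ec, O.dc R, R.ef, O.cf R, O.df R, O.zero_l, mul_zero, mul_one, add_zero,
            zero_add] at h1 h2
          exact ⟨h2, (mul_eq_zero.1 h1).resolve_right R.cc⟩
        have := finrank_span_eq_card hli
        rwa [Matrix.range_cons, Matrix.range_cons, Matrix.range_empty, Set.union_empty, Set.singleton_union,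
          Fintype.card_fin] at this
      · rintro _ ⟨a, ha, rfl⟩ _ ⟨b, hb, rfl⟩
        show h (Units.val (g x.1) *ᵥ a) (Units.val (g x.1) *ᵥ b) = 0
        rw [suH_iso (O.le (hg x.1))]
        obtain ⟨a₁, a₂, rfl⟩ := Submodule.mem_span_pair.1 ha
        obtain ⟨b₁, b₂, rfl⟩ := Submodule.mem_span_pair.1 hb
        have hs := x.2.2.1
        simp only [O.add_l, O.add_r, O.smul_l, O.smul_r, R.ee, R.ec, R.ed, O.ce R, O.de R, R.cd, O.dc R]
        have h3 : h c c + x.2.1 * τ x.2.1 * h d d = 0 := by rw [hs]; have := R.dd; field_simp; ring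
        linear_combination (a₂ * τ b₂) * h3⟩
  have hLinj : Function.Injective L := by
    rintro ⟨P, s, hs⟩ ⟨P', s', hs'⟩ hxy
    have hW : (ℓ s).map (Matrix.mulVecLin (Units.val (g P))) = (ℓ s').map (Matrix.mulVecLin (Units.val (g P'))) :=
      congrArg Subtype.val hxy
    obtain ⟨z, hz, hzg⟩ : Units.val (g P') *ᵥ e ∈ (ℓ s).map (Matrix.mulVecLin (Units.val (g P))) :=
      hW ▸ Submodule.mem_map_of_mem (f := Matrix.mulVecLin (Units.val (g P')))
        (Submodule.subset_span (Set.mem_insert _ _) : e ∈ ℓ s')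
    obtain ⟨α, β, rfl⟩ := Submodule.mem_span_pair.1 hz
    replace hzg : Units.val (g P) *ᵥ (α • e + β • (c + s • d)) = Units.val (g P') *ᵥ e := hzg
    have hk : Units.val ((g P)⁻¹ * g P') *ᵥ e = α • e + β • (c + s • d) := by
      rw [Units.val_mul, ← Matrix.mulVec_mulVec, ← hzg, Matrix.mulVec_mulVec, ← Units.val_mul, inv_mul_cancel,
        Units.val_one, Matrix.one_mulVec]
    obtain ⟨π, hπ, hπr⟩ := O.no_perp R hNT hq (mul_mem (inv_mem (hg P)) (hg P')) he hee he0 (by
      rw [hk]; simp [O.add_l, O.smul_l, O.add_r, R.ee, O.ce R, O.de R])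
    rw [hk] at hπr
    have hβ : β = 0 := by
      by_contra hβ
      refine hs.2 ((O.fix s).2 ?_)
      have h1 := O.rat _ _ hπr R.rc
      have h2 := O.rat _ _ hπr R.rd
      simp only [O.add_l, O.smul_l, R.ec, R.ed, R.cd, O.dc R, mul_zero, add_zero, zero_add] at h1 h2
      have h3 := F₀.mul_mem (F₀.div_mem h2 h1) (F₀.div_mem (O.rat _ _ R.rc R.rc) (O.rat _ _ R.rd R.rd))
      have := R.cc
      have := R.dd
      convert h3 using 1
      field_simp
    rw [hβ, zero_smul, add_zero, Matrix.mulVec_smul] at hzg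
    have hPP : P = P' := Subtype.ext (by
      rw [← hgP P, ← hgP P', hP₀, Projectivization.smul_mk, Projectivization.smul_mk, Eq.comm,
        Projectivization.mk_eq_mk_iff']
      exact ⟨α, hzg⟩)
    subst hPP
    have hl := Submodule.map_injective_of_injective (fun a b hab => mulVec_inj (g P) hab) hW
    have hmem : c + s' • d ∈ ℓ s := hl ▸ Submodule.subset_span (by simp)
    obtain ⟨a₁, a₂, h12⟩ := Submodule.mem_span_pair.1 hmem
    have h1 := congrArg (fun z => h z c) h12
    have h2 := congrArg (fun z => h z d) h12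
    simp only [O.add_l, O.smul_l, R.ec, R.ed, R.cd, O.dc R, mul_zero, add_zero, zero_add] at h1 h2
    rw [mul_left_eq_self₀.1 h1 |>.resolve_right R.cc, one_mul] at h2
    exact Prod.ext rfl (Subtype.ext (mul_right_cancel₀ R.dd h2))
  have hle := Nat.card_le_card_of_injective L hLinj
  rw [Nat.card_prod, hlines, hm] at hle
  have h1 : (q ^ 2 + 1) * (q ^ 2 + 1) * (q - 1) ≤ (q + 1) * (q ^ 3 + 1) :=
    le_trans (Nat.mul_le_mul (Nat.mul_le_mul hRpos hmq) (O.card_private R)) hle
  obtain ⟨j, hj⟩ : ∃ j, q = j + 5 := ⟨q - 5, by omega⟩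
  rw [hj, show j + 5 - 1 = j + 4 from rfl] at h1
  ring_nf at h1
  nlinarith [h1, Nat.zero_le (j ^ 5), Nat.zero_le (j ^ 4), Nat.zero_le (j ^ 3), Nat.zero_le (j ^ 2)]

end Orth4

end CfsgLib.Maximal.SUFour
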