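import Mathlib
import Cfsg.Agent.Lib.Maximal.SUFour.FramePlane
import Cfsg.Agent.Lib.Maximal.SUFour.OrthCount

/-!
Counting in a plane: over the monomial group of `SU₄(q)` some non-monomial element fixes a coordinate line,
unless the fourth powers of the phases are only `±1`.
-/

set_option autoImplicit false
set_option linter.unusedSectionVars false
set_option linter.unusedSimpArgs false
set_option maxHeartbeats 4000000

open scoped Classical

namespace CfsgLib.Maximal.SUFour.Frames

open scoped Matrix LinearAlgebra.Projectivization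
open CfsgLib.Maximal CfsgLib.UnMono

variable {q : ℕ} {F : Type*} [Field F] [Fintype F] {τ : F ≃+* F}
  {M : Subgroup (Matrix.GeneralLinearGroup (Fin 4) F)} {i : Fin 4} {u : Fin 4 → F}

local notation "hh" => Cfsg.hermForm 4 F q
local notation "MM" => Matrix (Fin 4) (Fin 4) F
local notation "GG" => Matrix.GeneralLinearGroup (Fin 4) F
local notation "VV" => (Fin 4 → F)
local notation "ee" => (Pi.single i (1 : F) : Fin 4 → F)
local notation "zz" => (u - u i • (Pi.single i (1 : F) : Fin 4 → F))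

/-- The possible scalars of the quasi-reflections. -/
noncomputable def scalars (τ : F ≃+* F) : Finset F := (mu τ).image fun ε => (ε ^ 4)⁻¹

lemma card_scalars (K : Ctx 4 q τ) :
    ∃ g : ℕ, g ∣ 4 ∧ q + 1 = g * (scalars τ).card ∧ ∀ a ∈ scalars τ, a ^ (scalars τ).card = 1 := by
  let U : Subgroup Fˣ := (powMonoidHom (q + 1) : Fˣ →* Fˣ).ker
  have hmem : ∀ x : Fˣ, x ∈ U ↔ (x : F) * τ (x : F) = 1 := fun x => by
    rw [K.pow, ← pow_succ', ← Units.val_pow_eq_pow_val, Units.val_eq_one]; rfl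
  have hU : Nat.card U = q + 1 := by
    rw [IsCyclic.card_powMonoidHom_ker, Nat.card_units, Nat.card_eq_fintype_card, K.card]
    exact Nat.gcd_eq_right (Dvd.intro _ (by rw [← Nat.sq_sub_sq, one_pow]))
  let f : U →* Fˣ := ((powMonoidHom 4 : Fˣ →* Fˣ).comp U.subtype)⁻¹
  have hk : Nat.card f.ker = Nat.gcd (q + 1) 4 := by
    rw [← hU, ← IsCyclic.card_powMonoidHom_ker U 4]
    refine Nat.card_congr (Equiv.subtypeEquivRight fun x => ?_)
    simp only [MonoidHom.mem_ker, f, MonoidHom.inv_apply, MonoidHom.comp_apply, powMonoidHom_apply,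
      Subgroup.subtype_apply, inv_eq_one, Subtype.ext_iff, Subgroup.coe_pow, Subgroup.coe_one]
  have hr : Nat.card f.range = (scalars τ).card := by
    have e : scalars τ = (f.range : Set Fˣ).toFinset.image fun x : Fˣ => (x : F) := by
      ext a
      simp only [scalars, Finset.mem_image, mem_mu, Set.mem_toFinset, SetLike.mem_coe, MonoidHom.mem_range]
      constructor
      · rintro ⟨ε, hε, rfl⟩
        exact ⟨_, ⟨⟨Units.mk0 ε (K.ne_of_nm hε), (hmem _).2 hε⟩, rfl⟩, by simp [f]⟩
      · rintro ⟨x, ⟨y, rfl⟩, rfl⟩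
        exact ⟨((y : Fˣ) : F), (hmem _).1 y.2, by simp [f]⟩
    rw [e, Finset.card_image_of_injective _ Units.val_injective, ← Set.ncard_eq_toFinset_card',
      ← Nat.card_coe_set_eq]
    rfl
  refine ⟨Nat.gcd (q + 1) 4, Nat.gcd_dvd_right _ _, ?_, fun a ha => ?_⟩
  · rw [← hk, ← hr, ← hU, ← Subgroup.index_ker, Subgroup.card_mul_index]
  · obtain ⟨ε, hε, rfl⟩ := Finset.mem_image.1 ha
    let y : U := ⟨Units.mk0 ε (K.ne_of_nm (mem_mu.1 hε)), (hmem _).2 (mem_mu.1 hε)⟩
    have h1 : (⟨f y, y, rfl⟩ : f.range) ^ Nat.card f.range = 1 := pow_card_eq_one'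
    rw [hr] at h1
    have h2 := congrArg (fun x : f.range => ((x : Fˣ) : F)) h1
    simpa [f, y] using h2

/-- The arithmetic of the count. -/
lemma count_cases {g k f r q : ℕ} (hg : g ∣ 4) (hq : q + 1 = g * k) (hk : 3 ≤ k) (hf : k + 1 ≤ f)
    (hmod : k ∣ f - 1) (hr : 1 ≤ r) (hsum : r * (f * k) ≤ q + 1 + 2 * (f - 1))
    (hdiv : r = 1 → q + 1 ∣ f * k) : k = 3 ∧ f = 4 ∧ (q = 5 ∨ q = 11) := by
  obtain ⟨f, rfl⟩ : ∃ f', f = f' + 1 := ⟨f - 1, by omega⟩
  rw [Nat.add_sub_cancel] at hmod hsum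
  have hg4 : g ≤ 4 := Nat.le_of_dvd (by norm_num) hg
  have hr1 : r = 1 := by
    by_contra h
    have h1 : 2 * ((f + 1) * k) ≤ r * ((f + 1) * k) := Nat.mul_le_mul_right _ (by omega)
    nlinarith
  subst hr1
  have hd := hdiv rfl
  have hk5 : k ≤ 5 := by nlinarith
  obtain ⟨j, rfl⟩ := hmod
  have hj : j ≤ 4 := by nlinarith
  rw [hq] at hd hsum
  interval_cases k <;> interval_cases g <;> interval_cases j <;> omega

lemma eigen_of_fix {g : GG} {v : VV} (hv : v ≠ 0)
    (h : g • Projectivization.mk F v hv = Projectivization.mk F v hv) : ∃ c : F, (g : MM) *ᵥ v = c • v := by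
  rw [Projectivization.smul_mk, Projectivization.mk_eq_mk_iff'] at h
  obtain ⟨c, hc⟩ := h
  exact ⟨c, hc.symm⟩

namespace Pl

variable (P : Pl (q := q) τ M i u)
include P

lemma z_at : (zz : VV) i = 0 := by simp

lemma coords {α γ α' γ' : F} (h : α • ee + γ • zz = α' • ee + γ' • zz) : α = α' ∧ γ = γ' := by
  obtain ⟨l, -, -, hl, -, -, -⟩ := exists_two_others i i
  have h1 := congrFun h i
  have h2 := congrFun h l
  simp [hl, P.dense l] at h1 h2
  exact ⟨h1, h2⟩

/-- An element fixing the coordinate point and another point of the plane is trivial. -/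
lemma two_fix {g : GG} (hg : g ∈ plane q M i u) {a c α γ : F} (h1 : (g : MM) *ᵥ ee = a • ee)
    (hα : α ≠ 0) (hγ : γ ≠ 0) (h2 : (g : MM) *ᵥ (α • ee + γ • zz) = c • (α • ee + γ • zz)) : g = 1 := by
  obtain ⟨hz, -⟩ := P.stab hg h1
  rw [Matrix.mulVec_add, Matrix.mulVec_smul, Matrix.mulVec_smul, h1, hz, smul_add, smul_smul, smul_smul,
    smul_smul] at h2
  obtain ⟨e1, e2⟩ := P.coords h2
  obtain rfl : c = 1 := mul_right_cancel₀ hγ (by rw [one_mul]; exact e2.symm)
  obtain rfl : a = 1 := mul_left_cancel₀ hα (by rw [mul_one]; rw [one_mul] at e1; exact e1)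
  exact P.ext hg (one_mem _) (by rw [h1, one_smul, Units.val_one, Matrix.one_mulVec])
    (by rw [hz, Units.val_one, Matrix.one_mulVec])

lemma in_comb (α γ : F) : ∀ w, hh w ee = 0 → hh w u = 0 → hh (α • ee + γ • zz) w = 0 := fun w h1 h2 => by
  rw [P.ctx.form.add_left, P.ctx.form.smul_left, P.ctx.form.smul_left, P.in_e w h1 h2, P.in_z w h1 h2]; ring

lemma norm_comb (α γ : F) :
    hh (α • ee + γ • zz) (α • ee + γ • zz) = α * τ α + γ * τ γ * hh zz zz := by
  simp only [P.ctx.form.add_left, un_add_right P.ctx.form, P.ctx.form.smul_left, un_smul_right P.ctx.form,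
    P.self_e, P.ez, P.ze]
  ring

/-- An element fixing three isotropic points of the plane is trivial. -/
lemma three {g : GG} (hg : g ∈ plane q M i u) {s₁ s₂ s₃ : F} (h12 : s₁ ≠ s₂) (h13 : s₁ ≠ s₃) (h23 : s₂ ≠ s₃)
    (hf : ∀ s ∈ ({s₁, s₂, s₃} : Set F), ∃ c : F, (g : MM) *ᵥ (ee + s • zz) = c • (ee + s • zz)) : g = 1 := by
  have hA := P.image hg P.in_e
  have hB := P.image hg P.in_z
  set a₁ := hh ((g : MM) *ᵥ ee) ee
  set a₂ := hh ((g : MM) *ᵥ ee) zz / hh zz zz
  set b₁ := hh ((g : MM) *ᵥ zz) ee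
  set b₂ := hh ((g : MM) *ᵥ zz) zz / hh zz zz
  have key : ∀ s ∈ ({s₁, s₂, s₃} : Set F), a₂ + s * b₂ = (a₁ + s * b₁) * s := fun s hs => by
    obtain ⟨c, hc⟩ := hf s hs
    rw [Matrix.mulVec_add, Matrix.mulVec_smul, hA, hB] at hc
    obtain ⟨e1, e2⟩ := P.coords (α := a₁ + s * b₁) (γ := a₂ + s * b₂) (α' := c) (γ' := c * s) (by
      rw [← sub_eq_zero] at hc ⊢; rw [← hc]; module)
    rw [e1]; exact e2
  have e1 := key s₁ (by simp)
  have e2 := key s₂ (by simp)
  have e3 := key s₃ (by simp)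
  have d2 : (s₁ + s₂) * b₁ + (a₁ - b₂) = 0 := (mul_eq_zero.1 (show (s₁ - s₂) * ((s₁ + s₂) * b₁ + (a₁ - b₂)) = 0 by
    linear_combination e2 - e1)).resolve_left (sub_ne_zero.2 h12)
  have d3 : (s₁ + s₃) * b₁ + (a₁ - b₂) = 0 := (mul_eq_zero.1 (show (s₁ - s₃) * ((s₁ + s₃) * b₁ + (a₁ - b₂)) = 0 by
    linear_combination e3 - e1)).resolve_left (sub_ne_zero.2 h13)
  have hb₁ : b₁ = 0 := (mul_eq_zero.1 (show (s₂ - s₃) * b₁ = 0 by linear_combination d2 - d3)).resolve_left
    (sub_ne_zero.2 h23)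
  have hb₂ : b₂ = a₁ := by linear_combination -d2 + (s₁ + s₂) * hb₁
  have ha₂ : a₂ = 0 := by linear_combination e1 - s₁ * hb₂ + s₁ * s₁ * hb₁
  have hA' : (g : MM) *ᵥ ee = a₁ • ee := by rw [hA, ha₂, zero_smul, add_zero]
  have hB' : (g : MM) *ᵥ zz = a₁ • zz := by rw [hB, hb₁, hb₂, zero_smul, zero_add]
  have ha := P.eigen hg hA' hB'
  rw [ha, one_smul] at hA' hB'
  exact P.ext hg (one_mem _) (by rw [hA', Units.val_one, Matrix.one_mulVec])
    (by rw [hB', Units.val_one, Matrix.one_mulVec])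

/-- An involution moving the coordinate point has determinant minus one. -/
lemma det_invol (h2 : (2 : F) ≠ 0) {g : GG} (hg : g ∈ plane q M i u) (hgg : g * g = 1)
    (hne : ∀ a : F, (g : MM) *ᵥ ee ≠ a • ee) : (g : MM).det = -1 := by
  have hA := P.image hg P.in_e
  set α := hh ((g : MM) *ᵥ ee) ee with hα
  set γ := hh ((g : MM) *ᵥ ee) zz / hh zz zz with hγ
  have hγ0 : γ ≠ 0 := fun h => hne α (by rw [hA, h, zero_smul, add_zero])
  set d := (g : MM) *ᵥ ee - ee with hd
  have hd0 : d ≠ 0 := fun h => hne 1 (by rw [one_smul]; exact sub_eq_zero.1 h)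
  have hgg' : (g : MM) *ᵥ ((g : MM) *ᵥ ee) = ee := by
    rw [Matrix.mulVec_mulVec, ← Units.val_mul, hgg, Units.val_one, Matrix.one_mulVec]
  have hz : (g : MM) *ᵥ zz = zz + (-(1 + α) / γ) • d := by
    have e1 : γ • zz = (g : MM) *ᵥ ee - α • ee := by rw [hA]; abel
    have e2 : γ • ((g : MM) *ᵥ zz) = ee - α • ((g : MM) *ᵥ ee) := by
      rw [← Matrix.mulVec_smul, e1, Matrix.mulVec_sub, Matrix.mulVec_smul, hgg']
    refine smul_right_injective VV hγ0 ?_
    show γ • ((g : MM) *ᵥ zz) = γ • (zz + (-(1 + α) / γ) • d)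
    rw [smul_add, smul_smul, mul_div_cancel₀ _ hγ0, e1, e2, hd]
    module
  set y := ee + τ (-(1 + α) / γ / hh zz zz) • zz
  have hw : ∀ w, (g : MM) *ᵥ w = w + hh w y • d := by
    intro w
    obtain ⟨h3, h4⟩ := P.rest w
    set r := w - (hh w ee • ee + (hh w zz / hh zz zz) • zz) with hr
    have e : w = (hh w ee • ee + (hh w zz / hh zz zz) • zz) + r := by rw [hr]; abel
    conv_lhs => rw [e]
    rw [Matrix.mulVec_add, Matrix.mulVec_add, Matrix.mulVec_smul, Matrix.mulVec_smul, hg.2.1 r h3 h4, hz,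
      un_add_right P.ctx.form, un_smul_right P.ctx.form, P.ctx.invol, hr, hd]
    module
  have hcd : hh d y = -2 := by
    have e : (g : MM) *ᵥ d = -d := by rw [hd, Matrix.mulVec_sub, hgg']; abel
    rw [hw] at e
    have e' : (hh d y + 2) • d = 0 := by
      rw [add_smul, two_smul]
      linear_combination (norm := module) e
    linear_combination (smul_eq_zero.1 e').resolve_right hd0
  have hψ : ((-2 : F)⁻¹ • fvec hh y) ⬝ᵥ d = 1 := by
    rw [smul_dotProduct, un_dot P.ctx.form, hcd, smul_eq_mul, inv_mul_cancel₀ (neg_ne_zero.2 h2)]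
  have e : (g : MM) = (reflGL d ((-2 : F)⁻¹ • fvec hh y) (-1) hψ : MM) := by
    refine CfsgLib.Geometry.matrix_eq_of_mulVec fun w => ?_
    rw [hw, reflGL_mulVec, smul_dotProduct, un_dot P.ctx.form, smul_eq_mul, Units.val_neg, Units.val_one]
    congr 2
    field_simp
    ring
  rw [e, reflGL_det, Units.val_neg, Units.val_one]

/-- Two fourth powers only. -/
theorem card_scalars_le : (scalars τ).card ≤ 2 := by
  have K := P.ctx
  by_contra hk3
  push Not at hk3
  obtain ⟨g₀, hg₀, hq1, hpow⟩ := card_scalars K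
  set k := (scalars τ).card with hk
  haveI : Finite GG := Finite.of_injective (fun g : GG => Units.val g) fun a b h' => Units.ext h'
  haveI : Finite (ℙ F VV) := Quotient.finite _
  set G := plane q M i u with hG
  haveI : Fintype G := Fintype.ofFinite _
  haveI : Fintype (ℙ F VV) := Fintype.ofFinite _
  have he0 : ee ≠ 0 := fun h => by simpa using congrFun h i
  set P₀ := Projectivization.mk F ee he0 with hP₀
  have hzne : hh zz zz ≠ 0 := P.zself_ne
  -- the stabiliser of the point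
  have hst : Nat.card (MulAction.stabilizer G P₀) = k := by
    have hmem : ∀ g : MulAction.stabilizer G P₀, ∃ a : scalars τ, Units.val g.1.1 *ᵥ ee = (a : F) • ee := fun g => by
      obtain ⟨a, ha⟩ := eigen_of_fix (g := g.1.1) he0 (MulAction.mem_stabilizer_iff.1 g.2)
      obtain ⟨-, β, hβ, rfl⟩ := P.stab g.1.2 ha
      exact ⟨⟨_, Finset.mem_image.2 ⟨β, mem_mu.2 hβ, rfl⟩⟩, ha⟩
    choose φ hφ using hmem
    rw [hk, ← Fintype.card_coe, ← Nat.card_eq_fintype_card]
    refine Nat.card_congr (Equiv.ofBijective φ ⟨fun g g' h => ?_, fun a => ?_⟩)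
    · refine Subtype.ext (Subtype.ext (P.ext g.1.2 g'.1.2 (by rw [hφ, hφ, h]) ?_))
      rw [(P.stab g.1.2 (hφ g)).1, (P.stab g'.1.2 (hφ g')).1]
    · obtain ⟨ε, hε, hεa⟩ := Finset.mem_image.1 a.2
      obtain ⟨g, hg, h1, -⟩ := P.exists_stab (mem_mu.1 hε)
      have hs : (⟨g, hg⟩ : G) ∈ MulAction.stabilizer G P₀ := by
        rw [MulAction.mem_stabilizer_iff]
        show g • P₀ = P₀
        rw [hP₀, Projectivization.smul_mk, Projectivization.mk_eq_mk_iff']
        exact ⟨(ε ^ 4)⁻¹, h1.symm⟩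
      refine ⟨⟨_, hs⟩, Subtype.ext ?_⟩
      have h2 := hφ ⟨_, hs⟩
      rw [h1] at h2
      have := congrFun h2 i
      simp at this
      rw [← hεa]
      exact this.symm
  -- the orbit
  set Ob := MulAction.orbit G P₀ with hOb
  have hpt : ∀ Q ∈ Ob, Q ≠ P₀ → ∃ (α γ : F) (h : α • ee + γ • zz ≠ 0), α ≠ 0 ∧ γ ≠ 0 ∧
      Q = Projectivization.mk F (α • ee + γ • zz) h := by
    rintro Q ⟨g, rfl⟩ hne
    have hA := P.image g.2 P.in_e
    set α := hh (Units.val g.1 *ᵥ ee) ee
    set γ := hh (Units.val g.1 *ᵥ ee) zz / hh zz zz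
    have hne0 : α • ee + γ • zz ≠ 0 := fun h => he0 (mulVec_inj g.1 (show Units.val g.1 *ᵥ ee = Units.val g.1 *ᵥ 0 by
      rw [Matrix.mulVec_zero]; exact hA.trans h))
    have hQ : g • P₀ = Projectivization.mk F (α • ee + γ • zz) hne0 := by
      show g.1 • P₀ = _
      rw [hP₀, Projectivization.smul_mk, Projectivization.mk_eq_mk_iff']
      exact ⟨1, by rw [one_smul]; exact hA.symm⟩
    refine ⟨α, γ, hne0, fun h0 => ?_, fun h0 => hne ?_, hQ⟩
    · rw [h0, zero_smul, zero_add] at hA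
      exact P.not_to_z g.2 (fun h => hne0 (by rw [h0, h, zero_smul, zero_smul, zero_add])) hA
    · show g • P₀ = P₀
      rw [hQ, hP₀, Projectivization.mk_eq_mk_iff']
      exact ⟨α, by rw [h0, zero_smul, add_zero]⟩
  have hfree : ∀ (g : G), g • P₀ = P₀ → ∀ Q ∈ Ob, Q ≠ P₀ → g • Q = Q → g = 1 := by
    intro g hg Q hQ hne hgQ
    obtain ⟨a, ha⟩ := eigen_of_fix (g := g.1) he0 hg
    obtain ⟨α, γ, h0, hα, hγ, rfl⟩ := hpt Q hQ hne
    obtain ⟨c, hc⟩ := eigen_of_fix (g := g.1) h0 hgQ
    exact Subtype.ext (P.two_fix g.2 ha hα hγ hc)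
  set f := Nat.card Ob with hf
  have hGf : Nat.card G = f * k := by
    rw [hf, ← hst, ← Nat.card_prod, Nat.card_congr (MulAction.orbitProdStabilizerEquivGroup G P₀)]
  have hmod : k ∣ f - 1 := by
    have h1 := card_dvd_of_free (K := MulAction.stabilizer G P₀) (X := ℙ F VV) (Ob \ {P₀})
      (fun g Q hQ => ⟨MulAction.mem_orbit_of_mem_orbit g.1 hQ.1, fun h => hQ.2 (by
        simp only [Set.mem_singleton_iff] at h ⊢
        rw [← inv_smul_smul g Q, h]
        exact MulAction.mem_stabilizer_iff.1 (g⁻¹).2)⟩)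
      (fun g Q hQ h => Subtype.ext (hfree g.1 (MulAction.mem_stabilizer_iff.1 g.2) Q hQ.1 hQ.2 h))
    rwa [hst, Nat.card_coe_set_eq, Set.ncard_sdiff_singleton_of_mem (MulAction.mem_orbit_self P₀),
      ← Nat.card_coe_set_eq] at h1
  have hf2 : k + 1 ≤ f := by
    obtain ⟨ε, hε, hε4⟩ := exists_eps K P.q4
    obtain ⟨R, hR, eR⟩ := P.refl_plane hε
    have hne : (⟨R, hR⟩ : G) • P₀ ≠ P₀ := by
      intro h
      obtain ⟨a, ha⟩ := eigen_of_fix (g := R) he0 h
      obtain ⟨l, -, -, hl, -, -, -⟩ := exists_two_others i i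
      have h1 := congrFun ha l
      rw [eR, P.eu] at h1
      simp [hl] at h1
      rcases h1 with (h1 | h1) | h1
      · exact hε4 (inv_eq_one.1 (sub_eq_zero.1 h1))
      · exact P.dense i h1
      · exact P.dense l h1
    have h1 : 1 < f := by
      rw [hf, Nat.card_coe_set_eq, Set.one_lt_ncard_iff (Set.toFinite _)]
      exact ⟨_, _, MulAction.mem_orbit_self P₀, MulAction.mem_orbit P₀ ⟨R, hR⟩, hne.symm⟩
    have := Nat.le_of_dvd (by omega) hmod
    omega
  -- the isotropic points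
  have hv0 : ∀ s : F, ee + s • zz ≠ 0 := fun s h => by simpa using congrFun h i
  let S : Set F := {s | 1 + s * τ s * hh zz zz = 0}
  let pt : F → ℙ F VV := fun s => Projectivization.mk F (ee + s • zz) (hv0 s)
  have hpt_inj : Function.Injective pt := fun s s' h => by
    simp only [pt, Projectivization.mk_eq_mk_iff'] at h
    obtain ⟨a, ha⟩ := h
    rw [smul_add, smul_smul] at ha
    obtain ⟨rfl, e⟩ := P.coords (α := a) (γ := a * s') (α' := 1) (γ' := s) (by rw [one_smul]; exact ha)
    rw [← e, one_mul]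
  let T : SubMulAction G (ℙ F VV) :=
    { carrier := pt '' S
      smul_mem' := by
        rintro g _ ⟨s, hs, rfl⟩
        have hI := P.image g.2 (v := ee + s • zz) (fun w h1 h2 => by
          simpa using P.in_comb 1 s w h1 h2)
        set α := hh (Units.val g.1 *ᵥ (ee + s • zz)) ee
        set γ := hh (Units.val g.1 *ᵥ (ee + s • zz)) zz / hh zz zz
        have hn : α * τ α + γ * τ γ * hh zz zz = 0 := by
          rw [← P.norm_comb, ← hI, (mem_GU_iff g.1).1 g.2.1, show ee + s • zz = (1 : F) • ee + s • zz by rw [one_smul],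
            P.norm_comb, map_one, one_mul]
          exact hs
        have hα : α ≠ 0 := fun h0 => by
          rw [h0, zero_mul, zero_add] at hn
          have hγ : γ = 0 := by
            rcases mul_eq_zero.1 ((mul_eq_zero.1 hn).resolve_right hzne) with h | h
            · exact h
            · exact τ.injective (h.trans (map_zero τ).symm)
          rw [h0, hγ, zero_smul, zero_smul, zero_add] at hI
          exact hv0 s (mulVec_inj g.1 (hI.trans (Matrix.mulVec_zero _).symm))
        refine ⟨γ / α, ?_, ?_⟩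
        · show 1 + γ / α * τ (γ / α) * hh zz zz = 0
          have hτα : τ α ≠ 0 := fun h => hα (τ.injective (h.trans (map_zero τ).symm))
          rw [map_div₀]
          field_simp
          linear_combination hn
        · show _ = g.1 • pt s
          rw [Projectivization.smul_mk, Projectivization.mk_eq_mk_iff']
          refine ⟨α⁻¹, ?_⟩
          show α⁻¹ • (Units.val g.1 *ᵥ _) = _
          rw [hI, smul_add, smul_smul, smul_smul, inv_mul_cancel₀ hα, one_smul, inv_mul_eq_div] }
  haveI : Fintype T := Fintype.ofFinite _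
  have hT : Nat.card T = q + 1 := by
    obtain ⟨s₀, hs₀⟩ := K.exists_nm (c := -(hh zz zz)⁻¹) (by rw [map_neg, map_inv₀, hh_fix K])
    have hs0 : s₀ ≠ 0 := fun h => by rw [h, zero_mul] at hs₀; exact hzne (by simpa using hs₀.symm)
    have e : S = (fun w => s₀ * w) '' {w | w * τ w = 1} := by
      ext s
      constructor
      · intro hs
        refine ⟨s / s₀, ?_, mul_div_cancel₀ _ hs0⟩
        have h2 : s * τ s = -(hh zz zz)⁻¹ := by
          have hs' : 1 + s * τ s * hh zz zz = 0 := hs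
          field_simp
          linear_combination hs'
        show s / s₀ * τ (s / s₀) = 1
        rw [map_div₀, div_mul_div_comm, h2, hs₀, div_self (neg_ne_zero.2 (inv_ne_zero hzne))]
      · rintro ⟨w, hw, rfl⟩
        show 1 + s₀ * w * τ (s₀ * w) * hh zz zz = 0
        rw [map_mul, show s₀ * w * (τ s₀ * τ w) = (s₀ * τ s₀) * (w * τ w) by ring, hs₀, show w * τ w = 1 from hw,
          mul_one, neg_mul, inv_mul_cancel₀ hzne, add_neg_cancel]
    show Nat.card (pt '' S : Set (ℙ F VV)) = q + 1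
    rw [Nat.card_coe_set_eq, Set.ncard_image_of_injective _ hpt_inj, e,
      Set.ncard_image_of_injective _ (mul_right_injective₀ hs0), ← card_mu K, ← Set.ncard_coe_finset]
    congr 1
    ext w; simp [mem_mu]
  -- elements with fixed points
  let A : Finset G := Finset.univ.filter fun g => g ≠ 1 ∧ ∃ Q ∈ Ob, g • Q = Q
  let B : Finset G := Finset.univ.filter fun g => g ≠ 1 ∧ ∃ t : T, g • t = t
  have hconj : ∀ (g h : G) (Q : ℙ F VV), g • h • Q = h • Q → (h⁻¹ * g * h) • Q = Q := fun g h Q e => by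
    rw [mul_smul, mul_smul, e, inv_smul_smul]
  have hone : ∀ (g h : G), h⁻¹ * g * h = 1 → g = 1 := fun g h e => by
    rw [show g = h * (h⁻¹ * g * h) * h⁻¹ by group, e]; group
  have hAB : Disjoint A B := by
    rw [Finset.disjoint_left]
    intro g hA hB
    simp only [A, B, Finset.mem_filter, Finset.mem_univ, true_and] at hA hB
    obtain ⟨hg1, _, ⟨h, rfl⟩, hQ⟩ := hA
    obtain ⟨-, t, ht⟩ := hB
    apply hg1
    refine hone g h ?_
    obtain ⟨a, ha⟩ := eigen_of_fix (g := (h⁻¹ * g * h : G).1) he0 (hconj g h P₀ hQ)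
    obtain ⟨s, hs, es⟩ := (h⁻¹ • t : T).2
    have h2 : (h⁻¹ * g * h) • pt s = pt s := by
      rw [es]
      exact congrArg Subtype.val (show (h⁻¹ * g * h) • (h⁻¹ • t) = h⁻¹ • t by
        rw [mul_smul, mul_smul, smul_inv_smul, ht])
    obtain ⟨c, hc⟩ := eigen_of_fix (g := (h⁻¹ * g * h : G).1) (hv0 s) h2
    refine Subtype.ext (P.two_fix (h⁻¹ * g * h : G).2 ha (α := 1) (γ := s) one_ne_zero (fun h0 => ?_)
      (by rw [one_smul]; exact hc))
    rw [show s = 0 from h0] at hs
    simp [S] at hs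
  have hA : A.card = f * (k - 1) := by
    have e : A = Ob.toFinset.biUnion fun Q => Finset.univ.filter fun g : G => g ≠ 1 ∧ g • Q = Q := by
      ext g; simp [A]; tauto
    rw [e, Finset.card_biUnion]
    · rw [Finset.sum_const_nat (m := k - 1), Set.toFinset_card, hf, Nat.card_eq_fintype_card]
      intro Q hQ
      rw [Set.mem_toFinset] at hQ
      have h1 : Nat.card (MulAction.stabilizer G Q) = k := by
        have e1 := Nat.card_congr (MulAction.orbitProdStabilizerEquivGroup G Q)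
        rw [Nat.card_prod, MulAction.orbit_eq_iff.2 hQ, ← hOb, ← hf, hGf] at e1
        exact Nat.eq_of_mul_eq_mul_left (by omega) e1
      rw [← h1, Nat.card_eq_fintype_card, Fintype.card_subtype, ← Finset.card_erase_of_mem (a := (1 : G)) (by simp)]
      congr 1
      ext g; simp
    · intro Q hQ Q' hQ' hne
      rw [Function.onFun, Finset.disjoint_left]
      intro g h1 h2
      simp only [Finset.mem_filter, Finset.mem_univ, true_and] at h1 h2
      simp only [Finset.mem_coe, Set.mem_toFinset] at hQ hQ'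
      obtain ⟨h, rfl⟩ := hQ
      refine h1.1 (hone g h (hfree _ (hconj g h P₀ h1.2) (h⁻¹ • Q') (MulAction.mem_orbit_of_mem_orbit _ hQ')
        (fun e => hne (by rw [← smul_inv_smul h Q', e])) ?_))
      rw [mul_smul, mul_smul, smul_inv_smul, h2.2]
  have hAB' : A.card + B.card + 1 ≤ Fintype.card G := by
    have h1 : A ∪ B ⊆ Finset.univ.erase 1 := fun g hg => by
      simp [A, B] at hg ⊢; rcases hg with h | h <;> exact h.1
    have := Finset.card_le_card h1
    rw [Finset.card_union_of_disjoint hAB, Finset.card_erase_of_mem (Finset.mem_univ _), Finset.card_univ] at this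
    have : 0 < Fintype.card G := Fintype.card_pos
    omega
  -- orbits on isotropic points
  haveI : ∀ g : G, Fintype (MulAction.fixedBy T g) := fun g => Fintype.ofFinite _
  haveI : Fintype (MulAction.orbitRel.Quotient G T) := Fintype.ofFinite _
  have hburn := MulAction.sum_card_fixedBy_eq_card_orbits_mul_card_group G T
  have hle : ∀ g : G, Fintype.card (MulAction.fixedBy T g) ≤
      (if g = 1 then q + 1 else 0) + (if g ∈ B then 2 else 0) := by
    intro g
    by_cases hg : g = 1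
    · rw [if_pos hg]
      refine le_trans (Fintype.card_subtype_le _) (le_trans ?_ (Nat.le_add_right _ _))
      rw [← Nat.card_eq_fintype_card, hT]
    rw [if_neg hg, zero_add]
    by_cases hB : g ∈ B
    · rw [if_pos hB]
      by_contra hcon
      obtain ⟨x, y, z, hxy, hxz, hyz⟩ := Fintype.two_lt_card_iff.1 (not_le.1 hcon)
      have get : ∀ w : MulAction.fixedBy T g, ∃ s, pt s = (w.1 : ℙ F VV) ∧
          ∃ c : F, Units.val g.1 *ᵥ (ee + s • zz) = c • (ee + s • zz) := fun w => by
        obtain ⟨s, -, es⟩ := w.1.2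
        refine ⟨s, es, eigen_of_fix (g := g.1) (hv0 s) ?_⟩
        show g • pt s = pt s
        rw [es]
        exact congrArg Subtype.val w.2
      obtain ⟨s₁, e1, c1⟩ := get x
      obtain ⟨s₂, e2, c2⟩ := get y
      obtain ⟨s₃, e3, c3⟩ := get z
      refine hg (Subtype.ext (P.three g.2 (s₁ := s₁) (s₂ := s₂) (s₃ := s₃) ?_ ?_ ?_ ?_))
      · rintro rfl; exact hxy (Subtype.ext (Subtype.ext (e1.symm.trans e2)))
      · rintro rfl; exact hxz (Subtype.ext (Subtype.ext (e1.symm.trans e3)))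
      · rintro rfl; exact hyz (Subtype.ext (Subtype.ext (e2.symm.trans e3)))
      · rintro s (rfl | rfl | rfl) <;> assumption
    · rw [if_neg hB, Nat.le_zero, Fintype.card_eq_zero_iff]
      exact ⟨fun w => hB (by simp only [B, Finset.mem_filter, Finset.mem_univ, true_and]; exact ⟨hg, w.1, w.2⟩)⟩
  have hsum := Finset.sum_le_sum (s := Finset.univ) fun g _ => hle g
  rw [hburn, Finset.sum_add_distrib, Finset.sum_ite_eq', if_pos (Finset.mem_univ _), ← Finset.sum_filter,
    Finset.sum_const, smul_eq_mul, Finset.filter_mem_eq_inter, Finset.univ_inter] at hsum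
  have hTne : Nonempty T := (Nat.card_pos_iff.1 (by omega)).1
  set r := Fintype.card (MulAction.orbitRel.Quotient G T) with hr
  have hr1 : 1 ≤ r := Fintype.card_pos_iff.2 (hTne.map (Quotient.mk''))
  rw [← Nat.card_eq_fintype_card (α := G), hGf] at hAB'
  rw [← Nat.card_eq_fintype_card (α := G), hGf] at hsum
  have hBle : B.card + 1 ≤ f := by
    rw [hA] at hAB'
    have e : f * k = f * (k - 1) + f := by rw [← Nat.mul_succ, Nat.succ_eq_add_one, Nat.sub_add_cancel (by omega)]
    omega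
  have hdiv : r = 1 → q + 1 ∣ f * k := by
    intro hr2
    obtain ⟨t₀⟩ := hTne
    have h1 := Nat.card_congr (MulAction.orbitProdStabilizerEquivGroup G t₀)
    have hall : MulAction.orbit G t₀ = Set.univ := Set.eq_univ_of_forall fun t => by
      have hss : Subsingleton (MulAction.orbitRel.Quotient G T) := Fintype.card_le_one_iff_subsingleton.1 (by omega)
      exact Quotient.exact' (@Subsingleton.elim (MulAction.orbitRel.Quotient G T) hss (Quotient.mk'' t) (Quotient.mk'' t₀))
    rw [Nat.card_prod, hall, Nat.card_congr (Equiv.Set.univ T), hT, hGf] at h1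
    exact Dvd.intro _ h1
  obtain ⟨hk3', hf4, hq'⟩ := count_cases hg₀ hq1 hk3 hf2 hmod hr1 (le_trans hsum (by omega)) hdiv
  rw [hf4, hk3'] at hGf
  haveI : Fact (Nat.Prime 2) := ⟨Nat.prime_two⟩
  obtain ⟨σ, hσ⟩ := exists_prime_orderOf_dvd_card' 2 (show 2 ∣ Nat.card G by rw [hGf]; norm_num)
  have hσ2 : σ * σ = 1 := by rw [← sq, ← hσ]; exact pow_orderOf_eq_one σ
  have hne : ∀ a : F, Units.val σ.1 *ᵥ ee ≠ a • ee := by
    intro a ha
    have hs : σ ∈ MulAction.stabilizer G P₀ := by
      rw [MulAction.mem_stabilizer_iff]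
      show σ.1 • P₀ = P₀
      rw [hP₀, Projectivization.smul_mk, Projectivization.mk_eq_mk_iff']
      exact ⟨a, ha.symm⟩
    have h1 : orderOf (⟨σ, hs⟩ : MulAction.stabilizer G P₀) ∣ 3 := hk3' ▸ hst ▸ orderOf_dvd_natCard _
    rw [← orderOf_submonoid] at h1
    rw [show orderOf ((⟨σ, hs⟩ : MulAction.stabilizer G P₀) : G) = 2 from hσ] at h1
    norm_num at h1
  have h2 : (2 : F) ≠ 0 := by
    intro h
    have hq0 := K.cast_q
    rcases hq' with rfl | rfl
    · push_cast at hq0; exact one_ne_zero (α := F) (by linear_combination hq0 - 2 * h)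
    · push_cast at hq0; exact one_ne_zero (α := F) (by linear_combination hq0 - 5 * h)
  have hdet := P.det_invol h2 σ.2 (by exact congrArg Subtype.val hσ2) hne
  obtain ⟨hσU, -, β, hβ, m, hm, em⟩ := σ.2
  have h3 := P.det_scalar hm em
  rw [hdet] at h3
  have h4 := hpow ((β ^ 4)⁻¹) (Finset.mem_image.2 ⟨β, mem_mu.2 (P.norm_scalar hσU hm em), rfl⟩)
  have h5 : (β ^ 4)⁻¹ = -1 := inv_eq_of_mul_eq_one_right h3
  rw [hk3', h5] at h4
  exact h2 (by linear_combination -h4)

end Pl

end CfsgLib.Maximal.SUFour.Frames
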