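import Mathlib
import Cfsg.Agent.Lib.Maximal.SUFour.FrameCount

/-!
Over the monomial group of `SU₄(q)`, `q ≥ 4`, some non-monomial element fixes a coordinate line.
-/

set_option autoImplicit false
set_option linter.unusedSectionVars false
set_option linter.unusedSimpArgs false

open scoped Classical

namespace CfsgLib.Maximal.SUFour.Frames

open scoped Matrix
open CfsgLib.Maximal CfsgLib.UnMono

variable {q : ℕ} {F : Type*} [Field F] [Fintype F] {τ : F ≃+* F}
  {M : Subgroup (Matrix.GeneralLinearGroup (Fin 4) F)}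

local notation "hh" => Cfsg.hermForm 4 F q
local notation "MM" => Matrix (Fin 4) (Fin 4) F
local notation "GG" => Matrix.GeneralLinearGroup (Fin 4) F
local notation "VV" => (Fin 4 → F)

/-- An element with quadratic minimal polynomial reaching minus one. -/
lemma recur {g : GG} {v : VV} {s : F} (h : (g : MM) *ᵥ ((g : MM) *ᵥ v) = s • ((g : MM) *ᵥ v) - v) :
    (s = 0 → ((g ^ 2 : GG) : MM) *ᵥ v = -v) ∧ (s = 1 → ((g ^ 3 : GG) : MM) *ᵥ v = -v) ∧
      (s * s = 2 → ((g ^ 4 : GG) : MM) *ᵥ v = -v) := by
  have h2 : ((g ^ 2 : GG) : MM) *ᵥ v = s • ((g : MM) *ᵥ v) - v := by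
    rw [pow_two, Units.val_mul, ← Matrix.mulVec_mulVec, h]
  have h3 : ((g ^ 3 : GG) : MM) *ᵥ v = s • (s • ((g : MM) *ᵥ v) - v) - (g : MM) *ᵥ v := by
    rw [pow_succ', Units.val_mul, ← Matrix.mulVec_mulVec, h2, Matrix.mulVec_sub, Matrix.mulVec_smul, h]
  refine ⟨fun hs => by rw [h2, hs]; simp, fun hs => by rw [h3, hs]; simp, fun hs => ?_⟩
  rw [pow_succ', Units.val_mul, ← Matrix.mulVec_mulVec, h3]
  simp only [Matrix.mulVec_sub, Matrix.mulVec_smul, smul_sub, smul_smul]
  rw [h]
  match_scalars <;>
    first | linear_combination hs | linear_combination s * hs | linear_combination -hs | linear_combination -s * hs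

variable (K : Ctx 4 q τ)
include K

lemma real_seven (hq : q = 7) {x : F} (hx : τ x = x) :
    x = 0 ∨ x = 1 ∨ x = 2 ∨ x = 3 ∨ x = 4 ∨ x = 5 ∨ x = 6 := by
  have h7 : (7 : F) = 0 := by have := K.cast_q; rw [hq] at this; exact_mod_cast this
  have hp : x ^ 7 = x := by
    have := K.pow x
    rw [hq, hx] at this
    exact this.symm
  have e : x * (x - 1) * (x - 2) * (x - 3) * (x - 4) * (x - 5) * (x - 6) = 0 := by
    linear_combination hp + (-3 * x ^ 6 + 25 * x ^ 5 - 105 * x ^ 4 + 232 * x ^ 3 - 252 * x ^ 2 + 103 * x) * h7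
  simp only [mul_eq_zero, sub_eq_zero] at e
  tauto

lemma two_ne_seven (hq : q = 7) : (2 : F) ≠ 0 := by
  have h7 : (7 : F) = 0 := by have := K.cast_q; rw [hq] at this; exact_mod_cast this
  intro h; exact one_ne_zero (α := F) (by linear_combination h7 - 3 * h)

variable (hO : Over q M) (hno : ¬ Fixer M)
include hO hno

lemma pl_of_entry (hq : 4 ≤ q) {x : GG} (hx : x ∈ M) (hxm : ¬ IsMono x) {i k : Fin 4}
    (h : (x : MM) i k * τ ((x : MM) i k) ≠ 1) : Pl (q := q) τ M i (col x k) :=
  ⟨K, hq, hO, hno, by simpa using hh_col K (hO.le hx).1 k k, fun l => dense K hq hO hno hx hxm l k, h,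
    fun _ hε => refl_mem K hO hx k hε⟩

/-- With seven points the norms of the entries are one or two. -/
lemma entry_seven (hq : q = 7) {x : GG} (hx : x ∈ M) (hxm : ¬ IsMono x) (i k : Fin 4) :
    (x : MM) i k * τ ((x : MM) i k) = 1 ∨ (x : MM) i k * τ ((x : MM) i k) = 2 := by
  by_contra hcon
  rw [not_or] at hcon
  have P := pl_of_entry K hO hno (by omega) hx hxm hcon.1
  set u := col x k with hu
  set e : VV := Pi.single i 1 with he
  have h7 : (7 : F) = 0 := by have := K.cast_q; rw [hq] at this; exact_mod_cast this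
  obtain ⟨ε, hε, hε4⟩ := exists_eps K (by omega : 4 ≤ q)
  have hε8 : (ε ^ 4)⁻¹ = -1 := by
    have h8 := K.pow_succ_of_nm hε
    rw [hq] at h8
    have : ε ^ 4 * ε ^ 4 = 1 := by rw [← pow_add]; exact h8
    rw [(mul_self_eq_one_iff.1 this).resolve_left hε4]
    norm_num
  obtain ⟨A, hA, hAe, hAz⟩ := P.exists_stab hε
  obtain ⟨B, hB, hBw⟩ := P.refl_plane hε
  rw [hε8] at hAe
  simp only [hε8] at hBw
  set a := u i with ha
  have hue : hh u e = a := P.ue
  have heu : hh e u = τ a := P.eu
  have hAu : (A : MM) *ᵥ u = u - (2 * a) • e := by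
    have e0 : u = (u - a • e) + a • e := by abel
    conv_lhs => rw [e0]
    rw [Matrix.mulVec_add, Matrix.mulVec_smul, hAe, show (A : MM) *ᵥ (u - a • e) = u - a • e from hAz]
    module
  have hge : ((B * A : GG) : MM) *ᵥ e = (-1 : F) • e + (2 * τ a) • u := by
    rw [Units.val_mul, ← Matrix.mulVec_mulVec, hAe, Matrix.mulVec_smul, hBw, heu]
    module
  have hgu : ((B * A : GG) : MM) *ᵥ u = (4 * (a * τ a) - 1) • u - (2 * a) • e := by
    rw [Units.val_mul, ← Matrix.mulVec_mulVec, hAu, Matrix.mulVec_sub, Matrix.mulVec_smul, hBw, hBw, heu,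
      P.uu]
    module
  set g := B * A
  set s := 4 * (a * τ a) - 2 with hs
  have hg : g ∈ plane q M i u := mul_mem hB hA
  have r1 := recur (g := g) (v := e) (s := s) (by
    rw [hge, Matrix.mulVec_add, Matrix.mulVec_smul, Matrix.mulVec_smul, hge, hgu, hs]; module)
  have r2 := recur (g := g) (v := u) (s := s) (by
    rw [hgu, Matrix.mulVec_sub, Matrix.mulVec_smul, Matrix.mulVec_smul, hge, hgu, hs]; module)
  have kill : ∀ j : ℕ, ((g ^ j : GG) : MM) *ᵥ e = -e → ((g ^ j : GG) : MM) *ᵥ u = -u → False := by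
    intro j h1 h2
    have hb := P.eigen (pow_mem hg j) (a := -1) (b := -1) (by rw [h1, neg_one_smul]) (by
      rw [Matrix.mulVec_sub, Matrix.mulVec_smul, h1, h2]; module)
    exact two_ne_seven K hq (by linear_combination -hb)
  have hN : τ (a * τ a) = a * τ a := K.fix_mul_tau a
  have hcases : s = 0 ∨ s = 1 ∨ s * s = 2 := by
    rcases real_seven K hq hN with h | h | h | h | h | h | h
    · exfalso
      rcases mul_eq_zero.1 h with h | h
      · exact P.dense i h
      · exact P.dense i (τ.injective (h.trans (map_zero τ).symm))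
    · exact absurd h hcon.1
    · exact absurd h hcon.2
    · exact Or.inr (Or.inr (by rw [hs, h]; linear_combination 14 * h7))
    · exact Or.inl (by rw [hs, h]; linear_combination 2 * h7)
    · exact Or.inr (Or.inr (by rw [hs, h]; linear_combination 46 * h7))
    · exact Or.inr (Or.inl (by rw [hs, h]; linear_combination 3 * h7))
  rcases hcases with h | h | h
  · exact kill 2 (r1.1 h) (r2.1 h)
  · exact kill 3 (r1.2.1 h) (r2.2.1 h)
  · exact kill 4 (r1.2.2 h) (r2.2.2 h)

/-- Seven points. -/
lemma false_seven (hq : q = 7) (hNm : ∃ x ∈ M, ¬ IsMono x) : False := by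
  obtain ⟨x, hx, hxm⟩ := hNm
  have h7 : (7 : F) = 0 := by have := K.cast_q; rw [hq] at this; exact_mod_cast this
  have h1ne : (1 : F) ≠ 0 := one_ne_zero
  have hxU := (hO.le hx).1
  have flat : ∀ {y : GG}, y ∈ M → ¬ IsMono y → ∀ i k, (y : MM) i k * τ ((y : MM) i k) = 2 := by
    intro y hy hym i k
    have h := hh_col K (hO.le hy).1 k k
    rw [if_pos rfl, K.hh_self, Fin.sum_univ_four] at h
    simp only [col] at h
    have E := fun l => entry_seven K hO hno hq hy hym l k
    rcases E 0 with e0 | e0 <;> rcases E 1 with e1 | e1 <;> rcases E 2 with e2 | e2 <;> rcases E 3 with e3 | e3 <;>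
      rw [e0, e1, e2, e3] at h <;>
      first
        | exact absurd (show (1 : F) = 0 by linear_combination 5 * h - 2 * h7) h1ne
        | exact absurd (show (1 : F) = 0 by linear_combination 2 * h - h7) h1ne
        | exact absurd (show (1 : F) = 0 by linear_combination 4 * h - (3 : F) * h7) h1ne
        | exact absurd (show (1 : F) = 0 by linear_combination 6 * h - (5 : F) * h7) h1ne
        | exact absurd (show (1 : F) = 0 by linear_combination 3 * h - 2 * h7) h1ne
        | exact absurd (show (1 : F) = 0 by linear_combination h - 0 * h7) h1ne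
        | (fin_cases i <;> assumption)
  obtain ⟨T, hT, hT'⟩ : ∃ T ∈ trs τ, T = 4 ∨ T = 6 := by
    by_contra hcon
    push Not at hcon
    have hsub : trs τ ⊆ ({0, 2, 3, 5} : Finset F) := by
      intro T hT
      obtain ⟨h4, h6⟩ := hcon T hT
      simp only [Finset.mem_insert, Finset.mem_singleton]
      rcases real_seven K hq (trs_fix K T hT) with h | h | h | h | h | h | h
      · tauto
      · exfalso
        obtain ⟨z, hz, rfl⟩ := Finset.mem_image.1 hT
        rw [mem_mu] at hz
        have h3 : z * z - z + 1 = 0 := by linear_combination z * h - hz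
        have h8 := K.pow_succ_of_nm hz
        rw [hq] at h8
        have : z * z = 1 := by
          linear_combination h8 - (z ^ 6 + z ^ 5 - z ^ 3 - z ^ 2) * h3
        exact one_ne_zero (α := F) (by
          linear_combination (-2 : F) * (z + 2) * h3 + (2 * (z + 2) - 2) * this + h7)
      · tauto
      · tauto
      · exact absurd h h4
      · tauto
      · exact absurd h h6
    have h1 := Finset.card_le_card hsub
    have h2 := card_trs K
    have h3 : ({0, 2, 3, 5} : Finset F).card ≤ 4 := Finset.card_le_four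
    omega
  obtain ⟨z, hz, rfl⟩ := Finset.mem_image.1 hT
  rw [mem_mu] at hz
  let d : Fin 4 → F := fun i => if i = 0 then z else if i = 1 then τ z else 1
  have hd : ∀ i, d i * τ (d i) = 1 := fun i => by
    simp only [d]; split_ifs <;> simp [hz, K.invol, mul_comm (τ z)]
  have hp : ∏ i, d i = 1 := by simp [Fin.prod_univ_four, d, hz]
  set y := x * ph d hd * x⁻¹
  have hyM : y ∈ M := mul_mem (mul_mem hx (hO.mono _ (ph_mem_su K hp) (ph_isMono K))) (inv_mem hx)
  have hy : (y : MM) 0 0 = 2 * (z + τ z) - 3 := by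
    have h1 := congrFun (conj_pair_mulVec K hxU (show (0 : Fin 4) ≠ 1 by decide) (hd := hd)
      (fun i h1 h2 => by simp [d, h1, h2]) (Pi.single 0 1)) 0
    rw [mulVec_e, K.hh_single_left, K.hh_single_left] at h1
    simp only [col, d, if_pos rfl, if_neg (show (1 : Fin 4) ≠ 0 by decide), Pi.add_apply, Pi.smul_apply,
      smul_eq_mul, Pi.single_eq_same, one_mul, if_true] at h1
    refine (show ((y : GG) : MM) 0 0 = _ from h1).trans ?_
    linear_combination (z - 1) * flat hx hxm 0 0 + (τ z - 1) * flat hx hxm 0 1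
  have hn : (y : MM) 0 0 * τ ((y : MM) 0 0) = 4 := by
    rw [hy, map_sub, map_mul, K.fix_add_tau, map_ofNat, map_ofNat]
    rcases hT' with h | h <;> rw [h]
    · linear_combination 3 * h7
    · linear_combination 11 * h7
  by_cases hym : IsMono y
  · obtain ⟨p, hpp⟩ := hym 0
    have hy0 : (y : MM) 0 0 ≠ 0 := fun h => by
      rw [h, zero_mul] at hn; exact h1ne (by linear_combination 2 * (-hn) + (-1 : F) * h7)
    have h0p : (0 : Fin 4) = p := by by_contra hne; exact hy0 (hpp 0 hne)
    have h1 := hh_col K (hO.le hyM).1 0 0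
    rw [if_pos rfl, K.hh_self, Finset.sum_eq_single 0 (fun l _ hl => by
      simp [col, hpp l (h0p ▸ hl)]) (by simp)] at h1
    simp only [col] at h1
    exact h1ne (by linear_combination 5 * (hn.symm.trans h1) - 2 * h7)
  · exact h1ne (by linear_combination 4 * (hn.symm.trans (flat hyM hym 0 0)) - h7)

omit hno in
/-- Some non-monomial element fixes a coordinate line. -/
theorem exists_fixer (hq : 4 ≤ q) (hNm : ∃ x ∈ M, ¬ IsMono x) : Fixer M := by
  by_contra hno
  obtain ⟨x, hx, hxm, i, k, hN⟩ := exists_entry K hq hO hno hNm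
  have hle := (pl_of_entry K hO hno hq hx hxm hN).card_scalars_le
  obtain ⟨g, hg, hq1, -⟩ := card_scalars K
  have hg4 : g ≤ 4 := Nat.le_of_dvd (by norm_num) hg
  have h7 : q = 7 := by
    have h8 : q + 1 ≤ 8 := by rw [hq1]; exact Nat.mul_le_mul hg4 hle
    interval_cases hk : (scalars τ).card <;> interval_cases g <;> omega
  exact false_seven K hO hno h7 hNm

end CfsgLib.Maximal.SUFour.Frames
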