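import Mathlib
import Cfsg.Agent.Lib.Maximal.SUFour.FrameFixer
import Cfsg.Agent.Lib.Maximal.SUFour.FrameBlocks
import Cfsg.Agent.S5655

/-!
Decompositions into non-degenerate points or lines: their stabilisers are maximal in `SU₄`.
-/

set_option autoImplicit false
set_option linter.unusedSectionVars false
set_option linter.unusedSimpArgs false

open scoped Classical

namespace CfsgLib.Maximal.SUFour.Frames

open scoped Matrix
open CfsgLib.Maximal CfsgLib.UnMono

variable {q t k : ℕ} {F : Type*} [Field F] [Fintype F] {τ : F ≃+* F}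

local notation "hh" => Cfsg.hermForm 4 F q
local notation "MM" => Matrix (Fin 4) (Fin 4) F
local notation "GG" => Matrix.GeneralLinearGroup (Fin 4) F
local notation "VV" => (Fin 4 → F)

variable (K : Ctx 4 q τ)
include K

/-- The block stabiliser is proper. -/
lemma exists_not_block (ee : Fin 4 ≃ Fin t × Fin k) (hk : k ≤ 2) :
    ∃ g ∈ suGL 4 F q, ¬ IsBlock (fun x => (ee x).1) g := by
  obtain ⟨ρ, hρ⟩ := K.exists_nm (c := -1) (by rw [map_neg, map_one])
  have hρ0 : ρ ≠ 0 := fun h => by rw [h, zero_mul] at hρ; exact neg_ne_zero.2 one_ne_zero hρ.symm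
  let v : VV := ![1, ρ, 1, ρ]
  have hv0 : ∀ l, v l ≠ 0 := fun l => by fin_cases l <;> simp [v, hρ0]
  have hvv : hh v v = 0 := by
    rw [K.hh_self, Fin.sum_univ_four]
    simp [v, hρ]
  obtain ⟨s, hs0, hs⟩ := un_skew_exists K.form
  refine ⟨_, utv_mem_su K.form hvv hs, ?_⟩
  rintro ⟨σ, hσ⟩
  have e1 : ∀ l, l ≠ 0 → (ee l).1 = σ (ee 0).1 := fun l hl => hσ l 0 (by
    rw [tv_col K hvv, Pi.single_eq_of_ne hl, zero_add]
    exact mul_ne_zero (mul_ne_zero (fun h => hv0 0 (τ.injective (h.trans (map_zero τ).symm))) hs0) (hv0 l))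
  have hcard : ((Finset.univ : Finset (Fin 4)).erase 0).card ≤ k := by
    refine le_trans (Finset.card_le_card_of_injOn (fun x => (ee x).2) (t := Finset.univ) (fun x _ => by simp) ?_)
      (by simp)
    intro x hx y hy hxy
    simp only [Finset.coe_erase, Finset.coe_univ, Set.mem_sdiff, Set.mem_univ, true_and,
      Set.mem_singleton_iff] at hx hy
    exact ee.injective (Prod.ext ((e1 x hx).trans (e1 y hy).symm) hxy)
  simp at hcard
  omega

/-- Monomial stabilisers for `q ≥ 4`. -/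
lemma suGL_le_of_over {M : Subgroup (Matrix.GeneralLinearGroup (Fin 4) F)} (hO : Over q M) (hq : 4 ≤ q)
    (hNm : ∃ x ∈ M, ¬ IsMono x) : suGL 4 F q ≤ M := by
  obtain ⟨N, hNM, hON, hNm', hD⟩ := exists_normalised K le_rfl hO (exists_fixer K hO hq hNm)
  exact le_trans (suGL_le_of_normalised K le_rfl hON hD (by omega) hNm') hNM

omit K in
/-- The stabiliser of an orthogonal decomposition is maximal. -/
lemma decomposition_maximal (hF : Fintype.card F = q ^ 2) (hk : k ≤ 2)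
    (D : Fin t → Submodule F (Fin 4 → F)) (hD : Cfsg.Geo.IsNondegenerateMDecomposition (Cfsg.hermForm 4 F q) k D)
    (hkey : ∀ (τ : F ≃+* F), Ctx 4 q τ → ∀ (ee : Fin 4 ≃ Fin t × Fin k) (M : Subgroup (Matrix.GeneralLinearGroup (Fin 4) F)),
      OverB q ee M → (∃ g ∈ M, ¬ IsBlock (blk ee) g) → suGL 4 F q ≤ M) :
    Cfsg.Geo.IsMaximalIn (suGL 4 F q) (Cfsg.Geo.decompositionStabilizer D ⊓ suGL 4 F q) := by
  obtain ⟨τ, K⟩ := exists_ctx hF 4
  obtain ⟨ee, P, hPU, hP⟩ := Cfsg.Agent.S5655.exists_onb_frame K D hD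
  have hstab := mem_stab_iff_isBlock D ee P hP hD.decomp.finrank_eq
  have hsu : ∀ g, g ∈ suGL 4 F q → P⁻¹ * g * P ∈ suGL 4 F q := fun g hg => by
    simpa using conj_mem_su K (a := P⁻¹) ((Cfsg.GU 4 F q).inv_mem hPU) hg
  have hsu' : ∀ g, g ∈ suGL 4 F q → P * g * P⁻¹ ∈ suGL 4 F q := fun g hg => conj_mem_su K hPU hg
  constructor
  · refine lt_of_le_of_ne inf_le_right fun heq => ?_
    obtain ⟨g, hg, hgb⟩ := exists_not_block K ee hk
    have h1 := hsu' g hg
    rw [← heq] at h1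
    have h2 := (hstab _).1 h1.1
    rw [show P⁻¹ * (P * g * P⁻¹) * P = g by group] at h2
    exact hgb h2
  intro M hHM hMS
  let M' := M.map (MulAut.conj P⁻¹).toMonoidHom
  have hmem : ∀ g, g ∈ M' ↔ P * g * P⁻¹ ∈ M := fun g => by
    rw [Subgroup.mem_map_equiv]; simp
  have hle : M' ≤ suGL 4 F q := fun g hg => by
    have := hsu _ (hMS ((hmem g).1 hg))
    rwa [show P⁻¹ * (P * g * P⁻¹) * P = g by group] at this
  have hblock : ∀ g ∈ suGL 4 F q, IsBlock (fun x => (ee x).1) g → g ∈ M' := fun g hg hgb =>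
    (hmem g).2 (hHM ⟨(hstab _).2 (by rwa [show P⁻¹ * (P * g * P⁻¹) * P = g by group]), hsu' g hg⟩)
  by_cases hall : ∀ g ∈ M', IsBlock (fun x => (ee x).1) g
  · refine Or.inl (le_antisymm (fun g hg => ⟨(hstab g).2 (hall _ ((hmem _).2 ?_)), hMS hg⟩) hHM)
    rwa [show P * (P⁻¹ * g * P) * P⁻¹ = g by group]
  push Not at hall
  refine Or.inr (le_antisymm hMS fun g hg => ?_)
  have h3 := (hmem _).1 (hkey τ K ee M' ⟨hle, hblock⟩ hall (hsu g hg))
  rwa [show P * (P⁻¹ * g * P) * P⁻¹ = g by group] at h3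

omit K in
/-- The stabilisers of pairs of orthogonal non-degenerate lines are maximal. -/
theorem lines_maximal (hF : Fintype.card F = q ^ 2) (hq : 3 ≤ q) (D : Fin 2 → Submodule F (Fin 4 → F))
    (hD : Cfsg.Geo.IsNondegenerateMDecomposition (Cfsg.hermForm 4 F q) 2 D) :
    Cfsg.Geo.IsMaximalIn (suGL 4 F q) (Cfsg.Geo.decompositionStabilizer D ⊓ suGL 4 F q) :=
  decomposition_maximal hF le_rfl D hD fun _ K _ _ hO hNb => suGL_le_of_overB K le_rfl le_rfl hO hq hNb

omit K in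
/-- The stabilisers of orthogonal frames are maximal for `q ≥ 4`. -/
theorem points_maximal (hF : Fintype.card F = q ^ 2) (hq : 4 ≤ q) (D : Fin 4 → Submodule F (Fin 4 → F))
    (hD : Cfsg.Geo.IsNondegenerateMDecomposition (Cfsg.hermForm 4 F q) 1 D) :
    Cfsg.Geo.IsMaximalIn (suGL 4 F q) (Cfsg.Geo.decompositionStabilizer D ⊓ suGL 4 F q) := by
  refine decomposition_maximal hF (by norm_num) D hD fun τ K ee M hO hNb => ?_
  refine suGL_le_of_over K ⟨hO.le, fun g hg hgm =>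
    hO.block g hg ((Cfsg.Agent.S5655.isMono_iff_block ee g).2 hgm)⟩ hq ?_
  obtain ⟨g, hg, hgb⟩ := hNb
  exact ⟨g, hg, fun h => hgb ((Cfsg.Agent.S5655.isMono_iff_block ee g).2 h)⟩

end CfsgLib.Maximal.SUFour.Frames
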