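import Mathlib
import Cfsg.Agent.Lib.Maximal.SUFour.FrameMain

/-!
The stabilisers of orthogonal frames are maximal in `SU₄(2)`.
-/

set_option autoImplicit false
set_option linter.unusedSectionVars false
set_option linter.unusedSimpArgs false

open scoped Classical

namespace CfsgLib.Maximal.SUFour.Frames

open scoped Matrix
open CfsgLib.Maximal CfsgLib.UnMono

variable {q : ℕ} {F : Type*} [Field F] [Fintype F] {τ : F ≃+* F}
  {M : Subgroup (Matrix.GeneralLinearGroup (Fin 4) F)}

local notation "hh" => Cfsg.hermForm 4 F q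
local notation "MM" => Matrix (Fin 4) (Fin 4) F
local notation "GG" => Matrix.GeneralLinearGroup (Fin 4) F
local notation "VV" => (Fin 4 → F)

variable (K : Ctx 4 q τ)
include K

/-- Over the field with four elements. -/
lemma suGL_le_of_over_two (hq : q = 2) (hO : Over q M) (hNm : ∃ x ∈ M, ¬ IsMono x) : suGL 4 F q ≤ M := by
  have h2 := CfsgLib.UnMono.two_eq_zero K hq
  have nm : ∀ {x : F}, x ≠ 0 → x * τ x = 1 := fun hx => CfsgLib.UnMono.nm_two K hq hx
  have hskew : ∀ k : F, τ k = -k → k = 0 ∨ k = 1 := by
    intro k hk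
    by_cases h : k = 0
    · exact Or.inl h
    have e := nm h
    rw [hk] at e
    rcases mul_self_eq_one_iff.1 (show k * k = 1 by linear_combination e + k * k * h2) with h' | h'
    · exact Or.inr h'
    · exact Or.inr (by linear_combination h' - h2)
  -- a column with three entries
  obtain ⟨x, hx, hxm⟩ := hNm
  have hxU := (hO.le hx).1
  obtain ⟨j, hj⟩ : ∃ j, 2 ≤ (supp (col x j)).card := by
    by_contra hcon
    push Not at hcon
    refine hxm fun j => ?_
    obtain ⟨i, hi⟩ := Finset.card_pos.1 (card_supp_col_pos K hxU j)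
    exact ⟨i, fun l hl => by
      by_contra h
      exact hl (Finset.card_le_one.1 (Nat.le_of_lt_succ (hcon j)) l (mem_supp.2 h) i hi)⟩
  set u := col x j with hu
  have h3 : (supp u).card = 3 := by
    have e := hh_self_two K hq u
    rw [hu, hh_col K hxU, if_pos rfl, ← hu] at e
    have h4 : (supp u).card ≤ 4 := by simpa using Finset.card_le_univ (supp u)
    rcases (show (supp u).card = 2 ∨ (supp u).card = 3 ∨ (supp u).card = 4 by omega) with h | h | h
    · rw [h] at e; push_cast at e; exact absurd (e.trans h2) one_ne_zero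
    · exact h
    · rw [h] at e; push_cast at e
      exact absurd (show (1 : F) = 0 by linear_combination e + 2 * h2) one_ne_zero
  obtain ⟨i, hi⟩ := Finset.card_pos.1 (by omega : 0 < (supp u).card)
  obtain ⟨c, -, hc⟩ := Finset.exists_mem_notMem_of_card_lt_card (s := supp u) (t := Finset.univ) (by simp; omega)
  rw [notMem_supp] at hc
  have hui := mem_supp.1 hi
  have hic : i ≠ c := fun h => hui (h ▸ hc)
  obtain ⟨ε, hε, hεn⟩ := exists_nonfix K
  obtain ⟨R, hRU, hR, m, hm, hmR⟩ := refl_mem K hO hx j hε
  have hε3 : ε ^ 3 = 1 := by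
    have := K.pow_succ_of_nm hε; rwa [hq] at this
  have hη : (ε ^ 4)⁻¹ - 1 ≠ 0 := by
    rw [sub_ne_zero, Ne, inv_eq_one]
    intro h
    exact hεn (by rw [show ε = 1 by rw [pow_succ, hε3, one_mul] at h; exact h, map_one])
  -- pairs are full
  have pair : ∀ {a b : Fin 4}, a ≠ b → ∀ {v : VV}, v a ≠ 0 → v b ≠ 0 → (∀ l, l ≠ a → l ≠ b → v l = 0) →
      UFull τ q M v := by
    intro a b hab v ha hb hoff k hk
    rcases hskew k hk with rfl | rfl
    · rw [zero_smul]; exact has_of_zero (Or.inl rfl)
    have hvv : hh v v = 0 := by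
      rw [hh_two K hab hoff, nm ha, nm hb]; linear_combination h2
    refine ⟨un_tv_dot K.form hvv _, hO.mono _ (utv_mem_su K.form hvv hk) fun l => ?_⟩
    by_cases hla : l = a
    · subst hla
      refine ⟨b, fun p hp => ?_⟩
      rw [tv_col K hvv]
      by_cases hpl : p = l
      · subst hpl; simp; linear_combination nm ha + h2
      · simp [hpl, hoff p hpl hp]
    by_cases hlb : l = b
    · subst hlb
      refine ⟨a, fun p hp => ?_⟩
      rw [tv_col K hvv]
      by_cases hpl : p = l
      · subst hpl; simp; linear_combination nm hb + h2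
      · simp [hpl, hoff p hp hpl]
    · refine ⟨l, fun p hp => ?_⟩
      rw [tv_col K hvv]
      simp [hp, hoff l hla hlb]
  -- a full vector with four entries
  let v₀ : VV := Pi.single i 1 + Pi.single c 1
  have hv₀ : UFull τ q M v₀ := pair hic (by simp [v₀, hic]) (by simp [v₀, hic.symm]) fun l h1 h2 => by
    simp [v₀, h1, h2]
  set v := (m : MM) *ᵥ v₀ with hv
  have hfull : UFull τ q M v := hv₀.map K.form hO.le hm
  have hv4 : ∀ l, v l ≠ 0 := by
    intro l
    rw [hv, hmR, hR, K.form.add_left, K.hh_single_left, K.hh_single_left, ← hu, hc, map_zero]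
    simp only [mul_zero, one_mul, add_zero, Pi.smul_apply, Pi.add_apply, smul_eq_mul, v₀]
    refine mul_ne_zero (K.ne_of_nm hε) ?_
    by_cases h1 : l = c
    · subst h1; simp [hic.symm, hc]
    by_cases h2' : l = i
    · subst h2'
      simp [h1]
      intro h
      have e := nm hui
      exact absurd (show (ε ^ 4)⁻¹ = 0 by linear_combination h - ((ε ^ 4)⁻¹ - 1) * e)
        (inv_ne_zero (pow_ne_zero 4 (K.ne_of_nm hε)))
    · simp [h1, h2', hη, hui]
      intro hl
      have hsub : supp u ⊆ Finset.univ \ {c, l} := fun p hp => by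
        simp only [Finset.mem_sdiff, Finset.mem_univ, true_and, Finset.mem_insert, Finset.mem_singleton, not_or]
        exact ⟨fun h => mem_supp.1 hp (h ▸ hc), fun h => mem_supp.1 hp (h ▸ hl)⟩
      have := Finset.card_le_card hsub
      rw [Finset.card_sdiff_of_subset (Finset.subset_univ _), Finset.card_pair (Ne.symm h1)] at this
      simp at this
      omega
  -- all isotropic vectors
  refine suGL_le_of_full K.form K.card le_rfl fun w hw => ?_
  by_cases h4 : ∀ l, w l ≠ 0
  · set P := ∏ l, w l / v l with hP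
    have hPn : P * τ P = 1 := by
      rw [hP, map_prod, ← Finset.prod_mul_distrib]
      exact Finset.prod_eq_one fun l _ => nm (div_ne_zero (h4 l) (hv4 l))
    let d : Fin 4 → F := fun l => τ P * (w l / v l)
    have hd : ∀ l, d l * τ (d l) = 1 := fun l => K.nm_mul (K.nm_tau hPn) (nm (div_ne_zero (h4 l) (hv4 l)))
    have hP3 : P ^ 3 = 1 := by
      have := K.pow_succ_of_nm hPn; rwa [hq] at this
    have hp : ∏ l, d l = 1 := by
      simp only [d, Finset.prod_mul_distrib, Finset.prod_const, Finset.card_univ, Fintype.card_fin, ← hP]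
      have : τ P = P⁻¹ := (K.inv_of_nm hPn).symm
      have hP0 := K.ne_of_nm hPn
      rw [this, inv_pow]
      field_simp
      linear_combination -hP3
    have h := (hfull.map K.form hO.le (hO.hasDiag K (fun l => Units.mk0 (d l) (K.ne_of_nm (hd l))) hd hp)).smul
      K.form P
    rw [dg_mulVec] at h
    convert h using 1
    funext l
    have := hv4 l
    simp only [scal, Pi.smul_apply, smul_eq_mul, Units.val_mk0, d]
    field_simp
    linear_combination (-(w l)) * hPn
  push Not at h4
  obtain ⟨p, hp⟩ := h4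
  have heven := (iso_iff_even K hq w).1 hw
  have hsub : supp w ⊆ Finset.univ.erase p := fun l hl => Finset.mem_erase.2
    ⟨fun h => mem_supp.1 hl (h ▸ hp), Finset.mem_univ l⟩
  have hcard := Finset.card_le_card hsub
  simp at hcard
  obtain ⟨r, hr⟩ := heven
  rcases Nat.eq_zero_or_pos (supp w).card with h0 | h0
  · have : w = 0 := funext fun l => notMem_supp.1 (by rw [Finset.card_eq_zero.1 h0]; simp)
    rw [this]; exact full_zero K
  obtain ⟨a, b, hab, hS⟩ := Finset.card_eq_two.1 (by omega : (supp w).card = 2)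
  exact pair hab (mem_supp.1 (by rw [hS]; simp)) (mem_supp.1 (by rw [hS]; simp))
    fun l h1 h2 => notMem_supp.1 (by rw [hS]; simp [h1, h2])

omit K in
/-- The stabilisers of orthogonal frames are maximal unless `q = 3`. -/
theorem frames_maximal (hF : Fintype.card F = q ^ 2) (hq : q ≠ 3) (D : Fin 4 → Submodule F (Fin 4 → F))
    (hD : Cfsg.Geo.IsNondegenerateMDecomposition (Cfsg.hermForm 4 F q) 1 D) :
    Cfsg.Geo.IsMaximalIn (suGL 4 F q) (Cfsg.Geo.decompositionStabilizer D ⊓ suGL 4 F q) := by
  by_cases h4 : 4 ≤ q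
  · exact points_maximal hF h4 D hD
  refine decomposition_maximal hF (by norm_num) D hD fun τ K ee M hO hNb => ?_
  refine suGL_le_of_over_two K (by have := K.two_le_q; omega) ⟨hO.le, fun g hg hgm =>
    hO.block g hg ((Cfsg.Agent.S5655.isMono_iff_block ee g).2 hgm)⟩ ?_
  obtain ⟨g, hg, hgb⟩ := hNb
  exact ⟨g, hg, fun h => hgb ((Cfsg.Agent.S5655.isMono_iff_block ee g).2 h)⟩

end CfsgLib.Maximal.SUFour.Frames
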