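import Mathlib
import Cfsg.Agent.Lib.Classical.OmegaSixMinus
import Cfsg.Agent.Lib.FgsC.LocalBalance.OrthFieldMinus
import Cfsg.Agent.Lib.Geometry.GeoOmega
import Cfsg.Agent.Lib.Sp4Odd.Clifford
import Cfsg.Agent.Lib.Maximal.HermTv
import Cfsg.Agent.Lib.UnMono.Basic

/-!
`SU₄(q) → Ω⁻₆(q)` on alternating matrices fixed by the semilinear involution, and transfer of maximality.
-/

set_option autoImplicit false
set_option linter.unusedSectionVars false

namespace CfsgLib.Maximal.SUFour.Klein6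

open QuadraticMap CfsgLib.Geometry CfsgLib.Classical Matrix
open CfsgLib.Classical.Klein
open CfsgLib.Classical.Unitary (UFrob)

variable {F K : Type*} [Field F] [Field K] [Algebra F K] [Finite F] [Fintype K] {σ : K →+* K} {t : K} {a b : F}
  {e e' : K} {q : ℕ}

/-- The data of the correspondence. -/
structure Setup (σ : K →+* K) (t : K) (a b : F) (e e' : K) (q : ℕ) : Prop where
  ext : QuadExt F K σ t a b
  frob : UFrob σ q
  pair : NormPair σ e e'
  aniso : ∀ z₁ z₂ : F, z₁ ^ 2 + a * z₁ * z₂ + b * z₂ ^ 2 = 0 → z₁ = 0 ∧ z₂ = 0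
  cardF : Nat.card F = q
  cardK : Nat.card K = q ^ 2

omit [Algebra F K] [Finite F] in
/-- The correspondence exists over every field with `q²` elements. -/
theorem exists_setup (hK : Fintype.card K = q ^ 2) :
    ∃ (F : Subfield K) (_ : Algebra F K) (σ : K →+* K) (t : K) (a b : F) (e e' : K), Setup σ t a b e e' q := by
  have hK' : Nat.card K = q ^ 2 := by rw [Nat.card_eq_fintype_card, hK]
  obtain ⟨σ₀, hσ₀⟩ := Unitary.exists_uFrob hK'
  have hF : Nat.card (σ₀.eqLocusField (RingHom.id K)) = q := fixed_card_eq hK' hσ₀.pow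
  obtain ⟨a, b, hab⟩ := CfsgLib.FgsC.LocalBalance.exists_binAniso (F := σ₀.eqLocusField (RingHom.id K))
  obtain ⟨alg, σ, t, h, hσ⟩ := exists_quadExt hF hK' hab
  obtain ⟨e, e', hn⟩ := exists_normPair hK' hσ
  exact ⟨_, alg, σ, t, a, b, e, e', h, hσ, hn, hab, hF, hK'⟩

omit [Algebra F K] [Finite F] in
/-- `SU₄` inside the general linear group. -/
def jSU (K : Type*) [Field K] (q : ℕ) : ↥(Cfsg.SU 4 K q) →* Matrix.GeneralLinearGroup (Fin 4) K :=
  Matrix.SpecialLinearGroup.toGL.comp (Cfsg.SU 4 K q).subtype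

omit [Algebra F K] [Finite F] in
theorem jSU_val (g : Cfsg.SU 4 K q) : (jSU K q g : Matrix (Fin 4) (Fin 4) K) = g.1.1 := rfl

omit [Algebra F K] [Finite F] in
theorem jSU_injective : Function.Injective (jSU K q) := fun _ _ h =>
  Subtype.ext (Matrix.SpecialLinearGroup.toGL_injective h)

omit [Algebra F K] [Finite F] in
theorem range_jSU : (jSU K q).range = suGL 4 K q := by
  ext g
  constructor
  · rintro ⟨x, rfl⟩
    exact ⟨fun u v => x.2 u v, (mem_specialLinear_iff _).2 x.1.2⟩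
  · rintro ⟨h1, h2⟩
    exact ⟨⟨⟨(g : Matrix (Fin 4) (Fin 4) K), (mem_specialLinear_iff g).1 h2⟩, fun u v => (mem_GU_iff g).1 h1 u v⟩,
      Units.ext rfl⟩

variable (S : Setup σ t a b e e' q)
include S

theorem two_le : 2 ≤ q := CfsgLib.Classical.two_le_q S.cardK

theorem nondeg : (polarBilin (matQuad (minusMat 2 F a b))).Nondegenerate := nondeg_minus_two S.aniso

/-- The homomorphism. -/
noncomputable def toO6 : ↥(Cfsg.SU 4 K q) →* orth (matQuad (minusMat 2 F a b)) :=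
  (su4_embeddedAct S.ext S.frob (by have := two_le S; omega) S.pair S.aniso).toOrth

theorem emb_injective : Function.Injective (unitEmb S.ext e e') :=
  (su4_embeddedAct S.ext S.frob (by have := two_le S; omega) S.pair S.aniso).inj

theorem emb_toO6 (g : Cfsg.SU 4 K q) (v : (Fin 2 ⊕ Fin 2) ⊕ Fin 2 → F) :
    unitEmb S.ext e e' ((toO6 S g : ((Fin 2 ⊕ Fin 2) ⊕ Fin 2 → F) ≃ₗ[F] ((Fin 2 ⊕ Fin 2) ⊕ Fin 2 → F)) v) =
      g.1.1 * unitEmb S.ext e e' v * g.1.1ᵀ :=
  ((su4_embeddedAct S.ext S.frob (by have := two_le S; omega) S.pair S.aniso).mk_fn g v).trans (altAct_apply F _ _)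

theorem toO6_ker {g : Cfsg.SU 4 K q} (hg : toO6 S g = 1) :
    ∃ r : K, r * r = 1 ∧ g.1.1 = Matrix.diagonal fun _ => r :=
  su4_ker S.ext S.frob (by have := two_le S; omega) S.pair S.aniso (MonoidHom.mem_ker.2 hg)

theorem toO6_of_scalar {g : Cfsg.SU 4 K q} {c : K} (hc : c * c = 1) (hg : g.1.1 = c • (1 : Matrix (Fin 4) (Fin 4) K)) :
    toO6 S g = 1 :=
  MonoidHom.mem_ker.1 ((EmbeddedAct.mem_ker _ g).2 fun v => by
    rw [altAct_apply, hg, Matrix.transpose_smul, Matrix.transpose_one, Matrix.smul_mul, Matrix.one_mul,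
      Matrix.mul_smul, Matrix.mul_one, smul_smul, hc, one_smul])

theorem range_toO6 : (toO6 S).range = commutator (orth (matQuad (minusMat 2 F a b))) := by
  have hq := two_le S
  have hQ := nondeg S
  have hR := reflGroup_eq_orth hQ (Or.inl (by simp))
  have hp : commutator (Cfsg.SU 4 K q) = ⊤ :=
    Unitary.su_commutator_eq_top S.cardK S.frob (by norm_num) (by norm_num)
  haveI : Finite (orth (matQuad (minusMat 2 F a b))) := Finite.of_equiv _ (isomEquiv _).toEquiv
  refine Subgroup.eq_of_le_of_card_ge (range_le_commutator_of_perfect _ hp) ?_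
  set f := toO6 S
  have hgcd : Nat.gcd 2 (Nat.card K - 1) = Nat.gcd 2 (Nat.card F - 1) := by
    rcases Nat.even_or_odd (Nat.card F) with he | ho
    · rw [gcd_two_card_sub_one_of_even he, gcd_two_card_sub_one_of_even]
      rw [S.cardK, ← S.cardF]; exact he.pow_of_ne_zero two_ne_zero
    · rw [gcd_two_card_sub_one_of_odd ho, gcd_two_card_sub_one_of_odd]
      rw [S.cardK, ← S.cardF]; exact ho.pow
  have h1 : Nat.card (Cfsg.SU 4 K q) = Nat.card f.range * Nat.card f.ker := by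
    rw [Subgroup.card_eq_card_quotient_mul_card_subgroup f.ker,
      Nat.card_congr (QuotientGroup.quotientKerEquivRange f).toEquiv]
  have hker : Nat.card f.ker ≤ Nat.gcd 2 (Nat.card F - 1) := by
    rw [← hgcd]
    exact card_le_gcd_two 0 (fun g : Cfsg.SU 4 K q => g.1.1)
      (fun g k hgk => Subtype.ext (Subtype.ext hgk)) _ fun g hg => toO6_ker S hg
  have hcard : Nat.gcd 2 (Nat.card F - 1) * Nat.card (orth (matQuad (minusMat 2 F a b))) ≤
      Nat.card (Cfsg.SU 4 K q) * (commutator (orth (matQuad (minusMat 2 F a b)))).index := by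
    have hS := CfsgLib.Classical.card_SU_mul (q := q) (n := 4) S.cardK (by norm_num)
    rw [card_GU S.cardK] at hS
    simp [Finset.prod_range_succ] at hS
    rw [if_neg (by decide : ¬ Even 3)] at hS
    have hS' : Nat.card (Cfsg.SU 4 K q) = q ^ 6 * (q ^ 2 - 1) * (q ^ 3 + 1) * (q ^ 4 - 1) :=
      Nat.eq_of_mul_eq_mul_left (show 0 < q + 1 by omega) (by rw [hS]; ring)
    rw [card_orth_eq, coe_matQuad_minus, card_isometry_minus 2 S.aniso,
      index_commutator_orth hQ (by simp) hR, hS', S.cardF]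
    simp [Finset.prod_range_succ]
    exact le_of_eq (by ring)
  have hci := (commutator (orth (matQuad (minusMat 2 F a b)))).card_mul_index
  have hk : 0 < Nat.card f.ker := Nat.card_pos
  have hi : 0 < (commutator (orth (matQuad (minusMat 2 F a b)))).index :=
    Nat.pos_of_ne_zero Subgroup.index_ne_zero_of_finite
  have h4 : Nat.card f.ker * (Nat.card (commutator (orth (matQuad (minusMat 2 F a b)))) *
      (commutator (orth (matQuad (minusMat 2 F a b)))).index) ≤
      (Nat.card f.range * Nat.card f.ker) * (commutator (orth (matQuad (minusMat 2 F a b)))).index := by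
    rw [hci, ← h1]
    exact (Nat.mul_le_mul_right _ hker).trans hcard
  rw [← mul_assoc] at h4
  exact Nat.le_of_mul_le_mul_left (by
    have := Nat.le_of_mul_le_mul_right h4 hi
    rwa [mul_comm (Nat.card f.range)] at this) hk

/-- The homomorphism into matrices. -/
noncomputable def toGL6 : ↥(Cfsg.SU 4 K q) →* Matrix.GeneralLinearGroup ((Fin 2 ⊕ Fin 2) ⊕ Fin 2) F :=
  (orthToGL (matQuad (minusMat 2 F a b))).comp (toO6 S)

theorem toGL6_toLin (g : Cfsg.SU 4 K q) :
    Matrix.toLin' ((toGL6 S g : Matrix.GeneralLinearGroup ((Fin 2 ⊕ Fin 2) ⊕ Fin 2) F) :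
        Matrix ((Fin 2 ⊕ Fin 2) ⊕ Fin 2) ((Fin 2 ⊕ Fin 2) ⊕ Fin 2) F) =
      ((toO6 S g : ((Fin 2 ⊕ Fin 2) ⊕ Fin 2 → F) ≃ₗ[F] ((Fin 2 ⊕ Fin 2) ⊕ Fin 2 → F)) :
        ((Fin 2 ⊕ Fin 2) ⊕ Fin 2 → F) →ₗ[F] ((Fin 2 ⊕ Fin 2) ⊕ Fin 2 → F)) :=
  LinearMap.ext fun w => by rw [Matrix.toLin'_apply, toGL6, MonoidHom.comp_apply, orthToGL_mulVec]; rfl

/-- Transfer of maximality. -/
theorem maximal_of_omega {T₄ : Subgroup (Matrix.GeneralLinearGroup (Fin 4) K)}
    {T : Subgroup (Matrix.GeneralLinearGroup ((Fin 2 ⊕ Fin 2) ⊕ Fin 2) F)}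
    (hST : ∀ x, jSU K q x ∈ T₄ ↔ toGL6 S x ∈ T)
    (hmax : Cfsg.Geo.IsMaximalIn (Cfsg.Geo.omegaGL ⇑(matQuad (minusMat 2 F a b)))
      (T ⊓ Cfsg.Geo.omegaGL ⇑(matQuad (minusMat 2 F a b)))) :
    Cfsg.Geo.IsMaximalIn (suGL 4 K q) (T₄ ⊓ suGL 4 K q) :=
  CfsgLib.Sp4Odd.isMaximalIn_pullback (jSU K q) (toGL6 S) range_jSU
    (by rw [toGL6, MonoidHom.range_comp, range_toO6 S, omegaGL_eq_map]) hST hmax

end CfsgLib.Maximal.SUFour.Klein6
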