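import Mathlib
import Cfsg.Agent.Lib.Maximal.SUFour.OrthCount
import Cfsg.Agent.Lib.Maximal.UnSubMain
import Cfsg.Agent.Lib.UnMono.Basic
import Cfsg.Agent.S0829

/-!
The orthogonal subfield subgroups of `SU₄(q)` are maximal.
-/

set_option autoImplicit false
set_option linter.unusedSectionVars false
set_option linter.unusedSimpArgs false
set_option maxHeartbeats 400000

namespace CfsgLib.Maximal.SUFour

open scoped Matrix
open CfsgLib.UnMono (Ctx)

variable {F : Type*} [Field F] [Fintype F] {q : ℕ} {τ : F ≃+* F}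

local notation "VV" => (Fin 4 → F)
local notation "GG" => Matrix.GeneralLinearGroup (Fin 4) F

/-- The fixed field of the involution is the subfield of index two. -/
lemma fix_iff_mem (K : Ctx 4 q τ) {F₀ : Subfield F} (hcard : Fintype.card F = Nat.card F₀ ^ 2) (x : F) :
    τ x = x ↔ x ∈ F₀ := by
  classical
  have hq : Nat.card F₀ = q := Nat.pow_left_injective two_ne_zero (hcard.symm.trans K.card)
  have h1 : ∀ y ∈ F₀, τ y = y := fun y hy => by
    haveI : Fintype F₀ := Fintype.ofFinite _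
    rw [K.pow, ← hq, Nat.card_eq_fintype_card]
    exact congrArg Subtype.val (FiniteField.pow_card (⟨y, hy⟩ : F₀))
  refine ⟨fun hx => ?_, h1 x⟩
  by_contra hx0
  let S : Finset F := insert x (Finset.univ.filter (· ∈ F₀))
  have h2 : S.card = q + 1 := by
    rw [Finset.card_insert_of_notMem (by simp [hx0]), ← hq, Nat.card_eq_fintype_card, Fintype.card_subtype]
  have h3 : S.val ⊆ (Polynomial.X ^ q - Polynomial.X : Polynomial F).roots := fun y hy => by
    have hne : (Polynomial.X ^ q - Polynomial.X : Polynomial F) ≠ 0 :=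
      FiniteField.X_pow_card_sub_X_ne_zero F K.two_le_q
    rw [Polynomial.mem_roots hne]
    have hy' : τ y = y := by
      rcases Finset.mem_insert.1 (Finset.mem_def.2 hy) with rfl | hy
      · exact hx
      · exact h1 y (Finset.mem_filter.1 hy).2
    simp [Polynomial.IsRoot, ← K.pow, hy', sub_eq_zero]
  have h4 := Polynomial.card_le_degree_of_subset_roots (Z := S) h3
  rw [h2, FiniteField.X_pow_card_sub_X_natDegree_eq F K.two_le_q] at h4
  omega

variable {F₀ : Subfield F} {h : (Fin 4 → F) → (Fin 4 → F) → F} {H : Subgroup (Matrix.GeneralLinearGroup (Fin 4) F)}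

namespace Orth4

variable (O : Orth4 τ h F₀ H)
include O

/-- A projection away from orthogonal anisotropic rational vectors. -/
lemma exists_aniso_perp {k : ℕ} (hk : k < 4) (s : Fin k → VV) (hs : ∀ i, RatV F₀ (s i))
    (hne : ∀ i, h (s i) (s i) ≠ 0) (horth : ∀ i j, i ≠ j → h (s i) (s j) = 0) :
    ∃ z, RatV F₀ z ∧ (∀ i, h z (s i) = 0) ∧ h z z ≠ 0 := by
  let p : VV →ₗ[F] VV :=
    { toFun := fun y => y - ∑ i, (h y (s i) / h (s i) (s i)) • s i
      map_add' := fun a b => by
        simp only [O.add_l, add_div, add_smul, Finset.sum_add_distrib]; abel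
      map_smul' := fun t a => by
        simp only [O.smul_l, RingHom.id_apply, smul_sub, Finset.smul_sum, smul_smul, mul_div_assoc] }
  refine O.exists_aniso p (fun y hy => ?_) s hk (fun y i => ?_) fun y => ?_
  · refine fun l => ?_
    simp only [p, LinearMap.coe_mk, AddHom.coe_mk, Pi.sub_apply, Finset.sum_apply, Pi.smul_apply, smul_eq_mul]
    exact F₀.sub_mem (hy l) (sum_mem fun i _ =>
      F₀.mul_mem (F₀.div_mem (O.rat _ _ hy (hs i)) (O.rat _ _ (hs i) (hs i))) (hs i l))
  · simp only [p, LinearMap.coe_mk, AddHom.coe_mk, O.sub_l]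
    rw [un_sum_left O.unit, Finset.sum_eq_single i (fun j _ hj => by rw [O.smul_l, horth j i hj, mul_zero])
      (by simp), O.smul_l, div_mul_cancel₀ _ (hne i), sub_self]
  · simp only [p, LinearMap.coe_mk, AddHom.coe_mk, sub_sub_cancel]
    exact Submodule.sum_mem _ fun i _ => Submodule.smul_mem _ _ (Submodule.subset_span ⟨i, rfl⟩)

/-- There is a rational isotropic vector. -/
lemma exists_rat_iso : ∃ e : VV, RatV F₀ e ∧ h e e = 0 ∧ e ≠ 0 := by
  classical
  obtain ⟨a, ha, -, haa⟩ := O.exists_aniso_perp (by norm_num) ![] (fun i => i.elim0) (fun i => i.elim0)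
    (fun i => i.elim0)
  obtain ⟨b, hb, hbp, hbb⟩ := O.exists_aniso_perp (by norm_num) ![a] (by simp [ha]) (by simp [haa])
    (fun i j hij => absurd (Subsingleton.elim i j) hij)
  have hba : h b a = 0 := hbp 0
  obtain ⟨c, hc, hcp, hcc⟩ := O.exists_aniso_perp (by norm_num) ![a, b]
    (by intro i; fin_cases i <;> simp [ha, hb]) (by intro i; fin_cases i <;> simp [haa, hbb])
    (by intro i j hij; fin_cases i <;> fin_cases j <;> first | exact absurd rfl hij | simp [hba, O.flip0 hba])
  have hca : h c a = 0 := hcp 0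
  have hcb : h c b = 0 := hcp 1
  haveI : Fintype F₀ := Fintype.ofFinite _
  have hodd : Fintype.card F₀ % 2 = 1 := by
    refine FiniteField.odd_card_of_char_ne_two fun hchar => O.two ?_
    have h2 : (2 : F₀) = 0 := by
      exact_mod_cast (ringChar.spec F₀ 2).2 (by rw [hchar])
    simpa only [map_ofNat, map_zero] using congrArg F₀.subtype h2
  let A : F₀ := ⟨h a a, O.rat a a ha ha⟩
  let B : F₀ := ⟨h b b, O.rat b b hb hb⟩
  let C' : F₀ := ⟨h c c, O.rat c c hc hc⟩
  have hA : A ≠ 0 := fun e => haa (congrArg Subtype.val e)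
  have hB : B ≠ 0 := fun e => hbb (congrArg Subtype.val e)
  obtain ⟨x, y, hxy⟩ := FiniteField.exists_root_sum_quadratic (R := F₀)
    (f := Polynomial.C A * Polynomial.X ^ 2) (g := Polynomial.C B * Polynomial.X ^ 2 + Polynomial.C C')
    (Polynomial.degree_C_mul_X_pow 2 hA)
    (by rw [Polynomial.degree_add_C (by rw [Polynomial.degree_C_mul_X_pow 2 hB]; norm_num),
      Polynomial.degree_C_mul_X_pow 2 hB]; rfl) hodd
  simp only [Polynomial.eval_add, Polynomial.eval_mul, Polynomial.eval_C, Polynomial.eval_pow,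
    Polynomial.eval_X] at hxy
  have hxy' : h a a * (x : F) ^ 2 + (h b b * (y : F) ^ 2 + h c c) = 0 := by
    simpa [A, B, C'] using congrArg Subtype.val hxy
  refine ⟨(x : F) • a + (y : F) • b + c, ((ha.smul x.2).addV (hb.smul y.2)).addV hc, ?_, fun h0 => hcc ?_⟩
  · simp only [O.add_l, O.add_r, O.smul_l, O.smul_r, O.real_of_mem x.2, O.real_of_mem y.2, hba, hca, hcb,
      O.flip0 hba, O.flip0 hca, O.flip0 hcb]
    linear_combination hxy'
  · have := congrArg (fun v => h v c) h0
    simpa [O.add_l, O.smul_l, O.flip0 hca, O.flip0 hcb, O.zero_l] using this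

end Orth4

/-- The subfield subgroups of orthogonal type of `SU₄(q)` are maximal. -/
theorem orth_maximal (K : Ctx 4 q τ) (hq : 5 ≤ q) (hodd : Odd q) (F₀ : Subfield F) (P : GG)
    (hcard : Fintype.card F = Nat.card F₀ ^ 2)
    (hrat : Cfsg.Geo.IsFormRationalStructure (Cfsg.hermForm 4 F q) F₀ 1 P) :
    Cfsg.Geo.IsMaximalIn (suGL 4 F q) (Cfsg.Geo.subfieldSubgroup F₀ P ⊓ suGL 4 F q) := by
  classical
  have hq0 : Nat.card F₀ = q := Nat.pow_left_injective two_ne_zero (hcard.symm.trans K.card)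
  have hu := pullForm_unitary K.form P
  have h2 : (2 : F) ≠ 0 := by
    refine Ring.two_ne_zero fun h => ?_
    have heven := FiniteField.even_card_of_char_two h
    rw [K.card, Nat.pow_mod, Nat.odd_iff.1 hodd] at heven
    simp at heven
  have hR : ∀ u v : VV, RatV F₀ u → RatV F₀ v → pullForm q P u v ∈ F₀ := fun u v hu hv => by
    have := hrat u v hu hv; rwa [one_mul] at this
  have hOrth : ∀ H : Subgroup GG, H ≤ suH (pullForm q P) →
      (∀ g, g ∈ suH (pullForm q P) → RatUpToScalar F₀ g → g ∈ H) → Orth4 τ (pullForm q P) F₀ H :=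
    fun H h1 h3 => ⟨hu, h2, fix_iff_mem K hcard, hR, h1, h3⟩
  have O := hOrth (suH (pullForm q P)) le_rfl fun _ h _ => h
  obtain ⟨e, he, hee, he0⟩ := O.exists_rat_iso
  obtain ⟨f, c, d, R⟩ := O.exists_frame he hee he0
  refine ⟨lt_of_le_of_ne inf_le_right fun heq => ?_, fun M hSM hMK => ?_⟩
  · obtain ⟨z, hz⟩ : ∃ z : F, τ z ≠ z := by
      by_contra! hall; exact K.form.ne_refl (RingEquiv.ext hall)
    set k := z - τ z with hk
    have hk0 : k ≠ 0 := sub_ne_zero.2 (Ne.symm hz)
    have hkτ : τ k = -k := by rw [hk, map_sub, K.invol]; ring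
    obtain ⟨g, hg, eg⟩ := O.exists_eMap (w := 0) (t := k) hee (O.zero_l e) (by rw [hkτ, O.zero_l]; ring)
    have h1 := ((SetLike.ext_iff.1 heq _).2 ((conj_mem_suGL P g).2 hg)).1
    have h3 := (mem_subfieldSubgroup_iff P _).1 h1
    rw [show P⁻¹ * (P * g * P⁻¹) * P = g by group] at h3
    obtain ⟨a, ha, hM⟩ := h3
    have getS : ∀ t : F, RatV F₀ (t • e) → t ∈ F₀ := fun t ht => by
      obtain ⟨l, hl⟩ := Function.ne_iff.1 he0
      have := F₀.mul_mem (ht l) (F₀.inv_mem (he l))
      rwa [Pi.smul_apply, smul_eq_mul, mul_assoc, mul_inv_cancel₀ (show e l ≠ 0 from hl), mul_one] at this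
    have e1 := hM.mulVec he
    rw [Matrix.smul_mulVec, eg, O.eMap_zero_right, tMap, hee] at e1
    simp only [mul_zero, zero_smul, add_zero] at e1
    have haF := getS a e1
    have e2 := hM.mulVec R.rf
    rw [Matrix.smul_mulVec, eg, O.eMap_zero_right, tMap, O.fe R, mul_one, smul_add, smul_smul] at e2
    have e3 := e2.sub (R.rf.smul haF)
    rw [add_sub_cancel_left] at e3
    have hkF : k ∈ F₀ := by
      have := F₀.mul_mem (F₀.inv_mem haF) (getS _ e3)
      rwa [← mul_assoc, inv_mul_cancel₀ ha, one_mul] at this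
    have := O.real_of_mem hkF
    rw [hkτ] at this
    exact hk0 ((mul_eq_zero.1 (show (2 : F) * k = 0 by linear_combination -this)).resolve_left h2)
  · let H : Subgroup GG := M.map (MulAut.conj P⁻¹).toMonoidHom
    have memH : ∀ g, g ∈ H ↔ P * g * P⁻¹ ∈ M := fun g => by
      constructor
      · rintro ⟨x, hx, rfl⟩
        simpa [MulAut.conj_apply, mul_assoc] using hx
      · intro hg; exact ⟨_, hg, by simp [MulAut.conj_apply, mul_assoc]⟩
    have OH := hOrth H (fun g hg => (conj_mem_suGL P g).1 (hMK ((memH g).1 hg)))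
      (fun g hg hrat => (memH g).2 (hSM ⟨(mem_subfieldSubgroup_iff P _).2 (by
        rwa [show P⁻¹ * (P * g * P⁻¹) * P = g by group]), (conj_mem_suGL P g).2 hg⟩))
    have hlines : Nat.card {W : Submodule F VV // Module.finrank F W = 2 ∧
        ∀ u ∈ W, ∀ v ∈ W, pullForm q P u v = 0} = (Nat.card F₀ + 1) * (Nat.card F₀ ^ 3 + 1) := by
      rw [hq0, ← Cfsg.Agent.S0829.result K.card]
      let L : VV ≃ₗ[F] VV := LinearEquiv.ofBijective (Matrix.mulVecLin (Units.val P))
        ⟨fun a b hab => mulVec_inj P hab, fun y => mulVec_surj P y |>.imp fun x hx => hx⟩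
      refine Nat.card_congr ((Submodule.orderIsoMapComap L).toEquiv.subtypeEquiv fun W => ?_)
      show _ ↔ Module.finrank F ↥(W.map (L : VV →ₗ[F] VV)) = 2 ∧ _
      rw [LinearEquiv.finrank_map_eq]
      refine and_congr_right fun _ => ⟨?_, fun hW u hu v hv => hW _ ⟨u, hu, rfl⟩ _ ⟨v, hv, rfl⟩⟩
      rintro hW _ ⟨u, hu, rfl⟩ _ ⟨v, hv, rfl⟩
      exact hW u hu v hv
    rcases OH.rational_or_full (hq0.symm ▸ hq) he hee he0 hlines with hrig | hfull
    · refine Or.inl (le_antisymm (fun g hg => ⟨(mem_subfieldSubgroup_iff P g).2 (hrig _ ((memH _).2 (by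
        rwa [show P * (P⁻¹ * g * P) * P⁻¹ = g by group]))), hMK hg⟩) hSM)
    · refine Or.inr (le_antisymm hMK ?_)
      refine suGL_le_of_full K.form K.card (by norm_num) fun v hv k hk => ?_
      obtain ⟨u, rfl⟩ := mulVec_surj P v
      obtain ⟨g, hg, eg⟩ := hfull u hv k hk
      refine ⟨un_tv_dot K.form hv k, ?_⟩
      convert (memH g).1 hg using 1
      refine Units.ext (CfsgLib.Geometry.matrix_eq_of_mulVec fun x => ?_)
      obtain ⟨x, rfl⟩ := mulVec_surj P x
      show Units.val (tv _ _ _) *ᵥ (Units.val P *ᵥ x) = Units.val (P * g * P⁻¹) *ᵥ (Units.val P *ᵥ x)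
      rw [Matrix.mulVec_mulVec x (Units.val (P * g * P⁻¹)), ← Units.val_mul, inv_mul_cancel_right, Units.val_mul,
        ← Matrix.mulVec_mulVec, eg, tv_mulVec, un_dot K.form, smul_smul]
      simp only [tMap, Matrix.mulVec_add, Matrix.mulVec_smul, pullForm]
      rw [mul_comm]

end CfsgLib.Maximal.SUFour
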