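import Cfsg.Agent.Lib.Maximal.SUFour.Basic

/-!
Stabilisers of non-degenerate points are maximal in `SU₄`.
-/

set_option autoImplicit false
set_option linter.unusedSectionVars false
set_option maxHeartbeats 800000

namespace CfsgLib.Maximal.SUFour.Point

open scoped Matrix
open CfsgLib.UnMono (Ctx)

variable {F : Type*} [Field F] [Fintype F] {q : ℕ} {τ : F ≃+* F}

local notation "VV" => (Fin 4 → F)
local notation "hh" => Cfsg.hermForm 4 F q
local notation "MM" => Matrix (Fin 4) (Fin 4) F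
local notation "GG" => Matrix.GeneralLinearGroup (Fin 4) F

variable (K : Ctx 4 q τ)
include K

/-- An element fixing the line of `c` stabilises it. -/
lemma stab_of_smul {c : VV} {g : GG} {a : F} (hc : c ≠ 0) (h : (g : MM) *ᵥ c = a • c) :
    g ∈ Cfsg.Geo.subspaceStabilizer (Submodule.span F {c}) := by
  refine (mem_subspaceStabilizer_iff _ g).2 fun v => ⟨fun hv => ?_, fun hv => ?_⟩
  · obtain ⟨r, rfl⟩ := Submodule.mem_span_singleton.1 hv
    rw [Matrix.mulVec_smul, h, smul_smul]
    exact Submodule.smul_mem _ _ (Submodule.mem_span_singleton_self c)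
  · obtain ⟨r, hr⟩ := Submodule.mem_span_singleton.1 hv
    have ha : a ≠ 0 := fun e => hc (mulVec_inj g (by show (g : MM) *ᵥ c = (g : MM) *ᵥ 0; rw [h, e, zero_smul, Matrix.mulVec_zero]))
    refine Submodule.mem_span_singleton.2 ⟨r / a, mulVec_inj g ?_⟩
    show (g : MM) *ᵥ ((r / a) • c) = (g : MM) *ᵥ v
    rw [Matrix.mulVec_smul, h, smul_smul, div_mul_cancel₀ _ ha, hr]

/-- A full point off `c⊥` fills up. -/
lemma all_full {M : Subgroup GG} {c : VV} (hcc : hh c c ≠ 0)
    (hHM : Cfsg.Geo.subspaceStabilizer (Submodule.span F {c}) ⊓ suGL 4 F q ≤ M) (hMS : M ≤ suGL 4 F q) {u : VV}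
    (hu : UFull τ q M u) (huu : hh u u = 0) (huc : hh u c ≠ 0) {x : VV} (hxx : hh x x = 0) : UFull τ q M x := by
  have hc0 : c ≠ 0 := fun h => hcc (by rw [h, un_zero_left K.form])
  by_cases hxc : hh x c = 0
  · intro k hk
    exact ⟨_, hHM ⟨tv_mem_stab_of_ann _ _ _ _ (fun w hw => by
      obtain ⟨r, rfl⟩ := Submodule.mem_span_singleton.1 hw
      rw [un_dot K.form, hh_smul_left K, hh_flip K hxc, mul_zero]), utv_mem_su K.form hxx hk⟩⟩
  have split : ∀ v, hh v v = 0 → hh v c ≠ 0 →
      hh c ((hh c c / hh v c) • v - c) = 0 ∧ hh ((hh c c / hh v c) • v - c) ((hh c c / hh v c) • v - c) = -hh c c := by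
    intro v hvv hvc
    have h1 : hh ((hh c c / hh v c) • v - c) c = 0 := by
      rw [hh_sub_left K, hh_smul_left K, div_mul_cancel₀ _ hvc, sub_self]
    refine ⟨hh_flip K h1, ?_⟩
    have h2 : hh c ((hh c c / hh v c) • v) = hh c c := by
      rw [hh_smul_right K, map_div₀, hh_fix K, K.form.herm v c, K.invol]
      exact div_mul_cancel₀ _ fun e => hvc (by rw [K.form.herm, e, map_zero])
    rw [sub_eq_add_neg _ c, ← neg_one_smul F c]
    simp only [hh_add_left K, hh_add_right K, hh_smul_left K, hh_smul_right K, hvv, map_neg, map_one] at h2 ⊢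
    have h3 : hh c c / hh v c * hh v c = hh c c := div_mul_cancel₀ _ hvc
    linear_combination -h2 - h3
  obtain ⟨hp, hpp⟩ := split u huu huc
  obtain ⟨hp', hpp'⟩ := split x hxx hxc
  set p := (hh c c / hh u c) • u - c with hpdef
  set p' := (hh c c / hh x c) • x - c with hp'def
  obtain ⟨g, hg, hgc, hgp⟩ := exists_move K hcc (by rw [hpp]; exact neg_ne_zero.2 hcc) hp hp' (by rw [hpp', hpp])
  have h1 := (hu.smul K.form (hh c c / hh u c)).map K.form hMS
    (hHM ⟨stab_of_smul K hc0 (a := 1) (by rw [one_smul, hgc]), hg⟩)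
  rw [show (hh c c / hh u c) • u = c + p by rw [hpdef]; abel, Matrix.mulVec_add, hgc, hgp,
    show c + p' = (hh c c / hh x c) • x by rw [hp'def]; abel] at h1
  have h2 := h1.smul K.form (hh c c / hh x c)⁻¹
  rwa [inv_smul_smul₀ (div_ne_zero hcc hxc)] at h2

/-- The stabiliser of a non-degenerate point is maximal. -/
theorem maximal {W : Submodule F VV} (hW0 : W ≠ ⊥) (hW : Cfsg.Geo.IsNondegenerateOn hh W)
    (hdim : 2 * Module.finrank F W < 4) :
    Cfsg.Geo.IsMaximalIn (suGL 4 F q) (Cfsg.Geo.subspaceStabilizer W ⊓ suGL 4 F q) := by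
  obtain ⟨c, hcW, hc0⟩ := W.exists_mem_ne_zero_of_ne_bot hW0
  have hWc : W = Submodule.span F {c} := by
    refine (Submodule.eq_of_le_of_finrank_le ((Submodule.span_singleton_le_iff_mem _ _).2 hcW) ?_).symm
    rw [finrank_span_singleton hc0]; omega
  have hcc : hh c c ≠ 0 := by
    intro h
    obtain ⟨z, hz, hzc⟩ := (hW c hcW hc0).1
    rw [hWc] at hz
    obtain ⟨r, rfl⟩ := Submodule.mem_span_singleton.1 hz
    exact hzc (by rw [hh_smul_left K, h, mul_zero])
  subst hWc
  have h4 : Fintype.card (Fin 4) = 4 := Fintype.card_fin 4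
  refine ⟨lt_of_le_of_ne inf_le_right fun heq => ?_, fun M hHM hMS => or_iff_not_imp_left.2 fun hne =>
    le_antisymm hMS ?_⟩
  · obtain ⟨v, hvv, hvc⟩ := UnFour.supply₀ K.form h4 hc0
    obtain ⟨k, hk0, hk⟩ := un_skew_exists K.form
    have hmem : tv (k • v) (fvec hh v) (un_tv_dot K.form hvv k) ∈
        Cfsg.Geo.subspaceStabilizer (Submodule.span F {c}) ⊓ suGL 4 F q := by
      rw [heq]; exact utv_mem_su K.form hvv hk
    have h1 := ((mem_subspaceStabilizer_iff _ _).1 hmem.1 c).1 (Submodule.mem_span_singleton_self c)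
    rw [tv_mulVec, un_dot K.form, smul_smul, Submodule.add_mem_iff_right _ (Submodule.mem_span_singleton_self c),
      Submodule.smul_mem_iff _ (mul_ne_zero (by rw [hh_flip_one K hvc]; exact one_ne_zero) hk0)] at h1
    obtain ⟨r, rfl⟩ := Submodule.mem_span_singleton.1 h1
    rw [hh_smul_left K, hh_smul_right K] at hvv
    rw [hh_smul_left K] at hvc
    rcases mul_eq_zero.1 hvv with h | h
    · rw [h, zero_mul] at hvc; exact zero_ne_one hvc
    · rcases mul_eq_zero.1 h with h | h
      · rw [τ.injective (h.trans (map_zero τ).symm), zero_mul] at hvc; exact zero_ne_one hvc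
      · exact hcc h
  obtain ⟨g, hgM, hg⟩ : ∃ g ∈ M, g ∉ Cfsg.Geo.subspaceStabilizer (Submodule.span F {c}) := by
    by_contra hcon
    push Not at hcon
    exact hne (le_antisymm (fun g hg => ⟨hcon g hg, hMS hg⟩) hHM)
  have hgu := (mem_GU_iff g).1 (hMS hgM).1
  obtain ⟨y, hy⟩ := mulVec_surj g c
  replace hy : (g : MM) *ᵥ y = c := hy
  have hz0 : y - (hh y c / hh c c) • c ≠ 0 := by
    intro h0
    have hyc : y = (hh y c / hh c c) • c := sub_eq_zero.1 h0
    refine hg (stab_of_smul K hc0 (a := (hh y c / hh c c)⁻¹) ?_)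
    have hr : hh y c / hh c c ≠ 0 := fun e => hc0 (by
      rw [← hy, hyc, e, zero_smul, Matrix.mulVec_zero])
    rw [hyc, Matrix.mulVec_smul] at hy
    exact (eq_inv_smul_iff₀ hr).2 hy
  have hzc : hh (y - (hh y c / hh c c) • c) c = 0 := by
    rw [hh_sub_left K, hh_smul_left K, div_mul_cancel₀ _ hcc, sub_self]
  obtain ⟨e, hee, he0, hec, hez⟩ := UnFour.exists_iso_ne K.form h4 hcc hzc hz0
  have hbase : UFull τ q M e := fun k hk => ⟨_, hHM ⟨tv_mem_stab_of_ann _ _ _ _ (fun w hw => by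
      obtain ⟨r, rfl⟩ := Submodule.mem_span_singleton.1 hw
      rw [un_dot K.form, hh_smul_left K, hh_flip K hec, mul_zero]), utv_mem_su K.form hee hk⟩⟩
  refine suGL_le_of_full K.form K.card le_rfl fun x hx => Point.all_full K hcc hHM hMS (hbase.map K.form hMS hgM)
    (by rw [hgu, hee]) ?_ hx
  rw [← hy, hgu]
  intro h0
  apply hez
  rw [sub_eq_add_neg, ← neg_smul, hh_add_right K, hh_smul_right K, hec, h0]; ring

end CfsgLib.Maximal.SUFour.Point
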