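import Cfsg.Agent.Lib.Maximal.SUFour.SixFourRigid
import Cfsg.Agent.Lib.Maximal.SubfieldMain
import Cfsg.Agent.Lib.PSL2.DicksonGen

/-!
Images of rational isotropic lines under an overgroup with rational Siegel elements only.
-/

set_option autoImplicit false
set_option linter.unusedSectionVars false
set_option linter.unusedSimpArgs false

namespace CfsgLib.Maximal.SUFour.Sub

open scoped Matrix

variable {F : Type*} [Field F] {ι : Type} [Fintype ι] [DecidableEq ι] {τ : F ≃+* F}
  {h : (ι → F) → (ι → F) → F} {F₀ : Subfield F} {ζ : F}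

namespace Over

variable [Finite F] {H : Subgroup (GL ι F)} (hS : Over τ h F₀ ζ H)
include hS

omit [Finite F] in
lemma eMap_zero {u : ι → F} {c : F} : eMap h u (0 : ι → F) c = tMap h c u := funext fun x => by
  simp [eMap, tMap, un_zero_right hS.form.unit]

/-- A centre orthogonal to a rational isotropic vector lies on a rational line. -/
lemma line_of_perp (hsm : Small τ h F₀ H) {v : ι → F} (hv0 : v ≠ 0) {k : F} (hk : k ≠ 0)
    (hX : HasMap H (tMap h k v)) {d : ι → F} (hd : RatV F₀ d) (hdd : h d d = 0) (hd0 : d ≠ 0)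
    (hdv : h d v = 0) : RatLine F₀ v := by
  classical
  have hf := hS.form.unit
  obtain ⟨X, hX, eX⟩ := hX
  have hXd : Units.val X *ᵥ d = d := by rw [eX, tMap, hdv]; simp
  have hrat := hS.rigid hsm hX one_ne_zero hd hdd hd0 (by rw [one_smul, hXd]; exact hd)
  rw [one_smul] at hrat
  obtain ⟨j, hj⟩ : ∃ j, h (Pi.single j 1) v ≠ 0 := by
    by_contra! hall
    exact hv0 (un_fvec_injective hf ((show fvec h v = 0 from funext hall).trans (un_fvec_zero hf).symm))
  refine ⟨k * h (Pi.single j 1) v, mul_ne_zero hk hj, ?_⟩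
  have := (hrat.sub ratM_one).mulVec (ratV_single j F₀.one_mem)
  rwa [Matrix.sub_mulVec, Matrix.one_mulVec, eX, tMap, add_sub_cancel_left] at this

section odd

variable {r : ℕ}

/-- The squared length of the pairing with a centre is rational. -/
lemma norm_mem [Fintype F] (hsm : Small τ h F₀ H) (hr : r.Prime) (hr2 : r ≠ 2)
    (hcard : Fintype.card F = Nat.card F₀ ^ r) (h2 : (2 : F) ≠ 0) {k : F} (hkF : k ∈ F₀) (hk : k ≠ 0)
    (hkτ : τ k = -k) {v : ι → F} (hvv : h v v = 0) (hX : HasMap H (eMap h v 0 k)) (hζ : ζ = 1) {d : ι → F}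
    (hd : RatV F₀ d) (hdd : h d d = 0) : h d v * τ (h d v) ∈ F₀ := by
  classical
  have hR := hS.form
  have hf := hR.unit
  subst hζ
  set a := h d v with ha
  by_cases ha0 : a = 0
  · rw [ha0, zero_mul]; exact F₀.zero_mem
  have hτa : τ a ≠ 0 := by simpa using ha0
  have hd0 : d ≠ 0 := fun e => ha0 (by rw [ha, e, un_zero_left hf])
  set lam := k * k * (a * τ a) with hlam
  have hlam0 : lam ≠ 0 := mul_ne_zero (mul_ne_zero hk hk) (mul_ne_zero ha0 hτa)
  suffices hl : lam ∈ F₀ by
    have := F₀.mul_mem (F₀.inv_mem (F₀.mul_mem hkF hkF)) hl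
    rwa [hlam, inv_mul_cancel_left₀ (mul_ne_zero hk hk)] at this
  have hTd : HasMap H (eMap h d 0 k) := by
    have := hS.eMap_mem hd hdd (v := 0) ratV_zero (un_zero_left hf d) hkF (by rw [one_mul, hkτ, un_zero_left hf]; ring)
    rwa [smul_zero, one_mul] at this
  let K : Subfield F := Subfield.closure {lam}
  let l : K := ⟨lam, Subfield.subset_closure rfl⟩
  have hl0 : l ≠ 0 := fun e => hlam0 (congrArg Subtype.val e)
  have hlgen : Subfield.closure ({l} : Set K) = ⊤ := by
    refine eq_top_iff.2 fun x _ => ?_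
    have h1 : (Subfield.closure ({l} : Set K)).map K.subtype = K := by
      rw [RingHom.map_field_closure, Set.image_singleton]
      rfl
    obtain ⟨y, hy, hyx⟩ := (h1.symm ▸ x.2 : (x : F) ∈ (Subfield.closure ({l} : Set K)).map K.subtype)
    rwa [← Subtype.ext (hyx : (y : F) = x)]
  obtain ⟨p, hp⟩ := CharP.exists F
  haveI : Fact p.Prime := ⟨CharP.char_is_prime F p⟩
  haveI : CharP K p := (RingHom.charP_iff_charP K.subtype p).2 hp
  haveI : Fintype K := Fintype.ofFinite K
  have h2K : (2 : K) ≠ 0 := fun e => h2 (by simpa [map_ofNat] using congrArg K.subtype e)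
  rcases PSL2.Gen.main p h2K l hl0 hlgen with hG | ⟨-, hsq⟩
  swap
  · refine mem_of_mul_self_mem hr hr2 hcard ?_
    rw [← sq, show lam ^ 2 = ((l ^ 2 : K) : F) from rfl, hsq]
    simpa using F₀.neg_mem F₀.one_mem
  -- the action on the plane
  set v' := (k * τ a)⁻¹ • v with hv'
  have hva : h v d = τ a := hf.herm v d
  have e₁ : k * h v' d = 1 := by
    rw [hv', hf.smul_left, hva]; field_simp
  have e₂ : h v' v = 0 := by rw [hv', hf.smul_left, hvv, mul_zero]
  let ρ : Matrix (Fin 2) (Fin 2) K → (ι → F) → ι → F := fun A y =>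
    y + (k * h y d) • ((A 0 0 : F) • v' + (A 1 0 : F) • d - v') + (h y v / a) • ((A 0 1 : F) • v' + (A 1 1 : F) • d - d)
  have ρmul : ∀ A B y, ρ (A * B) y = ρ A (ρ B y) := fun A B y => by
    have c0 : k * h (ρ B y) d = (B 0 0 : F) * (k * h y d) + (B 0 1 : F) * (h y v / a) := by
      simp only [ρ, hf.add_left, hf.smul_left, hR.sub_left, hdd, mul_zero, add_zero, sub_zero]
      linear_combination ((k * h y d) * ((B 0 0 : F) - 1) + (h y v / a) * (B 0 1 : F)) * e₁
    have c1 : h (ρ B y) v / a = (B 1 0 : F) * (k * h y d) + (B 1 1 : F) * (h y v / a) := by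
      simp only [ρ, hf.add_left, hf.smul_left, hR.sub_left, e₂, ← ha, mul_zero, add_zero, zero_add, sub_zero]
      field_simp
      ring
    show y + _ + _ = ρ B y + _ + _
    rw [c0, c1]
    simp only [ρ, Matrix.mul_apply, Fin.sum_univ_two]
    push_cast
    module
  have ρone : ∀ y, ρ 1 y = y := fun y => by simp [ρ]
  have hall : ∀ A ∈ Subgroup.closure (PSL2.Gen.gens l), HasMap H (ρ A.1) := by
    intro A hA
    induction hA using Subgroup.closure_induction with
    | mem A hA =>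
      rcases hA with hA | hA
      · refine hTd.congr fun y => ?_
        simp [ρ, hA, eMap, un_zero_right hf]
      · refine hX.congr fun y => ?_
        simp [ρ, hA, eMap, un_zero_right hf, hv', smul_smul]
        congr 1
        rw [show (l : F) = lam from rfl, hlam]
        field_simp
    | one => exact hasMap_id.congr fun y => (ρone y).symm
    | mul A B _ _ p q => exact (p.comp q).congr fun y => (ρmul _ _ y).symm
    | inv A _ p =>
      refine HasMap.left_cancel p (hasMap_id.congr fun y => ?_)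
      rw [Function.comp_apply, ← ρmul, ← Matrix.SpecialLinearGroup.coe_mul, mul_inv_cancel,
        Matrix.SpecialLinearGroup.coe_one, ρone]
      rfl
  have hT := hall ⟨!![1, 0; l, 1], by simp [Matrix.det_fin_two]⟩ (hG ▸ Subgroup.mem_top _)
  have hT' : HasMap H (eMap h d 0 (k * lam)) := hT.congr fun y => by
    simp [ρ, eMap, un_zero_right hf, smul_smul]
    congr 1
    show k * h y d * lam = k * lam * h y d
    ring
  obtain ⟨f, P⟩ := hR.exists_hyp hd hdd hd0
  obtain ⟨i, hi⟩ := Function.ne_iff.1 hd0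
  have h5 := hsm d 0 (k * lam) hd hdd hd0 (un_zero_left hf d) (by
    rw [un_zero_left hf, add_zero, hlam]
    simp only [map_mul, hf.involutive, hkτ]
    ring) hT' f P.right i
  simp only [eMap, un_zero_right hf, sub_zero, smul_zero, add_zero, Pi.add_apply, Pi.smul_apply, smul_eq_mul, Pi.zero_apply] at h5
  have h6 := F₀.mul_mem (F₀.sub_mem h5 (P.right i)) (F₀.inv_mem (F₀.mul_mem hkF (hd i)))
  convert h6 using 1
  have hone := P.one
  rw [one_mul] at hone
  have hdi : d i ≠ 0 := hi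
  rw [hone]
  field_simp
  ring

/-- In even characteristic a centre lies on a rational line. -/
lemma even_line [Fintype F] (hsm : Small τ h F₀ H) (hr : r.Prime) (hr2 : r ≠ 2)
    (hcard : Fintype.card F = Nat.card F₀ ^ r) (h2 : (2 : F) = 0) {k : F} (hkF : k ∈ F₀) (hk : k ≠ 0)
    (hkτ : τ k = -k) {v : ι → F} (hv0 : v ≠ 0) (hvv : h v v = 0) (hX : HasMap H (tMap h k v)) (hζ : ζ = 1) : RatLine F₀ v := by
  classical
  have hR := hS.form
  have hf := hR.unit
  obtain ⟨u, hu, huu, hu0⟩ := hR.exists_iso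
  obtain ⟨f, P⟩ := hR.exists_hyp hu huu hu0
  obtain ⟨a, b, ha0, ha, hb, Q⟩ := P.exists_second hR
  subst hζ
  have ratT : ∀ {e : ι → F}, RatV F₀ e → h e e = 0 → HasMap H (tMap h k e) := fun {e} he hee => by
    have := hS.eMap_mem he hee (v := 0) ratV_zero (un_zero_left hf e) hkF (by rw [one_mul, hkτ, un_zero_left hf]; ring)
    rwa [smul_zero, one_mul, hS.eMap_zero] at this
  obtain ⟨X, hX, eX⟩ := hX
  obtain ⟨Tu, hTu, eu⟩ := ratT hu huu
  obtain ⟨Ta, hTa, ea⟩ := ratT ha.mem ha.iso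
  have hua : h u a = 0 := hR.skew0 ha.perpL
  set T := Tu * Ta with hT
  have eT : ∀ y, Units.val T *ᵥ y = y + (k * h y u) • u + (k * h y a) • a := fun y => by
    rw [hT, Units.val_mul, ← Matrix.mulVec_mulVec, ea, eu]
    simp only [tMap, hf.add_left, hf.smul_left, ha.perpL, mul_zero, add_zero]
    module
  have hdouble : ∀ y : ι → F, y + y = 0 := fun y => by
    rw [← two_smul F y, h2, zero_smul]
  have hTT : T * T = 1 := Units.ext (CfsgLib.Geometry.matrix_eq_of_mulVec fun y => by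
    rw [Units.val_mul, ← Matrix.mulVec_mulVec, eT, eT, Units.val_one, Matrix.one_mulVec]
    simp only [hf.add_left, hf.smul_left, ha.perpL, hua, huu, ha.iso, mul_zero, add_zero]
    calc _ = y + ((k * h y u) • u + (k * h y u) • u) + ((k * h y a) • a + (k * h y a) • a) := by abel
      _ = y := by rw [hdouble, hdouble, add_zero, add_zero])
  have hXX : X * X = 1 := Units.ext (CfsgLib.Geometry.matrix_eq_of_mulVec fun y => by
    rw [Units.val_mul, ← Matrix.mulVec_mulVec, eX, eX, Units.val_one, Matrix.one_mulVec]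
    simp only [tMap, hf.add_left, hf.smul_left, hvv, mul_zero, add_zero]
    calc _ = y + ((k * h y v) • v + (k * h y v) • v) := by abel
      _ = y := by rw [hdouble, add_zero])
  rcases exists_central_or_conj hXX hTT with ⟨w, hw⟩ | ⟨z, w, m, hz2, hz1, hxz, htz, hwdef, hzw, -⟩
  · exfalso
    set v' := Units.val w *ᵥ v
    have hspan : ∀ y, (k * h y u) • u + (k * h y a) • a ∈ F ∙ v' := fun y => by
      obtain ⟨x, rfl⟩ := mulVec_surj w y
      have h1 : Units.val T *ᵥ (Units.val w *ᵥ x) = Units.val w *ᵥ (Units.val X *ᵥ x) := by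
        rw [← hw, Units.val_mul, Units.val_mul, ← Matrix.mulVec_mulVec, ← Matrix.mulVec_mulVec,
          Matrix.mulVec_mulVec x, ← Units.val_mul, inv_mul_cancel, Units.val_one, Matrix.one_mulVec]
      rw [eT, eX, tMap, Matrix.mulVec_add, Matrix.mulVec_smul, add_assoc, add_right_inj] at h1
      exact Submodule.mem_span_singleton.2 ⟨_, h1.symm⟩
    have h3 := hspan f
    rw [hR.skew0 ha.perpR, mul_zero, zero_smul, add_zero] at h3
    have h4 := hspan b
    rw [hb.perpL, mul_zero, zero_smul, zero_add] at h4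
    obtain ⟨s₁, hs₁⟩ := Submodule.mem_span_singleton.1
      ((Submodule.smul_mem_iff _ (mul_ne_zero hk P.fu_ne)).1 h3)
    obtain ⟨s₂, hs₂⟩ := Submodule.mem_span_singleton.1
      ((Submodule.smul_mem_iff _ (mul_ne_zero hk Q.fu_ne)).1 h4)
    refine P.notMem_span hR ha0 ha.perpL ha.perpR ?_
    have hs : s₁ ≠ 0 := fun e => hu0 (by rw [← hs₁, e, zero_smul])
    refine Submodule.span_mono (show ({u} : Set (ι → F)) ⊆ Set.range ![u, f] from
      fun y hy => ⟨0, (Set.mem_singleton_iff.1 hy).symm⟩) (Submodule.mem_span_singleton.2 ⟨s₂ / s₁, ?_⟩)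
    rw [← hs₁, ← hs₂, smul_smul, div_mul_cancel₀ _ hs]
  have hzH : z ∈ H := by rw [hzw, hwdef]; exact pow_mem (mul_mem hX (mul_mem hTu hTa)) m
  have hXm : HasMap H (tMap h k v) := ⟨X, hX, eX⟩
  -- the central element is rational
  have hzr : RatM F₀ (Units.val z) := by
    set v' := Units.val z *ᵥ a with hv'
    have hv'0 : v' ≠ 0 := fun e => ha0 (mulVec_inj z (show Units.val z *ᵥ a = Units.val z *ᵥ 0 by
      rw [Matrix.mulVec_zero]; exact e))
    have hT' : HasMap H (tMap h k v') := by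
      have h3 := hS.eMap_conj ((ratT ha.mem ha.iso).congr fun y => by rw [hS.eMap_zero]) hzH (w := 0)
      rwa [Matrix.mulVec_zero, hS.eMap_zero] at h3
    have hfix : Units.val T *ᵥ v' = v' := by
      rw [hv', Matrix.mulVec_mulVec, ← Units.val_mul, htz, Units.val_mul, ← Matrix.mulVec_mulVec, eT, ha.perpL, ha.iso]
      simp
    rw [eT, add_assoc, add_eq_left] at hfix
    have huv : h v' u = 0 := by
      by_contra hne
      refine P.notMem_span hR ha0 ha.perpL ha.perpR ?_
      by_cases hc : h v' a = 0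
      · rw [hc, mul_zero, zero_smul, add_zero, smul_eq_zero] at hfix
        exact absurd (hfix.resolve_right hu0) (mul_ne_zero hk hne)
      · refine Submodule.span_mono (show ({u} : Set (ι → F)) ⊆ Set.range ![u, f] from
          fun y hy => ⟨0, (Set.mem_singleton_iff.1 hy).symm⟩) (Submodule.mem_span_singleton.2
            ⟨-((k * h v' a)⁻¹ * (k * h v' u)), ?_⟩)
        rw [neg_smul, mul_smul, eq_neg_of_add_eq_zero_left hfix, smul_neg, neg_neg, inv_smul_smul₀ (mul_ne_zero hk hc)]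
    obtain ⟨c, hc0, hc⟩ := hS.line_of_perp hsm hv'0 hk hT' hu huu hu0 (hR.skew0 huv)
    have hcz := hS.rigid hsm hzH hc0 ha.mem ha.iso ha0 hc
    have hcc : c * c ∈ F₀ := by
      obtain ⟨i, hi⟩ := Function.ne_iff.1 hu0
      have h4 := (hcz.mul hcz).mulVec hu i
      rw [smul_mul_smul_comm, ← Units.val_mul, hz2, Units.val_one, Matrix.smul_mulVec, Matrix.one_mulVec] at h4
      have h5 := F₀.mul_mem h4 (F₀.inv_mem (hu i))
      rwa [Pi.smul_apply, smul_eq_mul, mul_assoc, mul_inv_cancel₀ (show u i ≠ 0 from hi), mul_one] at h5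
    have h6 := hcz.smul (F₀.inv_mem (mem_of_mul_self_mem hr hr2 hcard hcc))
    rwa [smul_smul, inv_mul_cancel₀ hc0, one_smul] at h6
  have hzi := suH_iso (hS.le hzH)
  have hzz : ∀ y, Units.val z *ᵥ (Units.val z *ᵥ y) = y := fun y => by
    rw [Matrix.mulVec_mulVec, ← Units.val_mul, hz2, Units.val_one, Matrix.one_mulVec]
  obtain ⟨y₀, -, -, hy₀⟩ := hR.exists_iso_ne hv0
  have hy₀' : h y₀ v ≠ 0 := fun e => hy₀ (hR.skew0 e)
  have hcomm : ∀ y, h y v • (Units.val z *ᵥ v) = h (Units.val z *ᵥ y) v • v := fun y => by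
    have h1 : Units.val X *ᵥ (Units.val z *ᵥ y) = Units.val z *ᵥ (Units.val X *ᵥ y) := by
      rw [Matrix.mulVec_mulVec, Matrix.mulVec_mulVec, ← Units.val_mul, ← Units.val_mul, hxz]
    rw [eX, eX, tMap, tMap, Matrix.mulVec_add, Matrix.mulVec_smul, add_right_inj, mul_smul, mul_smul] at h1
    exact (smul_right_injective _ hk h1).symm
  set κ := h (Units.val z *ᵥ y₀) v / h y₀ v with hκ
  have hzv : Units.val z *ᵥ v = κ • v := by
    rw [hκ, div_eq_inv_mul, mul_smul, ← hcomm, inv_smul_smul₀ hy₀']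
  have hκ1 : κ = 1 := by
    have h1 := hzz v
    rw [hzv, Matrix.mulVec_smul, hzv, smul_smul] at h1
    have h3 : κ * κ = 1 := smul_left_injective F hv0 (by simpa using h1)
    exact mul_self_eq_mul_self_iff.1 (h3.trans (mul_one 1).symm) |>.elim id fun e => by
      rw [e, show (-1 : F) = 1 by linear_combination -h2]
  have hperp : ∀ y, h (Units.val z *ᵥ y - y) v = 0 := fun y => by
    have h1 := hcomm y
    rw [hzv, hκ1, one_smul] at h1
    rw [hR.sub_left, ← smul_left_injective F hv0 h1, sub_self]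
  obtain ⟨j, hj⟩ : ∃ j, Units.val z *ᵥ Pi.single j 1 - Pi.single j 1 ≠ 0 := by
    by_contra! hall
    refine hz1 (Units.ext (Matrix.ext fun i j => ?_))
    have := congrFun (hall j) i
    rw [Matrix.mulVec_single_one, Pi.sub_apply, Pi.zero_apply, sub_eq_zero] at this
    rw [Units.val_one, Matrix.one_apply]
    simpa [Pi.single_apply] using this
  have hje : RatV F₀ (Pi.single j 1 : ι → F) := ratV_single j F₀.one_mem
  refine hS.line_of_perp hsm hv0 hk hXm ((hzr.mulVec hje).sub hje) ?_ hj (hperp _)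
  set e := (Pi.single j 1 : ι → F)
  have hsym : h (Units.val z *ᵥ e) e = h e (Units.val z *ᵥ e) := by
    conv_lhs => arg 2; rw [← hzz e]
    rw [hzi]
  rw [hR.sub_left, hR.sub_right, hR.sub_right, hzi, hsym]
  linear_combination (h e e - h e (Units.val z *ᵥ e)) * h2

/-- Odd degree: the image of a rational isotropic vector lies on a rational line. -/
lemma odd_line [Fintype F] (hsm : Small τ h F₀ H) (hr : r.Prime) (hr2 : r ≠ 2)
    (hcard : Fintype.card F = Nat.card F₀ ^ r) (hne : ∃ x ∈ F₀, τ x ≠ x) (hζ : ζ = 1) {g : GL ι F} (hg : g ∈ H)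
    {e : ι → F} (he : RatV F₀ e) (hee : h e e = 0) (he0 : e ≠ 0) : RatLine F₀ (Units.val g *ᵥ e) := by
  classical
  have hR := hS.form
  have hf := hR.unit
  subst hζ
  obtain ⟨ω, hω, hω'⟩ := hne
  set k := ω - τ ω with hkd
  have hkF : k ∈ F₀ := F₀.sub_mem hω (hR.tau_mem _ hω)
  have hk : k ≠ 0 := sub_ne_zero.2 (Ne.symm hω')
  have hkτ : τ k = -k := by rw [hkd, map_sub, hf.involutive]; ring
  set v := Units.val g *ᵥ e with hv
  have hv0 : v ≠ 0 := fun e' => he0 (mulVec_inj g (show Units.val g *ᵥ e = Units.val g *ᵥ 0 by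
    rw [Matrix.mulVec_zero]; exact e'))
  have hvv : h v v = 0 := by rw [hv, suH_iso (hS.le hg)]; exact hee
  have hXe : HasMap H (eMap h v 0 k) := by
    have h1 := hS.eMap_mem he hee (v := 0) ratV_zero (un_zero_left hf e) hkF
      (by rw [one_mul, hkτ, un_zero_left hf]; ring)
    rw [smul_zero, one_mul] at h1
    have h2 := hS.eMap_conj h1 hg
    rwa [Matrix.mulVec_zero] at h2
  have hXm : HasMap H (tMap h k v) := hS.eMap_zero ▸ hXe
  by_cases h2 : (2 : F) = 0
  · exact hS.even_line hsm hr hr2 hcard h2 hkF hk hkτ hv0 hvv hXm rfl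
  by_cases hperp : ∃ d, RatV F₀ d ∧ h d d = 0 ∧ d ≠ 0 ∧ h d v = 0
  · obtain ⟨d, hd, hdd, hd0, hdv⟩ := hperp
    exact hS.line_of_perp hsm hv0 hk hXm hd hdd hd0 hdv
  push Not at hperp
  have hN : ∀ d, RatV F₀ d → h d d = 0 → h d v * τ (h d v) ∈ F₀ := fun d hd hdd =>
    hS.norm_mem hsm hr hr2 hcard h2 hkF hk hkτ hvv hXe rfl hd hdd
  have orth : ∀ {d d' : ι → F}, RatV F₀ d → h d d = 0 → RatV F₀ d' → h d' d' = 0 → h d d' = 0 →
      h d' v * τ (h d v) ∈ F₀ := by
    intro d d' hd hdd hd' hd'd hdd'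
    have comb : ∀ s ∈ F₀, τ s * (h d v * τ (h d' v)) + s * (h d' v * τ (h d v)) ∈ F₀ := fun s hs => by
      have h3 := hN _ (hd.addV (hd'.smul hs))
        (by simp [hf.add_left, un_add_right hf, hf.smul_left, un_smul_right hf, hdd, hd'd, hdd', hR.skew0 hdd'])
      rw [hf.add_left, hf.smul_left, map_add, map_mul] at h3
      convert F₀.sub_mem h3 (F₀.add_mem (hN d hd hdd) (F₀.mul_mem (F₀.mul_mem hs (hR.tau_mem _ hs)) (hN d' hd' hd'd)))
        using 1
      ring
    have h4 := F₀.sub_mem (comb ω hω) (F₀.mul_mem (hR.tau_mem _ hω) (comb 1 F₀.one_mem))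
    rw [map_one, one_mul, one_mul] at h4
    have h5 := F₀.mul_mem (F₀.inv_mem hkF) h4
    convert h5 using 1
    rw [hkd] at hk ⊢
    field_simp
    ring
  obtain ⟨d₀, hd₀, hd₀d, hd₀0⟩ := hR.exists_iso
  set a₀ := h d₀ v with ha₀
  have ha₀0 : a₀ ≠ 0 := hperp d₀ hd₀ hd₀d hd₀0
  have ratio : ∀ {d d' : ι → F}, RatV F₀ d → h d d = 0 → d ≠ 0 → RatV F₀ d' → h d' d' = 0 → h d d' = 0 →
      h d' v / h d v ∈ F₀ := by
    intro d d' hd hdd hd0 hd' hd'd hdd'
    have := F₀.div_mem (orth hd hdd hd' hd'd hdd') (hN d hd hdd)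
    rwa [mul_div_mul_right _ _ (by simpa using hperp d hd hdd hd0)] at this
  have all : ∀ d, RatV F₀ d → h d d = 0 → h d v / a₀ ∈ F₀ := fun d hd hdd => by
    by_cases hd0 : h d₀ d = 0
    · exact ratio hd₀ hd₀d hd₀0 hd hdd hd0
    obtain ⟨m, hm, hm0, hmm, hmp⟩ := hR.iso_two ![d₀, d] (by intro i; fin_cases i; exacts [hd₀, hd])
    have h3 := F₀.mul_mem (ratio hm hmm hm0 hd hdd (hmp 1)) (ratio hd₀ hd₀d hd₀0 hm hmm (hR.skew0 (hmp 0)))
    rwa [div_mul_div_cancel₀ (hperp m hm hmm hm0)] at h3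
  refine ⟨(τ a₀)⁻¹, inv_ne_zero (by simpa using ha₀0), hR.ratV_of_iso fun d hd hdd => ?_⟩
  rw [un_smul_right hf, map_inv₀, hf.involutive, one_mul, inv_mul_eq_div]
  exact all d hd hdd

end odd

end Over

end CfsgLib.Maximal.SUFour.Sub
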