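import Mathlib
import Cfsg.Agent.Lib.Maximal.SUFour.SixFourLines

/-!
An irrational Siegel element in dimension four gives all unitary transvections.
-/

set_option autoImplicit false
set_option linter.unusedSectionVars false
set_option linter.unusedSimpArgs false
set_option linter.style.haveILetI false

namespace CfsgLib.Maximal.SUFour.Sub

open scoped Matrix

variable {F : Type*} [Field F] [Fintype F] {τ : F ≃+* F} {h : (Fin 4 → F) → (Fin 4 → F) → F} {F₀ : Subfield F}
  {H : Subgroup (Matrix.GeneralLinearGroup (Fin 4) F)}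

local notation "VV" => (Fin 4 → F)
local notation "GG" => Matrix.GeneralLinearGroup (Fin 4) F

/-- Two orthogonal rational hyperbolic pairs. -/
structure Quad (h : (Fin 4 → F) → (Fin 4 → F) → F) (F₀ : Subfield F) (u f a b : Fin 4 → F) : Prop where
  hyp : Hyp h F₀ 1 u f
  pair : Hyp h F₀ 1 a b
  au : h a u = 0
  af : h a f = 0
  bu : h b u = 0
  bf : h b f = 0

namespace Quad

variable {u f a b : Fin 4 → F} (Q : Quad h F₀ u f a b) (hR : Rat6 τ h F₀ 1)
include Q

lemma fu : h f u = 1 := by simpa using Q.hyp.one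

lemma ba : h b a = 1 := by simpa using Q.pair.one

include hR

lemma uf : h u f = 1 := by rw [hR.unit.herm, Q.fu, map_one]

lemma ab : h a b = 1 := by rw [hR.unit.herm, Q.ba, map_one]

lemma ua : h u a = 0 := hR.skew0 Q.au

lemma ub : h u b = 0 := hR.skew0 Q.bu

lemma fa : h f a = 0 := hR.skew0 Q.af

lemma fb : h f b = 0 := hR.skew0 Q.bf

lemma symm : Quad h F₀ u f b a :=
  ⟨Q.hyp, ⟨Q.pair.right, Q.pair.left, Q.pair.isoR, Q.pair.isoL, by rw [one_mul, Q.ab hR]⟩, Q.bu, Q.bf, Q.au, Q.af⟩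

lemma flip : Quad h F₀ a b u f := ⟨Q.pair, Q.hyp, Q.ua hR, Q.ub hR, Q.fa hR, Q.fb hR⟩

lemma swap : Quad h F₀ f u a b :=
  ⟨⟨Q.hyp.right, Q.hyp.left, Q.hyp.isoR, Q.hyp.isoL, by rw [one_mul, Q.uf hR]⟩, Q.pair, Q.af, Q.au, Q.bf, Q.bu⟩

/-- Vectors orthogonal to the first pair lie in the plane of the second one. -/
lemma expand {w : VV} (hwu : h w u = 0) (hwf : h w f = 0) : w = h w b • a + h w a • b := by
  have hf := hR.unit
  have gram : ∀ p : Fin 4 → F,
      h (p 0 • u + p 1 • f + p 2 • a + p 3 • b) f = p 0 ∧ h (p 0 • u + p 1 • f + p 2 • a + p 3 • b) u = p 1 ∧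
      h (p 0 • u + p 1 • f + p 2 • a + p 3 • b) b = p 2 ∧ h (p 0 • u + p 1 • f + p 2 • a + p 3 • b) a = p 3 := fun p => by
    simp [hf.add_left, hf.smul_left, Q.hyp.isoL, Q.hyp.isoR, Q.pair.isoL, Q.pair.isoR, Q.uf hR, Q.fu, Q.ab hR, Q.ba,
      Q.au, Q.af, Q.bu, Q.bf, Q.ua hR, Q.ub hR, Q.fa hR, Q.fb hR]
  have hli : LinearIndependent F ![u, f, a, b] := by
    rw [Fintype.linearIndependent_iff]
    intro g hg
    rw [Fin.sum_univ_four] at hg
    simp only [Matrix.cons_val_zero, Matrix.cons_val_one, Matrix.cons_val] at hg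
    obtain ⟨h1, h2, h3, h4⟩ := gram g
    rw [hg, un_zero_left hf] at h1 h2 h3 h4
    intro i
    fin_cases i
    exacts [h1.symm, h2.symm, h3.symm, h4.symm]
  have htop := hli.span_eq_top_of_card_eq_finrank' (by simp)
  obtain ⟨g, hg⟩ := (Submodule.mem_span_range_iff_exists_fun F).1 (htop.symm ▸ Submodule.mem_top (x := w))
  rw [Fin.sum_univ_four] at hg
  simp only [Matrix.cons_val_zero, Matrix.cons_val_one, Matrix.cons_val] at hg
  obtain ⟨h1, h2, h3, h4⟩ := gram g
  rw [hg] at h1 h2 h3 h4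
  rw [h3, h4]
  rw [hwf] at h1
  rw [hwu] at h2
  rw [← hg, ← h1, ← h2, zero_smul, zero_smul, zero_add, zero_add]

end Quad

namespace Over

variable (hS : Over τ h F₀ 1 H)
include hS

/-- A pair of orthogonal independent rational isotropic vectors extends to two pairs. -/
lemma quad_of_perp {x d : VV} (hx : RatV F₀ x) (hxx : h x x = 0) (hd : RatV F₀ d) (hdd : h d d = 0) (hd0 : d ≠ 0)
    (hdx : h d x = 0) (hind : x ∉ Submodule.span F ({d} : Set VV)) : ∃ f b, Quad h F₀ x f d b := by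
  have hR := hS.form
  obtain ⟨f, P, hfp⟩ := hR.exists_partner_perp (fun _ : Fin 1 => d) (fun _ => hd) hx hxx (fun _ => hR.skew0 hdx)
    (by rw [Set.range_const]; exact hind)
  have hdf : h d f = 0 := hR.skew0 (hfp 0)
  obtain ⟨b, Pb, hbp⟩ := hR.exists_partner_perp ![x, f] (by intro i; fin_cases i; exacts [hx, P.right]) hd hdd
    (by intro i; fin_cases i; exacts [hdx, hdf]) (P.notMem_span hR hd0 hdx hdf)
  exact ⟨f, b, P, Pb, hdx, hdf, hbp 0, hbp 1⟩

lemma exists_quad {e : VV} (he : RatV F₀ e) (hee : h e e = 0) (he0 : e ≠ 0) : ∃ f a b, Quad h F₀ e f a b := by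
  obtain ⟨f, P⟩ := hS.form.exists_hyp he hee he0
  obtain ⟨a, b, -, ha, hb, Q⟩ := P.exists_second hS.form
  exact ⟨f, a, b, P, Q, ha.perpL, ha.perpR, hb.perpL, hb.perpR⟩

lemma tMap_conj {u : VV} {k : F} (hm : HasMap H (tMap h k u)) {g : GG} (hg : g ∈ H) :
    HasMap H (tMap h k (Units.val g *ᵥ u)) := by
  have h1 := hS.eMap_conj (w := 0) (hS.eMap_zero ▸ hm) hg
  rwa [Matrix.mulVec_zero, hS.eMap_zero] at h1

variable {u f a b : Fin 4 → F} (Q : Quad h F₀ u f a b)
include Q

/-- A transvection moves to multiples of orthogonal rational vectors. -/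
lemma q_move {k : F} {y : F} (hy : y ∈ F₀) (hm : HasMap H (tMap h k u)) :
    HasMap H (tMap h (k * (y * τ y)) a) := by
  have hR := hS.form
  have hf := hR.unit
  by_cases hy0 : y = 0
  · exact hasMap_id.congr fun x => by simp [tMap, hy0]
  have step : ∀ {p q v : VV}, RatV F₀ q → h q q = 0 → RatV F₀ v → h v q = 0 → h v v = 0 →
      HasMap H (tMap h k p) → HasMap H (tMap h k (p + (-h p v) • q + h p q • v)) := by
    intro p q v hq hqq hv hvq hvv hp
    obtain ⟨g, hg, eg⟩ := hS.eMap_mem hq hqq hv hvq F₀.zero_mem (by rw [hvv]; simp)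
    have h3 := hS.tMap_conj hp hg
    rw [eg, eMap, one_smul, mul_zero, zero_mul, zero_sub] at h3
    exact h3
  have h1 := step Q.hyp.right Q.hyp.isoR (Q.pair.left.smul hy) (by rw [hf.smul_left, Q.af, mul_zero])
    (by rw [hf.smul_left, un_smul_right hf, Q.pair.isoL]; simp) hm
  rw [un_smul_right hf, Q.ua hR, mul_zero, neg_zero, zero_smul, add_zero, Q.uf hR, one_smul] at h1
  have h2 := step Q.pair.right Q.pair.isoR (Q.hyp.left.smul (F₀.neg_mem (F₀.inv_mem hy)))
    (by rw [hf.smul_left, Q.ub hR, mul_zero]) (by rw [hf.smul_left, un_smul_right hf, Q.hyp.isoL]; simp) h1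
  rw [un_smul_right hf, hf.add_left, hf.add_left, hf.smul_left, hf.smul_left, Q.hyp.isoL, Q.au, Q.ub hR, Q.ab hR,
    mul_zero, add_zero, mul_zero, neg_zero, zero_smul, add_zero, zero_add, mul_one, smul_smul, mul_neg,
    mul_inv_cancel₀ hy0, neg_one_smul, show u + y • a + -u = y • a by abel] at h2
  exact h2.congr fun x => by simp only [tMap, un_smul_right hf]; module

/-- A transvection gives short elements. -/
lemma short_step {k : F} (hk : τ k = -k) {y : F} (hy : y ∈ F₀) (hm : HasMap H (tMap h k u)) :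
    HasMap H (eMap h u ((k * y) • b) 0) := by
  have hR := hS.form
  have hf := hR.unit
  obtain ⟨g, hg, eg⟩ : HasMap H (tMap h k b) := by simpa using hS.q_move (Q.symm hR) F₀.one_mem hm
  have hgu : Units.val g *ᵥ u = u := by rw [eg, tMap, Q.ub hR]; simp
  have hyu : h (y • a) u = 0 := by rw [hf.smul_left, Q.au, mul_zero]
  have hyy : h (y • a) (y • a) = 0 := by rw [hf.smul_left, un_smul_right hf, Q.pair.isoL]; simp
  have hya : HasMap H (eMap h u (y • a) 0) := by
    have := hS.eMap_mem Q.hyp.left Q.hyp.isoL (Q.pair.left.smul hy) hyu F₀.zero_mem (by rw [hyy]; simp)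
    rwa [one_smul, one_mul] at this
  have h1 := hS.eMap_diff Q.hyp.isoL hyu (by rw [hyy]; simp) hya hg hgu
  have e1 : Units.val g *ᵥ (y • a) - y • a = (k * y) • b := by
    rw [eg, tMap, add_sub_cancel_left, hf.smul_left, Q.ab hR, mul_one]
  rw [e1, hf.smul_left, un_smul_right hf, Q.ab hR, mul_one, map_mul, hk] at h1
  have h2 : HasMap H (eMap h u 0 (k * (y * τ y))) := by
    rw [hS.eMap_zero]
    simpa using hS.q_move (Q.flip hR) F₀.one_mem (hS.q_move Q hy hm)
  have h3 := hS.eMap_add Q.hyp.isoL (by rw [hf.smul_left, Q.bu, mul_zero]) (un_zero_left hf u) h1 h2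
  rw [add_zero, un_zero_left hf, sub_zero] at h3
  convert h3 using 2
  ring

/-- The commutator of two short elements. -/
lemma comm {μ ν c c' : F} (hc : τ c = -c) (hc' : τ c' = -c') (h1 : HasMap H (eMap h u (μ • a) c))
    (h2 : HasMap H (eMap h u (ν • b) c')) : HasMap H (tMap h (μ * τ ν - ν * τ μ) u) := by
  have hR := hS.form
  have hf := hR.unit
  have hA : h (μ • a) u = 0 := by rw [hf.smul_left, Q.au, mul_zero]
  have hB : h (ν • b) u = 0 := by rw [hf.smul_left, Q.bu, mul_zero]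
  have hW : h (ν • b + μ • a) u = 0 := by rw [hf.add_left, hA, hB, add_zero]
  have h3 := hS.eMap_add Q.hyp.isoL hA hB h1 h2
  have h4 := hS.eMap_add Q.hyp.isoL hB hA h2 h1
  have h5 := hS.eMap_neg Q.hyp.isoL hW (by
    simp only [hf.add_left, un_add_right hf, hf.smul_left, un_smul_right hf, Q.pair.isoL, Q.pair.isoR, Q.ab hR,
      Q.ba, map_add, map_sub, map_mul, map_one, hf.involutive, hc, hc']
    ring) h4
  have hN : h (-(ν • b + μ • a)) u = 0 := by rw [← neg_one_smul F (_ + _), hf.smul_left, hW, mul_zero]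
  have h6 := hS.eMap_add Q.hyp.isoL (by rw [hf.add_left, hA, hB, add_zero]) hN h3 h5
  rw [show μ • a + ν • b + -(ν • b + μ • a) = 0 by abel, hS.eMap_zero] at h6
  convert h6 using 2
  simp only [← neg_one_smul F (ν • b + μ • a), hf.add_left, un_add_right hf, hf.smul_left, un_smul_right hf,
    Q.pair.isoL, Q.pair.isoR, Q.ab hR, Q.ba, map_add, map_sub, map_mul, map_one, hf.involutive, hc, hc']
  ring

/-- An irrational transvection gives all short elements and all transvections at the centre. -/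
lemma core {r : ℕ} (hr : r.Prime) (hcard : Fintype.card F = Nat.card F₀ ^ r) {ω : F} (hω : ω ∈ F₀)
    (hω' : τ ω ≠ ω) {c₂ : F} (hc₂ : τ c₂ = -c₂) (hc₂n : c₂ ∉ F₀) (hm : HasMap H (tMap h c₂ u)) :
    (∀ k, τ k = -k → HasMap H (tMap h k u)) ∧ (∀ μ : F, HasMap H (eMap h u (μ • a) 0)) ∧
      ∀ μ : F, HasMap H (eMap h u (μ • b) 0) := by
  classical
  haveI : Fintype F₀ := Fintype.ofFinite _
  have hR := hS.form
  have hf := hR.unit
  set k₀ := ω - τ ω with hk₀d
  have hk₀F : k₀ ∈ F₀ := F₀.sub_mem hω (hR.tau_mem _ hω)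
  have hk₀ : k₀ ≠ 0 := sub_ne_zero.2 (Ne.symm hω')
  have hk₀τ : τ k₀ = -k₀ := by rw [hk₀d, map_sub, hf.involutive]; ring
  have hm₀ : HasMap H (tMap h k₀ u) := by
    have h1 := hS.eMap_mem Q.hyp.left Q.hyp.isoL ratV_zero (un_zero_left hf u) hk₀F
      (by rw [one_mul, hk₀τ, un_zero_left hf]; ring)
    rwa [smul_zero, one_mul, hS.eMap_zero] at h1
  let G : Set F := {g | τ g = g ∧ HasMap H (tMap h (k₀ * g) u)}
  have G1 : (1 : F) ∈ G := ⟨map_one _, by rwa [mul_one]⟩
  have sk : ∀ {g}, g ∈ G → τ (k₀ * g) = -(k₀ * g) := fun {g} hg => by rw [map_mul, hk₀τ, hg.1]; ring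
  have Gmul : ∀ {g g'}, g ∈ G → g' ∈ G → g * g' ∈ G := by
    intro g g' hg hg'
    refine ⟨by rw [map_mul, hg.1, hg'.1], ?_⟩
    have hy : ω / (k₀ * k₀) ∈ F₀ := F₀.div_mem hω (F₀.mul_mem hk₀F hk₀F)
    have h1 := hS.short_step (Q.symm hR) (sk hg) hy hg.2
    have h2 := hS.short_step Q (sk hg') F₀.one_mem hg'.2
    have h3 := hS.comm Q (by simp) (by simp) h1 h2
    have h4 := hS.eMap_neg Q.hyp.isoL (un_zero_left hf u) (by
      rw [un_zero_left hf]; simp only [map_sub, map_mul, map_add, hf.involutive]; ring) (hS.eMap_zero.symm ▸ h3)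
    rw [neg_zero, hS.eMap_zero] at h4
    convert h4 using 2
    simp only [map_sub, map_mul, map_div₀, hk₀τ, hg.1, hg'.1, map_one, hf.involutive, map_neg]
    field_simp
    rw [hk₀d]
    ring
  let L : Submodule F₀ F := Submodule.span F₀ G
  have L1 : (1 : F) ∈ L := Submodule.subset_span G1
  have Lmul : ∀ {x y}, x ∈ L → y ∈ L → x * y ∈ L := fun {x y} hx hy => by
    induction hx using Submodule.span_induction with
    | mem g hg =>
      induction hy using Submodule.span_induction with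
      | mem g' hg' => exact Submodule.subset_span (Gmul hg hg')
      | zero => rw [mul_zero]; exact zero_mem _
      | add p q _ _ hp hq => rw [mul_add]; exact add_mem hp hq
      | smul s p _ hp => rw [mul_smul_comm]; exact Submodule.smul_mem _ s hp
    | zero => rw [zero_mul]; exact zero_mem _
    | add p q _ _ hp hq => rw [add_mul]; exact add_mem hp hq
    | smul s p _ hp => rw [smul_mul_assoc]; exact Submodule.smul_mem _ s hp
  let B : Subalgebra F₀ F :=
    { carrier := L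
      one_mem' := L1
      zero_mem' := L.zero_mem
      add_mem' := L.add_mem
      mul_mem' := Lmul
      algebraMap_mem' := fun s => by
        have := L.smul_mem s L1
        rwa [Algebra.smul_def, mul_one] at this }
  have hfr : Module.finrank F₀ F = r := by
    have h1 := Module.card_eq_pow_finrank (K := F₀) (V := F)
    rw [hcard, Nat.card_eq_fintype_card] at h1
    exact (Nat.pow_right_injective Fintype.one_lt_card h1).symm
  haveI := Subalgebra.isSimpleOrder_of_finrank_prime F₀ F (hfr ▸ hr)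
  have hall : ∀ x : F, x ∈ L := by
    rcases eq_bot_or_eq_top B with hB | hB
    · have hmem : c₂ / k₀ ∈ G := ⟨by rw [map_div₀, hc₂, hk₀τ, neg_div_neg_eq], by rwa [mul_div_cancel₀ _ hk₀]⟩
      obtain ⟨x, hx⟩ := Algebra.mem_bot.1 (hB ▸ (Submodule.subset_span hmem : c₂ / k₀ ∈ B) :
        c₂ / k₀ ∈ (⊥ : Subalgebra F₀ F))
      refine absurd ?_ hc₂n
      have h1 := F₀.mul_mem hk₀F x.2
      rwa [show (x : F) = c₂ / k₀ from hx, mul_div_cancel₀ _ hk₀] at h1
    · exact fun x => (hB ▸ Algebra.mem_top : x ∈ B)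
  have hsum : ∀ {v : VV}, h v v = 0 → h v u = 0 → ∀ {p q : F}, HasMap H (eMap h u (p • v) 0) →
      HasMap H (eMap h u (q • v) 0) → HasMap H (eMap h u ((p + q) • v) 0) := fun {v} hvv hvu {p q} hp hq => by
    have h1 := hS.eMap_add Q.hyp.isoL (by rw [hf.smul_left, hvu, mul_zero]) (by rw [hf.smul_left, hvu, mul_zero]) hp hq
    rw [hf.smul_left, un_smul_right hf, hvv, ← add_smul] at h1
    simpa using h1
  have shorts : ∀ x ∈ L, ∀ y ∈ F₀,
      HasMap H (eMap h u ((k₀ * x * y) • a) 0) ∧ HasMap H (eMap h u ((k₀ * x * y) • b) 0) := by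
    intro x hx
    induction hx using Submodule.span_induction with
    | mem g hg => exact fun y hy => ⟨hS.short_step (Q.symm hR) (sk hg) hy hg.2, hS.short_step Q (sk hg) hy hg.2⟩
    | zero =>
      intro y hy
      have h0 : HasMap H (eMap h u (0 : VV) 0) := hasMap_id.congr fun x => by simp [eMap, un_zero_right hf]
      simp only [mul_zero, zero_mul, zero_smul]
      exact ⟨h0, h0⟩
    | add p q _ _ hp hq =>
      intro y hy
      rw [mul_add, add_mul]
      exact ⟨hsum Q.pair.isoL Q.au (hp y hy).1 (hq y hy).1, hsum Q.pair.isoR Q.bu (hp y hy).2 (hq y hy).2⟩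
    | smul s p _ hp =>
      intro y hy
      rw [Subfield.smul_def, smul_eq_mul, show k₀ * ((s : F) * p) * y = k₀ * p * ((s : F) * y) by ring]
      exact hp _ (F₀.mul_mem s.2 hy)
  have sa : ∀ μ, HasMap H (eMap h u (μ • a) 0) ∧ HasMap H (eMap h u (μ • b) 0) := fun μ => by
    have := shorts (μ / k₀) (hall _) 1 F₀.one_mem
    rwa [mul_one, mul_div_cancel₀ _ hk₀] at this
  refine ⟨fun k hk => ?_, fun μ => (sa μ).1, fun μ => (sa μ).2⟩
  obtain ⟨u₀, hu₀⟩ : ∃ u : F, u + τ u ≠ 0 := by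
    by_contra hcon
    push Not at hcon
    refine hf.ne_refl (RingEquiv.ext fun x => ?_)
    have h1 := hcon 1
    rw [map_one] at h1
    show τ x = x
    linear_combination hcon x - x * h1
  have h1 := hS.comm Q (c := 0) (c' := 0) (by simp) (by simp) (sa (k * u₀ / (u₀ + τ u₀))).1 (sa 1).2
  convert h1 using 2
  rw [map_one, mul_one, one_mul, map_div₀, map_mul, hk, map_add, hf.involutive, add_comm (τ u₀)]
  field_simp
  ring

/-- An irrational transvection gives all Siegel elements at the centre. -/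
lemma full_siegel {r : ℕ} (hr : r.Prime) (hcard : Fintype.card F = Nat.card F₀ ^ r) {ω : F} (hω : ω ∈ F₀)
    (hω' : τ ω ≠ ω) {c₂ : F} (hc₂ : τ c₂ = -c₂) (hc₂n : c₂ ∉ F₀) (hm : HasMap H (tMap h c₂ u))
    {w : VV} (hwu : h w u = 0) (hwf : h w f = 0) {c : F} (hc : c + τ c + h w w = 0) :
    HasMap H (eMap h u w c) := by
  have hR := hS.form
  have hf := hR.unit
  obtain ⟨long, sa, sb⟩ := hS.core Q hr hcard hω hω' hc₂ hc₂n hm
  have e := Q.expand hR hwu hwf
  set μ := h w b
  set ν := h w a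
  have hA : h (μ • a) u = 0 := by rw [hf.smul_left, Q.au, mul_zero]
  have hB : h (ν • b) u = 0 := by rw [hf.smul_left, Q.bu, mul_zero]
  have h1 := hS.eMap_add Q.hyp.isoL hA hB (sa μ) (sb ν)
  set c₁ := 0 + 0 - h (ν • b) (μ • a) with hc₁
  have h2 := hS.eMap_add Q.hyp.isoL (by rw [hf.add_left, hA, hB, add_zero]) (un_zero_left hf u) h1
    (hS.eMap_zero.symm ▸ long (c - c₁) (by
      rw [e] at hc
      simp only [hc₁, hf.add_left, un_add_right hf, hf.smul_left, un_smul_right hf, Q.pair.isoL, Q.pair.isoR,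
        Q.ab hR, Q.ba, map_sub, map_mul, map_add, map_zero, map_one, hf.involutive] at hc ⊢
      linear_combination hc))
  rw [add_zero, un_zero_left hf, sub_zero, add_sub_cancel] at h2
  rwa [e]

omit Q

/-- A non-rational Siegel element gives an irrational transvection. -/
lemma exists_irr {ω : F} (hω : ω ∈ F₀) (hω' : τ ω ≠ ω) (hbig : ¬ Small τ h F₀ H) :
    ∃ u f a b, ∃ k : F, Quad h F₀ u f a b ∧ τ k = -k ∧ k ∉ F₀ ∧ HasMap H (tMap h k u) := by
  classical
  have hR := hS.form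
  have hf := hR.unit
  set k₀ := ω - τ ω with hk₀d
  have hk₀F : k₀ ∈ F₀ := F₀.sub_mem hω (hR.tau_mem _ hω)
  have hk₀ : k₀ ≠ 0 := sub_ne_zero.2 (Ne.symm hω')
  have hk₀τ : τ k₀ = -k₀ := by rw [hk₀d, map_sub, hf.involutive]; ring
  unfold Small at hbig
  push Not at hbig
  obtain ⟨u, w, c, hu, huu, hu0, hw, hc, hm, x, hx, hxn⟩ := hbig
  obtain ⟨f, a, b, Q⟩ := hS.exists_quad hu huu hu0
  set s := h w f with hs
  set w₁ := w - s • u with hw₁
  set c₁ := c + s - τ s with hc₁
  have e₁ : ∀ y, eMap h u w c y = eMap h u w₁ c₁ y := fun y => by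
    rw [show w = w₁ + s • u by rw [hw₁, sub_add_cancel], hR.eMap_shift]
  have hm₁ : HasMap H (eMap h u w₁ c₁) := hm.congr e₁
  have hw₁u : h w₁ u = 0 := by rw [hw₁, hR.sub_smul_left, hw, huu, mul_zero, sub_zero]
  have hw₁f : h w₁ f = 0 := by rw [hw₁, hR.sub_smul_left, Q.uf hR, mul_one, sub_self]
  have hc₁v : c₁ + τ c₁ + h w₁ w₁ = 0 := by
    simp only [hw₁, hR.sub_smul_left, hR.sub_right, un_smul_right hf, huu, hR.skew0 hw, hw, mul_zero, sub_zero]
    rw [hc₁, map_sub, map_add, hf.involutive]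
    linear_combination hc
  have irr : ∀ {a b : VV}, Quad h F₀ u f a b → h w₁ b ∉ F₀ →
      ∃ k : F, τ k = -k ∧ k ∉ F₀ ∧ HasMap H (tMap h k u) := by
    intro a b Q hα
    obtain ⟨g, hg, eg⟩ : HasMap H (tMap h k₀ b) := by
      have h1 := hS.eMap_mem Q.pair.right Q.pair.isoR ratV_zero (un_zero_left hf b) hk₀F
        (by rw [one_mul, hk₀τ, un_zero_left hf]; ring)
      rwa [smul_zero, one_mul, hS.eMap_zero] at h1
    have hgu : Units.val g *ᵥ u = u := by rw [eg, tMap, Q.ub hR]; simp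
    have h1 := hS.eMap_diff huu hw₁u hc₁v hm₁ hg hgu
    rw [eg, tMap, add_sub_cancel_left] at h1
    set γ := k₀ * h w₁ b with hγ
    have hγn : γ ∉ F₀ := fun hmem => hα (by
      have := F₀.mul_mem (F₀.inv_mem hk₀F) hmem
      rwa [hγ, inv_mul_cancel_left₀ hk₀] at this)
    set c' := h w₁ (γ • b) with hc'
    have hc'τ : τ c' = -c' := by
      rw [hc', un_smul_right hf, hγ]
      simp only [map_mul, map_neg, hf.involutive, hk₀τ]
      ring
    have long : ∀ y ∈ F₀, HasMap H (tMap h (y * τ γ - γ * τ y) u) := fun y hy => by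
      refine hS.comm Q (c := 0) (by simp) hc'τ ?_ h1
      have := hS.eMap_mem hu huu (Q.pair.left.smul hy) (by rw [hf.smul_left, Q.au, mul_zero]) F₀.zero_mem
        (by rw [hf.smul_left, un_smul_right hf, Q.pair.isoL]; simp)
      rwa [one_smul, one_mul] at this
    have skew : ∀ y, τ (y * τ γ - γ * τ y) = -(y * τ γ - γ * τ y) := fun y => by
      simp only [map_sub, map_mul, hf.involutive]; ring
    by_contra hcon
    push Not at hcon
    have h2 : 1 * τ γ - γ * τ 1 ∈ F₀ := by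
      by_contra hne; exact hcon _ (skew 1) hne (long 1 F₀.one_mem)
    have h3 : ω * τ γ - γ * τ ω ∈ F₀ := by
      by_contra hne; exact hcon _ (skew ω) hne (long ω hω)
    refine hγn ?_
    have h4 := F₀.div_mem (F₀.sub_mem h3 (F₀.mul_mem hω h2)) hk₀F
    convert h4 using 1
    rw [map_one, eq_div_iff hk₀, hk₀d]
    ring
  by_cases hα : h w₁ b ∈ F₀
  swap
  · obtain ⟨k, hk⟩ := irr Q hα; exact ⟨u, f, a, b, k, Q, hk⟩
  by_cases hβ : h w₁ a ∈ F₀
  swap
  · obtain ⟨k, hk⟩ := irr (Q.symm hR) hβ; exact ⟨u, f, a, b, k, Q, hk⟩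
  have hwr : RatV F₀ w₁ := by
    rw [Q.expand hR hw₁u hw₁f]
    exact (Q.pair.left.smul hα).addV (Q.pair.right.smul hβ)
  obtain ⟨t, ht, htt⟩ := hR.trace (-w₁) (by rw [← neg_one_smul F w₁]; exact hwr.smul (F₀.neg_mem F₀.one_mem))
  have hnu : h (-w₁) u = 0 := by rw [← neg_one_smul F w₁, hf.smul_left, hw₁u, mul_zero]
  have h2 := hS.eMap_add huu hw₁u (w' := (1 : F) • -w₁) (by rw [one_smul]; exact hnu) hm₁
    (hS.eMap_mem hu huu (by rw [← neg_one_smul F w₁]; exact hwr.smul (F₀.neg_mem F₀.one_mem)) hnu ht htt)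
  rw [one_smul, add_neg_cancel, one_mul, hS.eMap_zero, ← neg_one_smul F w₁, hf.smul_left] at h2
  refine ⟨u, f, a, b, _, Q, ?_, fun hmem => hxn ?_, h2⟩
  · rw [← neg_one_smul F w₁, hf.smul_left, un_smul_right hf, map_neg, map_one] at htt
    simp only [one_mul, map_one] at htt
    simp only [map_sub, map_add, map_mul, map_neg, map_one]
    rw [← hf.herm w₁ w₁]
    linear_combination hc₁v + htt
  · rw [e₁, ← one_smul F w₁, ← one_mul c₁]
    refine hR.eMap_rat hu hwr ?_ hx
    have hww : h w₁ w₁ ∈ F₀ := by simpa using hR.rat _ _ hwr hwr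
    have h3 := F₀.sub_mem (F₀.sub_mem hmem ht) hww
    convert h3 using 1
    ring

/-- A larger Siegel group gives all transvections. -/
lemma full_of_big {r : ℕ} (hr : r.Prime) (hcard : Fintype.card F = Nat.card F₀ ^ r) {ω : F} (hω : ω ∈ F₀)
    (hω' : τ ω ≠ ω) (hbig : ¬ Small τ h F₀ H) (v : VV) (k : F) (hvv : h v v = 0) (hk : τ k = -k) :
    HasMap H (tMap h k v) := by
  classical
  have hR := hS.form
  have hf := hR.unit
  obtain ⟨u₁, f₁, a₁, b₁, c₂, Q₁, hc₂, hc₂n, hm⟩ := hS.exists_irr hω hω' hbig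
  have pass : ∀ {p d : VV}, RatV F₀ p → h p p = 0 → RatV F₀ d → h d d = 0 → d ≠ 0 → h d p = 0 →
      p ∉ Submodule.span F ({d} : Set VV) → HasMap H (tMap h c₂ p) → HasMap H (tMap h c₂ d) := by
    intro p d hp hpp hd hdd hd0 hdp hind hmp
    obtain ⟨f, b, Q⟩ := hS.quad_of_perp hp hpp hd hdd hd0 hdp hind
    simpa using hS.q_move Q F₀.one_mem hmp
  have m₂ : HasMap H (tMap h c₂ a₁) := by simpa using hS.q_move Q₁ F₀.one_mem hm
  have m₃ : HasMap H (tMap h c₂ b₁) := by simpa using hS.q_move (Q₁.symm hR) F₀.one_mem hm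
  have m₄ : HasMap H (tMap h c₂ f₁) := by simpa using hS.q_move ((Q₁.flip hR).symm hR) F₀.one_mem m₂
  have every : ∀ e, RatV F₀ e → h e e = 0 → e ≠ 0 → HasMap H (tMap h c₂ e) := by
    intro e he hee he0
    obtain ⟨x, hx, hxx, hxe, hmx⟩ : ∃ x, RatV F₀ x ∧ h x x = 0 ∧ h e x ≠ 0 ∧ HasMap H (tMap h c₂ x) := by
      by_contra! hcon
      have h1 : h e u₁ = 0 := by_contra fun h0 => hcon u₁ Q₁.hyp.left Q₁.hyp.isoL h0 hm
      have h2 : h e f₁ = 0 := by_contra fun h0 => hcon f₁ Q₁.hyp.right Q₁.hyp.isoR h0 m₄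
      have h3 : h e a₁ = 0 := by_contra fun h0 => hcon a₁ Q₁.pair.left Q₁.pair.isoL h0 m₂
      have h4 : h e b₁ = 0 := by_contra fun h0 => hcon b₁ Q₁.pair.right Q₁.pair.isoR h0 m₃
      exact he0 (by rw [Q₁.expand hR h1 h2, h3, h4, zero_smul, zero_smul, add_zero])
    obtain ⟨d, hd, hd0, hdd, hdp⟩ := hR.iso_two ![x, e] (by intro i; fin_cases i; exacts [hx, he])
    have hdx : h d x = 0 := hdp 0
    have hde : h d e = 0 := hdp 1
    refine pass hd hdd he hee he0 (hR.skew0 hde) (fun hmem => ?_) (pass hx hxx hd hdd hd0 hdx (fun hmem => ?_) hmx)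
    · obtain ⟨s, rfl⟩ := Submodule.mem_span_singleton.1 hmem
      rw [hf.smul_left] at hdx
      exact hxe ((mul_eq_zero.1 hdx).resolve_left fun e => hd0 (by rw [e, zero_smul]))
    · obtain ⟨s, rfl⟩ := Submodule.mem_span_singleton.1 hmem
      exact hxe (by rw [un_smul_right hf, hR.skew0 hde, mul_zero])
  rcases eq_or_ne v 0 with rfl | hv0
  · exact hasMap_id.congr fun x => by simp [tMap]
  obtain ⟨e, he, hee, hve⟩ := hR.exists_iso_ne hv0
  have he0 : e ≠ 0 := fun e0 => hve (by rw [e0, un_zero_right hf])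
  obtain ⟨f₀, a, b, Q⟩ := hS.exists_quad he hee he0
  set ρ := h v e
  set v' := ρ⁻¹ • v with hv'
  have hv'e : h v' e = 1 := by rw [hv', hf.smul_left]; exact inv_mul_cancel₀ hve
  set γ := h v' f₀ with hγ
  set w := v' - f₀ - γ • e with hw
  have hwe : h w e = 0 := by rw [hw, hR.sub_smul_left, hR.sub_left, hv'e, Q.fu, hee]; ring
  have hwf : h w f₀ = 0 := by rw [hw, hR.sub_smul_left, hR.sub_left, ← hγ, Q.hyp.isoR, Q.uf hR]; ring
  have hval : γ + τ γ + h w w = 0 := by
    have h1 : h v' v' = 0 := by rw [hv', hf.smul_left, un_smul_right hf, hvv]; simp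
    have e1 : v' = f₀ + γ • e + w := by rw [hw]; abel
    rw [e1] at h1
    simp only [hf.add_left, un_add_right hf, hf.smul_left, un_smul_right hf, Q.hyp.isoR, hee, Q.fu, Q.uf hR, hwe, hwf,
      hR.skew0 hwe, hR.skew0 hwf] at h1
    linear_combination h1
  obtain ⟨g, hg, eg⟩ := hS.full_siegel Q hr hcard hω hω' hc₂ hc₂n (every e he hee he0) hwe hwf hval
  have hgf : Units.val g *ᵥ f₀ = v' := by rw [eg, eMap, Q.fu, hR.skew0 hwf, hw]; module
  have hk' : τ (k * (ρ * τ ρ)) = -(k * (ρ * τ ρ)) := by simp only [map_mul, hf.involutive, hk]; ring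
  have hlong := (hS.core (Q.swap hR) hr hcard hω hω' hc₂ hc₂n
    (every f₀ Q.hyp.right Q.hyp.isoR (Q.hyp.ne_right hR))).1 _ hk'
  have h5 := hS.tMap_conj hlong hg
  rw [hgf] at h5
  refine h5.congr fun x => ?_
  simp only [tMap, hv', un_smul_right hf, smul_smul, map_inv₀]
  have hτρ : τ ρ ≠ 0 := fun e0 => hve (τ.injective (by rw [e0, map_zero]))
  congr 2
  field_simp

end Over

end CfsgLib.Maximal.SUFour.Sub
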