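import Mathlib
import Cfsg.Agent.Lib.Maximal.SUFour.SixFourFull
import Cfsg.Agent.Lib.Maximal.UnSubMain
import Cfsg.Agent.Lib.UnMono.Basic

/-!
The subfield subgroups of odd degree of `SU₄(q)` are maximal.
-/

set_option autoImplicit false
set_option linter.unusedSectionVars false
set_option linter.unusedSimpArgs false
set_option linter.style.haveILetI false
set_option maxHeartbeats 400000

namespace CfsgLib.Maximal.SUFour.Sub

open scoped Matrix
open CfsgLib.UnMono (Ctx)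

variable {F : Type*} [Field F] [Fintype F] {q : ℕ}

/-- A subfield subgroup is maximal as soon as lines can be found. -/
theorem maximal (hF : Fintype.card F = q ^ 2) {τ : F ≃+* F}
    (hf : Cfsg.Geo.IsUnitaryForm τ (Cfsg.hermForm 4 F q)) {F₀ : Subfield F} {r : ℕ} (hr : r.Prime)
    (hcard : Fintype.card F = Nat.card F₀ ^ r) (P : Matrix.GeneralLinearGroup (Fin 4) F)
    (hR : Rat6 τ (pullForm q P) F₀ 1)
    {ω : F} (hω : ω ∈ F₀) (hω' : τ ω ≠ ω)
    (hline : ∀ H, Over τ (pullForm q P) F₀ 1 H → Small τ (pullForm q P) F₀ H → ∀ g ∈ H,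
      ∀ e : Fin 4 → F, RatV F₀ e → pullForm q P e e = 0 → e ≠ 0 → RatLine F₀ (Units.val g *ᵥ e)) :
    Cfsg.Geo.IsMaximalIn (suGL 4 F q) (Cfsg.Geo.subfieldSubgroup F₀ P ⊓ suGL 4 F q) := by
  classical
  refine ⟨lt_of_le_of_ne inf_le_right fun heq => ?_, fun M hSM hMK => ?_⟩
  · obtain ⟨μ, hμ⟩ := exists_notMem_subfield hr hcard
    obtain ⟨u, hu, huu, hu0⟩ := hR.exists_iso
    obtain ⟨f, Q⟩ := hR.exists_hyp hu huu hu0
    obtain ⟨a, b, ha0, ha, -, -⟩ := Q.exists_second hR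
    have hw : pullForm q P (μ • a) u = 0 := by rw [hR.unit.smul_left, ha.perpL, mul_zero]
    obtain ⟨g, hg, eg⟩ := hR.exists_eMap huu hw (c := 0) (by
      rw [hR.unit.smul_left, un_smul_right hR.unit, ha.iso]; simp)
    have h1 := ((SetLike.ext_iff.1 heq _).2 ((conj_mem_suGL P g).2 hg)).1
    have h2 := (mem_subfieldSubgroup_iff P _).1 h1
    rw [show P⁻¹ * (P * g * P⁻¹) * P = g by group] at h2
    obtain ⟨c, hc, hrat⟩ := h2
    have hga : Units.val g *ᵥ a = a := by rw [eg, eMap, ha.perpL, un_smul_right hR.unit, ha.iso]; simp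
    have hgf : Units.val g *ᵥ f = f + μ • a := by
      rw [eg, eMap, un_smul_right hR.unit, hR.skew0 ha.perpR, smul_smul, show pullForm q P f u = 1 by simpa using Q.one, one_mul]
      simp
    obtain ⟨l, hl⟩ := Function.ne_iff.1 ha0
    have hl0 : a l ≠ 0 := hl
    have hcF : c ∈ F₀ := by
      have h3 := hrat.mulVec ha.mem l
      rw [Matrix.smul_mulVec, hga, Pi.smul_apply, smul_eq_mul] at h3
      have h4 := F₀.mul_mem h3 (F₀.inv_mem (ha.mem l))
      rwa [mul_assoc, mul_inv_cancel₀ hl0, mul_one] at h4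
    have h3 := hrat.mulVec Q.right l
    rw [Matrix.smul_mulVec, hgf, Pi.smul_apply, Pi.add_apply, Pi.smul_apply, smul_eq_mul, smul_eq_mul] at h3
    refine hμ ?_
    have h4 := F₀.div_mem (F₀.sub_mem (F₀.div_mem h3 hcF) (Q.right l)) (ha.mem l)
    convert h4 using 1
    field_simp
    ring
  · let H : Subgroup (Matrix.GeneralLinearGroup (Fin 4) F) := M.map (MulAut.conj P⁻¹).toMonoidHom
    have memH : ∀ g, g ∈ H ↔ P * g * P⁻¹ ∈ M := fun g => by
      constructor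
      · rintro ⟨x, hx, rfl⟩
        simpa [MulAut.conj_apply, mul_assoc] using hx
      · intro hg; exact ⟨_, hg, by simp [MulAut.conj_apply, mul_assoc]⟩
    have hS : Over τ (pullForm q P) F₀ 1 H := ⟨hR,
      fun g hg => (conj_mem_suGL P g).1 (hMK ((memH g).1 hg)),
      fun g hg hrat => (memH g).2 (hSM ⟨(mem_subfieldSubgroup_iff P _).2 (by
        rwa [show P⁻¹ * (P * g * P⁻¹) * P = g by group]), (conj_mem_suGL P g).2 hg⟩)⟩
    by_cases hsm : Small τ (pullForm q P) F₀ H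
    · refine Or.inl (le_antisymm (fun g hg => ⟨(mem_subfieldSubgroup_iff P g).2 ?_, hMK hg⟩) hSM)
      have hgH : P⁻¹ * g * P ∈ H := (memH _).2 (by
        rwa [show P * (P⁻¹ * g * P) * P⁻¹ = g by group])
      obtain ⟨e, he, hee, he0⟩ := hR.exists_iso
      obtain ⟨c, hc, hl⟩ := hline H hS hsm _ hgH e he hee he0
      exact ⟨c, hc, hS.rigid hsm hgH hc he hee he0 hl⟩
    · refine Or.inr (le_antisymm hMK ?_)
      refine suGL_le_of_full hf hF (by norm_num) fun v hv k hk => ?_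
      obtain ⟨u, rfl⟩ := mulVec_surj P v
      obtain ⟨g, hg, eg⟩ := hS.full_of_big hr hcard hω hω' hsm u k hv hk
      refine ⟨un_tv_dot hf hv k, ?_⟩
      convert (memH g).1 hg using 1
      refine Units.ext (CfsgLib.Geometry.matrix_eq_of_mulVec fun x => ?_)
      obtain ⟨x, rfl⟩ := mulVec_surj P x
      show Units.val (tv _ _ _) *ᵥ (Units.val P *ᵥ x) = Units.val (P * g * P⁻¹) *ᵥ (Units.val P *ᵥ x)
      rw [Matrix.mulVec_mulVec x (Units.val (P * g * P⁻¹)), ← Units.val_mul, inv_mul_cancel_right, Units.val_mul,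
        ← Matrix.mulVec_mulVec, eg, tv_mulVec, un_dot hf, smul_smul]
      simp only [tMap, Matrix.mulVec_add, Matrix.mulVec_smul, pullForm]
      rw [mul_comm]

theorem odd_maximal (hF : Fintype.card F = q ^ 2) {r : ℕ} (hr : r.Prime) (hro : Odd r)
    (F₀ : Subfield F) (hcard : Fintype.card F = Nat.card F₀ ^ r) (P : Matrix.GeneralLinearGroup (Fin 4) F)
    (hP : Cfsg.Geo.IsFormRationalStructure (Cfsg.hermForm 4 F q) F₀ 1 P) :
    Cfsg.Geo.IsMaximalIn (suGL 4 F q) (Cfsg.Geo.subfieldSubgroup F₀ P ⊓ suGL 4 F q) := by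
  classical
  obtain ⟨τ, hτ, hf⟩ := exists_hermSigma hF 4
  set q₀ := Nat.card F₀ with hq₀
  have hq₀1 : 1 < q₀ := Finite.one_lt_card
  obtain ⟨kk, hk⟩ := hro
  obtain ⟨s, hs⟩ : ∃ s, q = q₀ ^ kk * s := by
    have h2 : (q₀ ^ kk) ^ 2 ∣ q ^ 2 := ⟨q₀, by rw [← hF, hcard, hk, ← pow_mul, ← pow_succ]; ring_nf⟩
    exact (Nat.pow_dvd_pow_iff two_ne_zero).1 h2
  have hs2 : s ^ 2 = q₀ := by
    have h1 : (q₀ ^ kk) ^ 2 * s ^ 2 = (q₀ ^ kk) ^ 2 * q₀ := by
      rw [← mul_pow, ← hs, ← hF, hcard, hk]; ring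
    exact Nat.eq_of_mul_eq_mul_left (by positivity) h1
  have hpow : ∀ x : F₀, (x : F) ^ q = (x : F) ^ s := fun x => by
    have h1 : x ^ (q₀ ^ kk) = x := by
      rw [hq₀, Nat.card_eq_fintype_card]; exact FiniteField.pow_card_pow kk x
    rw [hs, pow_mul]
    exact congrArg (fun y : F₀ => (y : F) ^ s) h1
  have hF₀ : Fintype.card F₀ = s ^ 2 := by rw [hs2, hq₀, Nat.card_eq_fintype_card]
  obtain ⟨τ₀, hτ₀, hf₀⟩ := exists_hermSigma (F := F₀) hF₀ 4
  have hval : ∀ x : F₀, τ (x : F) = ((τ₀ x : F₀) : F) := fun x => by rw [hτ, hpow, hτ₀]; rfl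
  have hne : ∃ x ∈ F₀, τ x ≠ x := by
    by_contra! hall
    exact hf₀.ne_refl (RingEquiv.ext fun x => Subtype.ext (by rw [← hval]; exact hall _ x.2))
  have hh := pullForm_unitary hf P
  have hm : ∀ u v, RatV F₀ u → RatV F₀ v → pullForm q P u v ∈ F₀ := fun u v hu hv => by
    simpa [pullForm] using hP u v hu hv
  have hτm : ∀ x ∈ F₀, τ x ∈ F₀ := fun x hx => by rw [hτ]; exact F₀.pow_mem hx q
  have hσ₀ : (τ₀ : F₀ →+* F₀) ≠ RingHom.id F₀ := fun e =>
    hf₀.ne_refl (RingEquiv.ext fun x => RingHom.congr_fun e x)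
  obtain ⟨ω, hω, hω'⟩ := hne
  obtain ⟨θ, hθ, hθ0⟩ : ∃ θ ∈ F₀, θ + τ θ ≠ 0 := by
    by_contra! hcon
    refine hω' ?_
    have h1 := hcon 1 F₀.one_mem
    rw [map_one] at h1
    linear_combination hcon ω hω - ω * h1
  have iso : ∀ (k : ℕ) (p : Fin k → Fin 4 → F), k + 1 < 4 → (∀ i, RatV F₀ (p i)) →
      ∃ a, RatV F₀ a ∧ a ≠ 0 ∧ pullForm q P a a = 0 ∧ ∀ i, pullForm q P a (p i) = 0 := fun k p hk hp => by
    obtain ⟨x₁, hx₁, hx₁0, hx₁p⟩ := exists_rat_perp hh one_ne_zero hP p hp (by simp; omega)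
    obtain ⟨x₂, hx₂, hx₂0, hx₂p⟩ := exists_rat_perp hh one_ne_zero hP (Fin.snoc p x₁) (fun i => by
      induction i using Fin.lastCases <;> simp [hx₁, hp]) (by simp; omega)
    have e21 : pullForm q P x₂ x₁ = 0 := by simpa using hx₂p (Fin.last k)
    have p2 : ∀ i, pullForm q P x₂ (p i) = 0 := fun i => by simpa using hx₂p i.castSucc
    by_cases hA : pullForm q P x₁ x₁ = 0
    · exact ⟨x₁, hx₁, hx₁0, hA, hx₁p⟩
    by_cases hC : pullForm q P x₂ x₂ = 0
    · exact ⟨x₂, hx₂, hx₂0, hC, p2⟩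
    obtain ⟨c, hc⟩ := CfsgLib.Geometry.exists_norm_eq hσ₀ hf₀.involutive
      (c := ⟨-pullForm q P x₂ x₂ / pullForm q P x₁ x₁,
        F₀.div_mem (F₀.neg_mem (hm _ _ hx₂ hx₂)) (hm _ _ hx₁ hx₁)⟩)
      (Subtype.ext (by
        show ((τ₀ _ : F₀) : F) = _
        rw [← hval]
        show τ (-pullForm q P x₂ x₂ / pullForm q P x₁ x₁) = _
        rw [map_div₀, map_neg, ← hh.herm, ← hh.herm]))
    have hc' : (c : F) * τ c = -pullForm q P x₂ x₂ / pullForm q P x₁ x₁ := by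
      rw [hval]; exact congrArg Subtype.val hc
    refine ⟨(c : F) • x₁ + x₂, (hx₁.smul c.2).addV hx₂, fun e => hC ?_, ?_, fun i => ?_⟩
    · have h3 := congrArg (fun y => pullForm q P y x₂) e
      simp only [hh.add_left, hh.smul_left, un_zero_left hh, hh.herm x₁ x₂, e21, map_zero, mul_zero, zero_add] at h3
      exact h3
    · simp only [hh.add_left, un_add_right hh, hh.smul_left, un_smul_right hh, e21, hh.herm x₁ x₂, map_zero,
        mul_zero, add_zero, zero_add]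
      rw [eq_div_iff hA] at hc'
      linear_combination hc'
    · simp only [hh.add_left, hh.smul_left, hx₁p, p2, mul_zero, add_zero]
  have hR : Rat6 τ (pullForm q P) F₀ 1 := ⟨hh, one_ne_zero, hP, hτm,
    fun v hv => ⟨-(pullForm q P v v) * θ / (θ + τ θ),
      F₀.div_mem (F₀.mul_mem (F₀.neg_mem (hm v v hv hv)) hθ) (F₀.add_mem hθ (hτm θ hθ)), by
      rw [one_mul, map_one, one_mul, one_mul, map_div₀, map_mul, map_neg, map_add, hf.involutive, ← hh.herm v v,
        add_comm (τ θ)]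
      field_simp
      ring⟩,
    fun p hp => iso 2 p (by omega) hp, by simp⟩
  have hr2 : r ≠ 2 := by omega
  exact maximal hF hf hr hcard P hR hω hω' fun H hS hsm g hg e he hee he0 =>
    hS.odd_line hsm hr hr2 hcard ⟨ω, hω, hω'⟩ rfl hg he hee he0

end CfsgLib.Maximal.SUFour.Sub
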