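import Cfsg.Agent.Lib.Maximal.SUFour.SixFourBasic

/-!
Siegel elements of overgroups of a rational special unitary group.
-/

set_option autoImplicit false
set_option linter.unusedSectionVars false
set_option linter.unusedSimpArgs false

namespace CfsgLib.Maximal.SUFour.Sub

open scoped Matrix

variable {F : Type*} [Field F] {ι : Type} [Fintype ι] [DecidableEq ι] {τ : F ≃+* F}
  {h : (ι → F) → (ι → F) → F} {F₀ : Subfield F} {ζ : F}

/-- A subgroup of the special unitary group containing all its elements that are rational up to a scalar. -/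
structure Over (τ : F ≃+* F) (h : (ι → F) → (ι → F) → F) (F₀ : Subfield F) (ζ : F)
    (H : Subgroup (GL ι F)) : Prop where
  form : Rat6 τ h F₀ ζ
  le : H ≤ suH h
  mem : ∀ g, g ∈ suH h → RatUpToScalar F₀ g → g ∈ H

/-- The pure Siegel element with parameter `x` along `a` is present. -/
def KP (h : (ι → F) → (ι → F) → F) (ζ : F) (H : Subgroup (GL ι F)) (u a : ι → F) (x : F) : Prop :=
  HasMap H (eMap h u ((ζ * x) • a) 0)

/-- Siegel elements of the overgroup at rational isotropic vectors are rational. -/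
def Small (τ : F ≃+* F) (h : (ι → F) → (ι → F) → F) (F₀ : Subfield F) (H : Subgroup (GL ι F)) : Prop :=
  ∀ u w c, RatV F₀ u → h u u = 0 → u ≠ 0 → h w u = 0 → c + τ c + h w w = 0 → HasMap H (eMap h u w c) →
    ∀ x, RatV F₀ x → RatV F₀ (eMap h u w c x)

namespace Rat6

variable [Finite F] (hR : Rat6 τ h F₀ ζ)
include hR

omit [Finite F] in
lemma exists_eMap {u w : ι → F} {c : F} (huu : h u u = 0) (hw : h w u = 0) (hc : c + τ c + h w w = 0) :
    ∃ g ∈ suH h, ∀ x, Units.val g *ᵥ x = eMap h u w c x :=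
  ⟨unSiegel hR.unit huu hw c, ⟨fun x y => unSiegel_isometry hR.unit huu hw hc x y, unSiegel_mem_SL hR.unit huu hw c⟩,
    fun x => unSiegel_mulVec hR.unit huu hw c x⟩

omit [Finite F] in
lemma eMap_comp {u w w' : ι → F} (huu : h u u = 0) (hw : h w u = 0) (hw' : h w' u = 0) (c c' : F) (x : ι → F) :
    eMap h u w c (eMap h u w' c' x) = eMap h u (w + w') (c + c' - h w' w) x := by
  have hf := hR.unit
  simp only [eMap, hf.add_left, hf.smul_left, un_add_right hf, huu, hw', hR.skew0 hw, mul_zero, add_zero]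
  module

omit [Finite F] in
lemma eMap_shift {u : ι → F} (w : ι → F) (s c : F) (x : ι → F) :
    eMap h u (w + s • u) c x = eMap h u w (c + s - τ s) x := by
  simp only [eMap, un_add_right hR.unit, un_smul_right hR.unit]
  module

omit [Finite F] in
lemma eMap_smul (u w : ι → F) (t c : F) (x : ι → F) :
    eMap h (t • u) w c x = eMap h u (τ t • w) (t * τ t * c) x := by
  simp only [eMap, un_smul_right hR.unit, hR.unit.involutive]
  module

omit [Finite F] in
/-- Rational Siegel maps. -/
lemma eMap_rat {u v : ι → F} (hu : RatV F₀ u) (hv : RatV F₀ v) {t : F} (ht : t ∈ F₀) {x : ι → F} (hx : RatV F₀ x) :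
    RatV F₀ (eMap h u (ζ • v) (ζ * t) x) := by
  have e : eMap h u (ζ • v) (ζ * t) x = x + (t * (ζ * h x u) - τ ζ / ζ * (ζ * h x v)) • u + (ζ * h x u) • v := by
    have := hR.ne
    simp only [eMap, un_smul_right hR.unit, smul_smul]
    match_scalars <;> field_simp
  rw [e]
  exact (hx.addV (hu.smul (F₀.sub_mem (F₀.mul_mem ht (hR.rat _ _ hx hu))
    (F₀.mul_mem hR.eps_mem (hR.rat _ _ hx hv))))).addV (hv.smul (hR.rat _ _ hx hu))

omit [Finite F] in
lemma valid_smul {v : ι → F} {t : F} (ht : ζ * t + τ (ζ * t) + ζ * τ ζ * h v v = 0) :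
    ζ * t + τ (ζ * t) + h (ζ • v) (ζ • v) = 0 := by
  rw [hR.unit.smul_left, un_smul_right hR.unit]
  linear_combination ht

omit [Finite F] in
/-- A map with rational values on rational vectors has a rational matrix. -/
lemma ratM_of_rat {g : Matrix ι ι F} (hg : ∀ x, RatV F₀ x → RatV F₀ (g *ᵥ x)) : RatM F₀ g := fun i j => by
  have := hg _ (ratV_single j F₀.one_mem) i
  rwa [Matrix.mulVec_single_one] at this

end Rat6

namespace Over

variable [Finite F] {H : Subgroup (GL ι F)} (hS : Over τ h F₀ ζ H)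
include hS

omit [Finite F] in
/-- The rational Siegel elements are present. -/
lemma eMap_mem {u v : ι → F} (hu : RatV F₀ u) (huu : h u u = 0) (hv : RatV F₀ v) (hvu : h v u = 0) {t : F}
    (ht : t ∈ F₀) (htt : ζ * t + τ (ζ * t) + ζ * τ ζ * h v v = 0) : HasMap H (eMap h u (ζ • v) (ζ * t)) := by
  obtain ⟨g, hg, eg⟩ := hS.form.exists_eMap huu (w := ζ • v) (by rw [hS.form.unit.smul_left, hvu, mul_zero])
    (hS.form.valid_smul htt)
  refine ⟨g, hS.mem g hg ⟨1, one_ne_zero, ?_⟩, eg⟩
  rw [one_smul]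
  exact hS.form.ratM_of_rat fun x hx => by rw [eg]; exact hS.form.eMap_rat hu hv ht hx

omit [Finite F] in
lemma eMap_conj {u w : ι → F} {c : F} (hm : HasMap H (eMap h u w c)) {g : GL ι F} (hg : g ∈ H) :
    HasMap H (eMap h (Units.val g *ᵥ u) (Units.val g *ᵥ w) c) := by
  obtain ⟨k, hk, ek⟩ := hm
  refine ⟨g * k * g⁻¹, mul_mem (mul_mem hg hk) (inv_mem hg), fun y => ?_⟩
  obtain ⟨x, rfl⟩ := mulVec_surj g y
  simp only [Units.val_mul, ← Matrix.mulVec_mulVec]
  rw [Matrix.mulVec_mulVec x, ← Units.val_mul, inv_mul_cancel, Units.val_one, Matrix.one_mulVec, ek]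
  simp only [eMap, Matrix.mulVec_sub, Matrix.mulVec_add, Matrix.mulVec_smul, suH_iso (hS.le hg)]

omit [Finite F] in
lemma eMap_add {u w w' : ι → F} {c c' : F} (huu : h u u = 0) (hw : h w u = 0) (hw' : h w' u = 0)
    (hm : HasMap H (eMap h u w c)) (hm' : HasMap H (eMap h u w' c')) :
    HasMap H (eMap h u (w + w') (c + c' - h w' w)) :=
  (hm.comp hm').congr fun x => hS.form.eMap_comp huu hw hw' c c' x

omit [Finite F] in
lemma eMap_neg {u w : ι → F} {c : F} (huu : h u u = 0) (hw : h w u = 0) (hc : c + τ c + h w w = 0)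
    (hm : HasMap H (eMap h u w c)) : HasMap H (eMap h u (-w) (τ c)) := by
  have hf := hS.form.unit
  refine HasMap.left_cancel hm (hasMap_id.congr fun x => ?_)
  rw [Function.comp_apply, hS.form.eMap_comp huu hw (by rw [← neg_one_smul F w, hf.smul_left, hw, mul_zero])]
  rw [add_neg_cancel, ← neg_one_smul F w, hf.smul_left, show c + τ c - -1 * h w w = 0 by linear_combination hc]
  simp [eMap, un_zero_right hf]

omit [Finite F] in
/-- Conjugation and division. -/
lemma eMap_diff {u w : ι → F} {c : F} (huu : h u u = 0) (hw : h w u = 0) (hc : c + τ c + h w w = 0)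
    (hm : HasMap H (eMap h u w c)) {g : GL ι F} (hg : g ∈ H) (hgu : Units.val g *ᵥ u = u) :
    HasMap H (eMap h u (Units.val g *ᵥ w - w) (h w (Units.val g *ᵥ w - w))) := by
  have hf := hS.form.unit
  have h1 := hS.eMap_conj hm hg
  rw [hgu] at h1
  have hgw : h (Units.val g *ᵥ w) u = 0 := by
    conv_lhs => arg 2; rw [← hgu]
    rw [suH_iso (hS.le hg)]; exact hw
  have h2 := hS.eMap_add huu hgw (by rw [← neg_one_smul F w, hf.smul_left, hw, mul_zero]) h1
    (hS.eMap_neg huu hw hc hm)
  convert h2 using 3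
  · rw [sub_eq_add_neg]
  · rw [hS.form.sub_right, ← neg_one_smul F w, hf.smul_left]
    linear_combination -hc

omit [Finite F] in
lemma KP_add {u a : ι → F} {x y : F} (huu : h u u = 0) (haa : h a a = 0) (hau : h a u = 0)
    (hx : KP h ζ H u a x) (hy : KP h ζ H u a y) : KP h ζ H u a (x + y) := by
  have hf := hS.form.unit
  have h1 := hS.eMap_add huu (by rw [hf.smul_left, hau, mul_zero]) (by rw [hf.smul_left, hau, mul_zero]) hx hy
  rw [hf.smul_left, un_smul_right hf, haa, ← add_smul, ← mul_add] at h1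
  simpa [KP] using h1

omit [Finite F] in
lemma KP_rat {u a : ι → F} (hu : RatV F₀ u) (huu : h u u = 0) (ha : RatV F₀ a) (haa : h a a = 0) (hau : h a u = 0)
    {x : F} (hx : x ∈ F₀) : KP h ζ H u a x := by
  have h1 := hS.eMap_mem hu huu (ha.smul hx) (by rw [hS.form.unit.smul_left, hau, mul_zero]) F₀.zero_mem
    (by rw [hS.form.unit.smul_left, un_smul_right hS.form.unit, haa]; simp)
  rw [smul_smul, mul_zero] at h1
  exact h1

omit [Finite F] in
lemma KP_swap {u a : ι → F} {x : F} (hm : KP h ζ H u a x) : KP h ζ H a u (-(τ ζ / ζ) * τ x) := by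
  refine hm.congr fun y => ?_
  have := hS.form.ne
  simp only [eMap, un_smul_right hS.form.unit, map_mul, map_neg, map_div₀, hS.form.unit.involutive, smul_smul,
    zero_mul, zero_sub, neg_smul]
  have hτζ : τ ζ ≠ 0 := fun e => hS.form.ne (τ.injective (by rw [e, map_zero]))
  match_scalars <;> field_simp

omit [Finite F] in
lemma KP_smul_right {u a : ι → F} {x s : F} (hm : KP h ζ H u (s • a) x) : KP h ζ H u a (x * s) := by
  rwa [KP, smul_smul, mul_assoc] at hm

end Over

end CfsgLib.Maximal.SUFour.Sub
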