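import Mathlib
import Cfsg.Agent.Lib.Maximal.UnSubMain
import Cfsg.Agent.Lib.Maximal.SUFour.OrthSub

/-!
The symplectic subfield subgroups of `SU₄(q)` are maximal.
-/

set_option autoImplicit false
set_option linter.unusedSectionVars false
set_option linter.unusedSimpArgs false
set_option maxHeartbeats 400000

namespace CfsgLib.Maximal.SUFour

open scoped Matrix
open CfsgLib.UnMono (Ctx)

variable {F : Type*} [Field F] [Fintype F] {τ : F ≃+* F} {h : (Fin 4 → F) → (Fin 4 → F) → F} {F₀ : Subfield F}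
  {H : Subgroup (Matrix.GeneralLinearGroup (Fin 4) F)}

local notation "VV" => (Fin 4 → F)
local notation "GG" => Matrix.GeneralLinearGroup (Fin 4) F

/-- A form whose values on rational vectors are skew and which vanishes on each of them. -/
structure Symp4 (τ : F ≃+* F) (h : (Fin 4 → F) → (Fin 4 → F) → F) (F₀ : Subfield F)
    (H : Subgroup (Matrix.GeneralLinearGroup (Fin 4) F)) : Prop where
  unit : Cfsg.Geo.IsUnitaryForm τ h
  fix : ∀ x, τ x = x ↔ x ∈ F₀
  skew : ∀ u v : Fin 4 → F, RatV F₀ u → RatV F₀ v → τ (h u v) = -h u v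
  iso : ∀ u : Fin 4 → F, RatV F₀ u → h u u = 0
  le : H ≤ suH h
  mem : ∀ g, g ∈ suH h → RatUpToScalar F₀ g → g ∈ H

namespace Symp4

variable (O : Symp4 τ h F₀ H)
include O

lemma add_l (a b v : VV) : h (a + b) v = h a v + h b v := O.unit.add_left a b v

lemma smul_l (t : F) (a v : VV) : h (t • a) v = t * h a v := O.unit.smul_left t a v

lemma add_r (v a b : VV) : h v (a + b) = h v a + h v b := un_add_right O.unit v a b

lemma smul_r (t : F) (v a : VV) : h v (t • a) = τ t * h v a := un_smul_right O.unit t v a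

lemma sub_l (a b v : VV) : h (a - b) v = h a v - h b v := by
  rw [sub_eq_add_neg, O.add_l, ← neg_one_smul F b, O.smul_l]; ring

lemma sub_r (v a b : VV) : h v (a - b) = h v a - h v b := by
  rw [sub_eq_add_neg, O.add_r, ← neg_one_smul F b, O.smul_r, map_neg, map_one]; ring

lemma flip0 {u v : VV} (e : h u v = 0) : h v u = 0 := by rw [O.unit.herm, e, map_zero]

lemma swap {u v : VV} (hu : RatV F₀ u) (hv : RatV F₀ v) : h v u = -h u v := by
  rw [O.unit.herm, O.skew u v hu hv]

lemma real_of_mem {x : F} (hx : x ∈ F₀) : τ x = x := (O.fix x).2 hx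

/-- The quotient of two skew values is rational. -/
lemma div_mem {a b : F} (ha : τ a = -a) (hb : τ b = -b) : a / b ∈ F₀ :=
  (O.fix _).1 (by rw [map_div₀, ha, hb, neg_div_neg_eq])

/-- All transvections with a rational centre are present. -/
lemma tfull_rat {r : VV} (hr : RatV F₀ r) : TFull τ h H r := fun k hk => by
  have hrr := O.iso r hr
  refine ⟨tv (k • r) (fvec h r) (un_tv_dot O.unit hrr k), O.mem _
    ⟨fun x y => un_tv_isometry O.unit hrr hk x y, tv_mem_specialLinear _ _ _⟩ ⟨1, one_ne_zero, ?_⟩, fun x => ?_⟩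
  · rw [one_smul, tv_val, Matrix.smul_vecMulVec]
    intro i j
    simp only [Matrix.add_apply, Matrix.smul_apply, Matrix.vecMulVec_apply, smul_eq_mul]
    refine F₀.add_mem (ratM_one i j) ?_
    have h1 : k * fvec h r j ∈ F₀ := (O.fix _).1 (by
      rw [map_mul, hk, show fvec h r j = h (Pi.single j 1) r from rfl,
        O.skew _ _ (ratV_single j F₀.one_mem) hr, neg_mul_neg])
    have := F₀.mul_mem (hr i) h1
    rwa [show r i * (k * fvec h r j) = k * (r i * fvec h r j) by ring] at this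
  · rw [tv_mulVec, un_dot O.unit, smul_smul, tMap, mul_comm]

lemma tfull_smul {v : VV} (hv : TFull τ h H v) (s : F) : TFull τ h H (s • v) := fun k hk => by
  refine (hv (k * (s * τ s)) (by rw [map_mul, map_mul, O.unit.involutive, hk]; ring)).congr fun x => ?_
  simp only [tMap, O.smul_r]
  module

lemma tfull_move {v : VV} (hv : TFull τ h H v) {g : GG} (hg : g ∈ H) : TFull τ h H (Units.val g *ᵥ v) :=
  fun k hk => by
  obtain ⟨m, hm, em⟩ := hv k hk
  refine ⟨g * m * g⁻¹, mul_mem (mul_mem hg hm) (inv_mem hg), fun y => ?_⟩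
  obtain ⟨x, rfl⟩ := mulVec_surj g y
  simp only [Units.val_mul, ← Matrix.mulVec_mulVec]
  rw [Matrix.mulVec_mulVec x, ← Units.val_mul, inv_mul_cancel, Units.val_one, Matrix.one_mulVec, em]
  simp only [tMap, Matrix.mulVec_add, Matrix.mulVec_smul, suH_iso (O.le hg)]

/-- The transvection carrying one rational vector to another one. -/
lemma exists_step {a a' : VV} (ha : RatV F₀ a) (ha' : RatV F₀ a') (hne : h a a' ≠ 0) :
    ∃ g ∈ H, Units.val g *ᵥ a = a' ∧ (∀ x, h x (a' - a) = 0 → Units.val g *ᵥ x = x) ∧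
      ∀ x, RatV F₀ x → RatV F₀ (Units.val g *ᵥ x) := by
  set r := a' - a
  have har : h a r = h a a' := by rw [O.sub_r, O.iso a ha, sub_zero]
  obtain ⟨g, hg, eg⟩ := O.tfull_rat (ha'.sub ha) (h a r)⁻¹
    (by rw [map_inv₀, O.skew _ _ ha (ha'.sub ha), neg_inv])
  refine ⟨g, hg, ?_, fun x hx => by rw [eg, tMap, hx, mul_zero, zero_smul, add_zero], fun x hx => ?_⟩
  rotate_left
  · rw [eg, tMap, inv_mul_eq_div]
    exact hx.addV ((ha'.sub ha).smul (O.div_mem (O.skew _ _ hx (ha'.sub ha)) (O.skew _ _ ha (ha'.sub ha))))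
  rw [eg, tMap, inv_mul_cancel₀ (har ▸ hne), one_smul, add_sub_cancel]

/-- A rational vector with a non-zero product. -/
lemma exists_pairing {a : VV} (ha0 : a ≠ 0) : ∃ x, RatV F₀ x ∧ h x a ≠ 0 := by
  by_contra hcon
  push Not at hcon
  refine ha0 (UnFour.eq_zero_of O.unit fun z => ?_)
  rw [pi_eq_sum_univ' z, un_sum_left O.unit]
  exact Finset.sum_eq_zero fun j _ => by rw [O.smul_l, hcon _ (ratV_single j F₀.one_mem), mul_zero]

/-- A rational vector orthogonal to one vector and not to another. -/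
lemma exists_pairing_perp {a b : VV} (ha : RatV F₀ a) (ha0 : a ≠ 0)
    (hab : b ∉ Submodule.span F ({a} : Set VV)) : ∃ y, RatV F₀ y ∧ h y a = 0 ∧ h y b ≠ 0 := by
  obtain ⟨x, hx, hxa⟩ := O.exists_pairing ha0
  by_contra hcon
  push Not at hcon
  have key : ∀ z, RatV F₀ z → h z b = h z a * (h x b / h x a) := fun z hz => by
    have h1 := hcon (z - (h z a / h x a) • x)
      (hz.sub (hx.smul (O.div_mem (O.skew _ _ hz ha) (O.skew _ _ hx ha))))
      (by rw [O.sub_l, O.smul_l, div_mul_cancel₀ _ hxa, sub_self])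
    rw [O.sub_l, O.smul_l, sub_eq_zero] at h1
    rw [h1]; ring
  refine hab (Submodule.mem_span_singleton.2 ⟨τ (h x b / h x a), un_fvec_injective O.unit (funext fun j => ?_)⟩)
  rw [un_fvec_smul O.unit, Pi.smul_apply, smul_eq_mul, O.unit.involutive]
  show _ * h (Pi.single j 1) a = h (Pi.single j 1) b
  rw [key _ (ratV_single j F₀.one_mem)]; ring

omit O in
lemma both_ne {a b : VV} {y y' : VV} (hf : ∀ u v w : VV, h (u + v) w = h u w + h v w)
    (h1 : h y a ≠ 0) (h2 : h y' b ≠ 0) :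
    (h y a ≠ 0 ∧ h y b ≠ 0) ∨ (h y' a ≠ 0 ∧ h y' b ≠ 0) ∨ (h (y + y') a ≠ 0 ∧ h (y + y') b ≠ 0) := by
  by_cases hb : h y b = 0
  · by_cases ha : h y' a = 0
    · refine Or.inr (Or.inr ⟨?_, ?_⟩)
      · rwa [hf, ha, add_zero]
      · rwa [hf, hb, zero_add]
    · exact Or.inr (Or.inl ⟨ha, h2⟩)
  · exact Or.inl ⟨h1, hb⟩

/-- Two non-zero rational vectors are conjugate. -/
lemma move_one {a a' : VV} (ha : RatV F₀ a) (ha' : RatV F₀ a') (ha0 : a ≠ 0) (ha0' : a' ≠ 0) :
    ∃ g ∈ H, Units.val g *ᵥ a = a' ∧ ∀ x, RatV F₀ x → RatV F₀ (Units.val g *ᵥ x) := by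
  by_cases hne : h a a' = 0
  · obtain ⟨y, hy, hya⟩ := O.exists_pairing ha0
    obtain ⟨y', hy', hya'⟩ := O.exists_pairing ha0'
    have hc : ∃ z, RatV F₀ z ∧ h z a ≠ 0 ∧ h z a' ≠ 0 := by
      rcases both_ne O.add_l hya hya' with ⟨h1, h2⟩ | ⟨h1, h2⟩ | ⟨h1, h2⟩
      exacts [⟨y, hy, h1, h2⟩, ⟨y', hy', h1, h2⟩, ⟨y + y', hy.addV hy', h1, h2⟩]
    obtain ⟨z, hz, hza, hza'⟩ := hc
    obtain ⟨g, hg, eg, -, gr⟩ := O.exists_step ha hz (fun e => hza (O.flip0 e))
    obtain ⟨g', hg', eg', -, gr'⟩ := O.exists_step hz ha' hza'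
    exact ⟨g' * g, mul_mem hg' hg, by rw [Units.val_mul, ← Matrix.mulVec_mulVec, eg, eg'],
      fun x hx => by rw [Units.val_mul, ← Matrix.mulVec_mulVec]; exact gr' _ (gr x hx)⟩
  · obtain ⟨g, hg, eg, -, gr⟩ := O.exists_step ha ha' hne
    exact ⟨g, hg, eg, gr⟩

/-- Two rational vectors orthogonal to a rational vector are conjugate fixing it. -/
lemma move_two {a b b' : VV} (ha : RatV F₀ a) (hb : RatV F₀ b) (hb' : RatV F₀ b') (ha0 : a ≠ 0)
    (hab : h a b = 0) (hab' : h a b' = 0) (hb0 : b ∉ Submodule.span F ({a} : Set VV))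
    (hb0' : b' ∉ Submodule.span F ({a} : Set VV)) :
    ∃ g ∈ H, Units.val g *ᵥ a = a ∧ Units.val g *ᵥ b = b' := by
  have step : ∀ {u v : VV}, RatV F₀ u → RatV F₀ v → h a u = 0 → h a v = 0 → h u v ≠ 0 →
      ∃ g ∈ H, Units.val g *ᵥ a = a ∧ Units.val g *ᵥ u = v := fun hu hv hau hav huv => by
    obtain ⟨g, hg, eg, fix, -⟩ := O.exists_step hu hv huv
    exact ⟨g, hg, fix a (by rw [O.sub_r, hav, hau, sub_zero]), eg⟩
  by_cases hne : h b b' = 0
  · obtain ⟨y, hy, hya, hyb⟩ := O.exists_pairing_perp ha ha0 hb0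
    obtain ⟨y', hy', hya', hyb'⟩ := O.exists_pairing_perp ha ha0 hb0'
    have hc : ∃ z, RatV F₀ z ∧ h z a = 0 ∧ h z b ≠ 0 ∧ h z b' ≠ 0 := by
      rcases both_ne O.add_l hyb hyb' with ⟨h1, h2⟩ | ⟨h1, h2⟩ | ⟨h1, h2⟩
      exacts [⟨y, hy, hya, h1, h2⟩, ⟨y', hy', hya', h1, h2⟩,
        ⟨y + y', hy.addV hy', by rw [O.add_l, hya, hya', add_zero], h1, h2⟩]
    obtain ⟨z, hz, hza, hzb, hzb'⟩ := hc
    obtain ⟨g, hg, ega, eg⟩ := step hb hz hab (O.flip0 hza) (fun e => hzb (O.flip0 e))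
    obtain ⟨g', hg', ega', eg'⟩ := step hz hb' (O.flip0 hza) hab' hzb'
    exact ⟨g' * g, mul_mem hg' hg, by rw [Units.val_mul, ← Matrix.mulVec_mulVec, ega, ega'],
      by rw [Units.val_mul, ← Matrix.mulVec_mulVec, eg, eg']⟩
  · exact step hb hb' hab hab' hne

omit O in
lemma indep_of {a b : VV} {ω : F} (hline : ∀ (c : F) (z : VV), RatV F₀ z → a + ω • b ≠ c • z)
    (ha : RatV F₀ a) (hb : RatV F₀ b) : a ≠ 0 ∧ b ∉ Submodule.span F ({a} : Set VV) := by
  refine ⟨fun e => hline ω b hb (by rw [e, zero_add]), fun e => ?_⟩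
  obtain ⟨c, hc⟩ := Submodule.mem_span_singleton.1 e
  exact hline (1 + ω * c) a ha (by rw [← hc]; module)

lemma decomp {ω : F} (hω : τ ω ≠ ω) (v : VV) : ∃ a b, RatV F₀ a ∧ RatV F₀ b ∧ v = a + ω • b := by
  have hd : ω - τ ω ≠ 0 := sub_ne_zero.2 (Ne.symm hω)
  have hd' : τ ω - ω ≠ 0 := sub_ne_zero.2 hω
  refine ⟨fun i => v i - ω * ((v i - τ (v i)) / (ω - τ ω)), fun i => (v i - τ (v i)) / (ω - τ ω),
    fun i => (O.fix _).1 ?_, fun i => (O.fix _).1 ?_, funext fun i => by simp⟩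
  · simp only [map_sub, map_mul, map_div₀, O.unit.involutive]
    field_simp
    ring
  · simp only [map_sub, map_div₀, O.unit.involutive]
    rw [div_eq_div_iff hd' hd]; ring

lemma norm_decomp {ω : F} (hω : τ ω ≠ ω) {a b : VV} (ha : RatV F₀ a) (hb : RatV F₀ b)
    (hv : h (a + ω • b) (a + ω • b) = 0) : h a b = 0 := by
  simp only [O.add_l, O.add_r, O.smul_l, O.smul_r, O.iso a ha, O.iso b hb, O.swap ha hb] at hv
  refine (mul_eq_zero.1 (show (τ ω - ω) * h a b = 0 by linear_combination hv)).resolve_left (sub_ne_zero.2 hω)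

/-- A full centre off the rational lines makes every isotropic vector full. -/
lemma full_of_centre {ω : F} (hω : τ ω ≠ ω) {v : VV} (hvv : h v v = 0)
    (hline : ∀ (c : F) (z : VV), RatV F₀ z → v ≠ c • z) (hv : TFull τ h H v) {w : VV} (hww : h w w = 0) :
    TFull τ h H w := by
  obtain ⟨a, b, ha, hb, rfl⟩ := O.decomp hω v
  obtain ⟨a', b', ha', hb', rfl⟩ := O.decomp hω w
  by_cases hl : ∀ (c : F) (z : VV), RatV F₀ z → a' + ω • b' ≠ c • z
  · obtain ⟨ha0, hb0⟩ := indep_of hline ha hb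
    obtain ⟨ha0', hb0'⟩ := indep_of hl ha' hb'
    obtain ⟨s, hs, esa, hsr⟩ := O.move_one ha ha' ha0 ha0'
    have hab := O.norm_decomp hω ha hb hvv
    have hab' := O.norm_decomp hω ha' hb' hww
    have hsi := suH_iso (O.le hs)
    obtain ⟨t, ht, eta, etb⟩ := O.move_two ha' (hsr b hb) hb' ha0' (by rw [← esa, hsi, hab]) hab' (fun e => by
        obtain ⟨c, hc⟩ := Submodule.mem_span_singleton.1 e
        refine hb0 (Submodule.mem_span_singleton.2 ⟨c, mulVec_inj s ?_⟩)
        show Units.val s *ᵥ (c • a) = Units.val s *ᵥ b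
        rw [Matrix.mulVec_smul, esa, hc]) hb0'
    have := O.tfull_move hv (mul_mem ht hs)
    rwa [Matrix.mulVec_add, Matrix.mulVec_smul, Units.val_mul, ← Matrix.mulVec_mulVec, esa, eta,
      ← Matrix.mulVec_mulVec, etb] at this
  · push Not at hl
    obtain ⟨c, z, hz, e⟩ := hl
    rw [e]
    exact O.tfull_smul (O.tfull_rat hz) c

/-- An element with rational image lines of all rational vectors is rational up to a scalar. -/
lemma rat_of_lines {g : GG}
    (hall : ∀ r, RatV F₀ r → ∃ (c : F) (z : VV), RatV F₀ z ∧ Units.val g *ᵥ r = c • z) : RatUpToScalar F₀ g := by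
  choose c z hz e using fun i : Fin 4 => hall _ (ratV_single i F₀.one_mem)
  have hc : ∀ i, c i ≠ 0 := fun i h0 => by
    have := e i
    rw [h0, zero_smul, ← Matrix.mulVec_zero (Units.val g)] at this
    exact one_ne_zero (α := F) (by simpa using congrFun (mulVec_inj g this) i)
  have key : ∀ i, c i / c 0 ∈ F₀ := fun i => by
    by_contra hcon
    have hi : i ≠ 0 := fun e0 => hcon (by rw [e0, div_self (hc 0)]; exact F₀.one_mem)
    obtain ⟨d, w, hw, ew⟩ := hall (Pi.single 0 1 + Pi.single i 1) ((ratV_single 0 F₀.one_mem).addV (ratV_single i F₀.one_mem))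
    rw [Matrix.mulVec_add, e, e] at ew
    set μ := c i / c 0
    set ν := d / c 0
    have h1 : ∀ l, z 0 l + μ * z i l = ν * w l := fun l => by
      have h0 := congrFun ew l
      simp only [Pi.add_apply, Pi.smul_apply, smul_eq_mul] at h0
      simp only [μ, ν]
      have := hc 0
      field_simp
      linear_combination h0
    have h2 : ∀ l, z 0 l + τ μ * z i l = τ ν * w l := fun l => by
      have := congrArg τ (h1 l)
      rwa [map_add, map_mul, map_mul, O.real_of_mem (hz 0 l), O.real_of_mem (hz i l), O.real_of_mem (hw l)] at this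
    have hμ : μ - τ μ ≠ 0 := sub_ne_zero.2 fun e0 => hcon ((O.fix _).1 e0.symm)
    have h3 : ∀ l, z i l = (ν - τ ν) / (μ - τ μ) * w l := fun l => by
      field_simp
      linear_combination h1 l - h2 l
    have h4 : ∀ l, z 0 l = (ν - μ * ((ν - τ ν) / (μ - τ μ))) * w l := fun l => by
      rw [sub_mul, mul_assoc, ← h3]; linear_combination h1 l
    generalize (ν - τ ν) / (μ - τ μ) = A at h3 h4
    generalize ν - μ * A = B at h4
    have h5 : Units.val g *ᵥ ((B * c 0) • Pi.single i 1 - (A * c i) • Pi.single 0 1) = Units.val g *ᵥ (0 : VV) := by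
      rw [Matrix.mulVec_sub, Matrix.mulVec_smul, Matrix.mulVec_smul, e, e, Matrix.mulVec_zero]
      funext l
      simp only [Pi.sub_apply, Pi.smul_apply, smul_eq_mul, Pi.zero_apply, h3, h4]
      ring
    have h6 := congrFun (mulVec_inj g h5) i
    simp [hi, hi.symm, hc] at h6
    have h8 := e 0
    rw [show z 0 = 0 from funext fun l => by rw [h4, h6, zero_mul]; rfl, smul_zero,
      ← Matrix.mulVec_zero (Units.val g)] at h8
    exact one_ne_zero (α := F) (by simpa using congrFun (mulVec_inj g h8) 0)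
  refine ⟨(c 0)⁻¹, inv_ne_zero (hc 0), fun i j => ?_⟩
  have h1 := congrFun (e j) i
  simp only [Matrix.mulVec_single_one, Matrix.col_apply, Pi.smul_apply, smul_eq_mul] at h1
  rw [Matrix.smul_apply, smul_eq_mul, h1, ← mul_assoc, inv_mul_eq_div]
  exact F₀.mul_mem (key j) (hz j i)

/-- Either everything is rational up to scalars or all transvections are present. -/
lemma rational_or_full {ω : F} (hω : τ ω ≠ ω) :
    (∀ g ∈ H, RatUpToScalar F₀ g) ∨ ∀ w, h w w = 0 → TFull τ h H w := by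
  by_cases hall : ∀ g ∈ H, ∀ r, RatV F₀ r → ∃ (c : F) (z : VV), RatV F₀ z ∧ Units.val g *ᵥ r = c • z
  · exact Or.inl fun g hg => O.rat_of_lines (hall g hg)
  · push Not at hall
    obtain ⟨g, hg, r, hr, hline⟩ := hall
    exact Or.inr fun w hw => O.full_of_centre hω
      (v := Units.val g *ᵥ r) (by rw [suH_iso (O.le hg)]; exact O.iso r hr) hline
      (O.tfull_move (O.tfull_rat hr) hg) hw

/-- An isometry which is not rational up to scalars. -/
lemma exists_irrational {ω : F} (hω : τ ω ≠ ω) : ∃ g ∈ suH h, ¬ RatUpToScalar F₀ g := by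
  classical
  let a : VV := Pi.single 0 1
  have ha : RatV F₀ a := ratV_single 0 F₀.one_mem
  have ha0 : a ≠ 0 := by simp [a]
  obtain ⟨x, hx, hxa⟩ := O.exists_pairing ha0
  obtain ⟨b, hb, hba, hb0⟩ : ∃ b, RatV F₀ b ∧ h b a = 0 ∧ b ∉ Submodule.span F ({a} : Set VV) := by
    by_contra hcon
    push Not at hcon
    have hle : (⊤ : Submodule F VV) ≤ Submodule.span F (Set.range ![a, x]) := fun y _ => by
      rw [pi_eq_sum_univ' y]
      refine Submodule.sum_mem _ fun j _ => Submodule.smul_mem _ _ ?_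
      have hr : RatV F₀ (Pi.single j 1 : VV) := ratV_single j F₀.one_mem
      have h1 := hcon (Pi.single j 1 - (h (Pi.single j 1) a / h x a) • x)
        (hr.sub (hx.smul (O.div_mem (O.skew _ _ hr ha) (O.skew _ _ hx ha))))
        (by rw [O.sub_l, O.smul_l, div_mul_cancel₀ _ hxa, sub_self])
      obtain ⟨c, hc⟩ := Submodule.mem_span_singleton.1 h1
      rw [eq_add_of_sub_eq hc.symm]
      exact add_mem (Submodule.smul_mem _ _ (Submodule.subset_span ⟨0, rfl⟩))
        (Submodule.smul_mem _ _ (Submodule.subset_span ⟨1, rfl⟩))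
    have h1 := (Submodule.finrank_mono hle).trans (finrank_range_le_card ![a, x])
    simp at h1
  have hab := O.flip0 hba
  have hvv : h (a + ω • b) (a + ω • b) = 0 := by
    simp only [O.add_l, O.add_r, O.smul_l, O.smul_r, O.iso a ha, O.iso b hb, hab, hba]; ring
  obtain ⟨k, hk0, hk⟩ := un_skew_exists O.unit
  refine ⟨tv (k • (a + ω • b)) (fvec h (a + ω • b)) (un_tv_dot O.unit hvv k),
    ⟨fun x y => un_tv_isometry O.unit hvv hk x y, tv_mem_specialLinear _ _ _⟩, ?_⟩
  rintro ⟨c, hc, hM⟩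
  have key : ∀ x, RatV F₀ x → RatV F₀ (c • x + (c * k * h x (a + ω • b)) • (a + ω • b)) := fun x hx => by
    have h1 := hM.mulVec hx
    rw [Matrix.smul_mulVec, tv_mulVec, un_dot O.unit, smul_add, smul_smul, smul_smul] at h1
    rwa [show c * k * h x (a + ω • b) = c * h x (a + ω • b) * k by ring]
  have hcF : c ∈ F₀ := by
    have h1 := key a ha 0
    simpa [O.add_r, O.smul_r, O.iso a ha, hab, a] using h1
  obtain ⟨z, hz, hzv⟩ : ∃ z, RatV F₀ z ∧ h z (a + ω • b) ≠ 0 := O.exists_pairing fun e => by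
    refine hb0 ?_
    have hb' : b = 0 := funext fun l => by
      by_contra hl
      have h1 : a l + ω * b l = 0 := by simpa using congrFun e l
      refine hω (O.real_of_mem ?_)
      have h2 : -a l / b l = ω := by rw [div_eq_iff hl]; linear_combination -h1
      rw [← h2]
      exact F₀.div_mem (F₀.neg_mem (ha l)) (hb l)
    rw [hb']; exact zero_mem _
  have hs := (key z hz).sub (hz.smul hcF)
  rw [add_sub_cancel_left] at hs
  have hs0 : c * k * h z (a + ω • b) ≠ 0 := mul_ne_zero (mul_ne_zero hc hk0) hzv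
  generalize c * k * h z (a + ω • b) = s at hs hs0
  have h1 : ∀ l, s * a l + s * ω * b l ∈ F₀ := fun l => by
    have := hs l
    simpa [mul_add, mul_assoc] using this
  have h2 : (s - τ s) • a + (s * ω - τ (s * ω)) • b = 0 := funext fun l => by
    have := O.real_of_mem (h1 l)
    simp only [map_add, map_mul, O.real_of_mem (ha l), O.real_of_mem (hb l)] at this
    simp only [Pi.add_apply, Pi.smul_apply, smul_eq_mul, Pi.zero_apply, map_mul]
    linear_combination -this
  by_cases h3 : s * ω - τ (s * ω) = 0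
  · rw [h3, zero_smul, add_zero] at h2
    have hs' : τ s = s := (sub_eq_zero.1 ((smul_eq_zero.1 h2).resolve_right ha0)).symm
    rw [map_mul, hs', ← mul_sub] at h3
    exact hω (sub_eq_zero.1 ((mul_eq_zero.1 h3).resolve_left hs0)).symm
  · refine hb0 (Submodule.mem_span_singleton.2 ⟨-(s - τ s) / (s * ω - τ (s * ω)), funext fun l => ?_⟩)
    have := congrFun h2 l
    simp only [Pi.add_apply, Pi.smul_apply, smul_eq_mul, Pi.zero_apply] at this ⊢
    field_simp
    linear_combination -this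

end Symp4

/-- The symplectic subfield subgroups of `SU₄(q)` are maximal. -/
theorem symp_maximal {q : ℕ} (K : Ctx 4 q τ) (F₀ : Subfield F) (P : GG) {ζ : F}
    (hcard : Fintype.card F = Nat.card F₀ ^ 2) (hζ0 : ζ ≠ 0) (hζ : ζ + ζ ^ q = 0)
    (hrat : Cfsg.Geo.IsFormRationalStructure (Cfsg.hermForm 4 F q) F₀ ζ P)
    (hiso : ∀ u : VV, (∀ i, u i ∈ F₀) → Cfsg.hermForm 4 F q (Units.val P *ᵥ u) (Units.val P *ᵥ u) = 0) :
    Cfsg.Geo.IsMaximalIn (suGL 4 F q) (Cfsg.Geo.subfieldSubgroup F₀ P ⊓ suGL 4 F q) := by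
  classical
  have hu := pullForm_unitary K.form P
  have hζ' : τ ζ = -ζ := by rw [K.pow]; linear_combination hζ
  have hskew : ∀ u v : VV, RatV F₀ u → RatV F₀ v → τ (pullForm q P u v) = -pullForm q P u v := fun u v hu hv => by
    have h1 := (fix_iff_mem K hcard _).2 (hrat u v hu hv)
    rw [map_mul, hζ'] at h1
    refine mul_left_cancel₀ hζ0 ?_
    show ζ * τ (Cfsg.hermForm 4 F q _ _) = ζ * -Cfsg.hermForm 4 F q _ _
    linear_combination -h1
  have hSymp : ∀ H : Subgroup GG, H ≤ suH (pullForm q P) →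
      (∀ g, g ∈ suH (pullForm q P) → RatUpToScalar F₀ g → g ∈ H) → Symp4 τ (pullForm q P) F₀ H :=
    fun H h1 h3 => ⟨hu, fix_iff_mem K hcard, hskew, hiso, h1, h3⟩
  obtain ⟨ω, hω⟩ : ∃ ω : F, τ ω ≠ ω := by
    by_contra! hall; exact K.form.ne_refl (RingEquiv.ext hall)
  refine ⟨lt_of_le_of_ne inf_le_right fun heq => ?_, fun M hSM hMK => ?_⟩
  · obtain ⟨g, hg, hirr⟩ := (hSymp (suH (pullForm q P)) le_rfl fun _ h _ => h).exists_irrational hω
    have h1 := ((SetLike.ext_iff.1 heq _).2 ((conj_mem_suGL P g).2 hg)).1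
    have h3 := (mem_subfieldSubgroup_iff P _).1 h1
    rw [show P⁻¹ * (P * g * P⁻¹) * P = g by group] at h3
    exact hirr h3
  · let H : Subgroup GG := M.map (MulAut.conj P⁻¹).toMonoidHom
    have memH : ∀ g, g ∈ H ↔ P * g * P⁻¹ ∈ M := fun g => by
      constructor
      · rintro ⟨x, hx, rfl⟩
        simpa [MulAut.conj_apply, mul_assoc] using hx
      · intro hg; exact ⟨_, hg, by simp [MulAut.conj_apply, mul_assoc]⟩
    have OH := hSymp H (fun g hg => (conj_mem_suGL P g).1 (hMK ((memH g).1 hg)))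
      (fun g hg hrat => (memH g).2 (hSM ⟨(mem_subfieldSubgroup_iff P _).2 (by
        rwa [show P⁻¹ * (P * g * P⁻¹) * P = g by group]), (conj_mem_suGL P g).2 hg⟩))
    rcases OH.rational_or_full hω with hrig | hfull
    · refine Or.inl (le_antisymm (fun g hg => ⟨(mem_subfieldSubgroup_iff P g).2 (hrig _ ((memH _).2 (by
        rwa [show P * (P⁻¹ * g * P) * P⁻¹ = g by group]))), hMK hg⟩) hSM)
    · refine Or.inr (le_antisymm hMK ?_)
      refine suGL_le_of_full K.form K.card (by norm_num) fun v hv k hk => ?_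
      obtain ⟨u, rfl⟩ := mulVec_surj P v
      obtain ⟨g, hg, eg⟩ := hfull u hv k hk
      refine ⟨un_tv_dot K.form hv k, ?_⟩
      convert (memH g).1 hg using 1
      refine Units.ext (CfsgLib.Geometry.matrix_eq_of_mulVec fun x => ?_)
      obtain ⟨x, rfl⟩ := mulVec_surj P x
      show Units.val (tv _ _ _) *ᵥ (Units.val P *ᵥ x) = Units.val (P * g * P⁻¹) *ᵥ (Units.val P *ᵥ x)
      rw [Matrix.mulVec_mulVec x (Units.val (P * g * P⁻¹)), ← Units.val_mul, inv_mul_cancel_right, Units.val_mul,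
        ← Matrix.mulVec_mulVec, eg, tv_mulVec, un_dot K.form, smul_smul]
      simp only [tMap, Matrix.mulVec_add, Matrix.mulVec_smul, pullForm]
      rw [mul_comm]

end CfsgLib.Maximal.SUFour
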