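import Cfsg.Agent.Lib.Maximal.SymplFour.Facts
import Cfsg.Agent.Lib.Maximal.SymplFour.Frame
import Cfsg.Agent.Lib.Maximal.SUFour.KleinSix
import Cfsg.Agent.Lib.OrthFrame.Main

/-!
The normaliser of a symplectic-type group of order `64` is maximal in `SU₄(p)`: under the Klein correspondence it
is the stabiliser of a frame of six isometric lines of the six-space of minus type.
-/

set_option autoImplicit false
set_option linter.unusedSectionVars false

open scoped Classical commutatorElement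

namespace CfsgLib.Maximal.SUFour.SymplSU

open QuadraticMap CfsgLib.Geometry CfsgLib.Classical Matrix
open CfsgLib.Maximal.SymplFour (Facts det_of_anticomm span_common flip_invariant perm_of_conj conj_of_perm)
open CfsgLib.Maximal.SUFour.Klein6

section fact

variable {K : Type*} [Field K] [Fintype K]

local notation "GL4" => Matrix.GeneralLinearGroup (Fin 4) K
local notation "M4" => Matrix (Fin 4) (Fin 4) K

/-- A symplectic-type group of order `64` with centre of order `4` has the facts used. -/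
theorem facts {R : Subgroup (Matrix.GeneralLinearGroup (Fin 4) K)} (h2 : (2 : K) ≠ 0)
    (hS : Cfsg.Geo.IsSymplecticTypeGroup 2 R) (hirr : Cfsg.Geo.ActsAbsolutelyIrreducibly (Cfsg.Geo.matrixSet R))
    (h64 : Nat.card R = 64) (hZ4 : Nat.card (Subgroup.center R) = 4) : ∃ z : R, Facts R z := by
  haveI : Finite GL4 := Finite.of_injective (fun g : GL4 => (g : M4)) fun a b h => Units.ext h
  haveI := Fintype.ofFinite R
  set M : R → M4 := fun r => ((r : GL4) : M4) with hM
  have hMinj : Function.Injective M := fun a b h => Subtype.ext (Units.ext h)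
  have hMmul : ∀ a b, M (a * b) = M a * M b := fun a b => rfl
  have hM1 : M 1 = 1 := rfl
  -- the centre is the fourth roots of unity
  have hcomm_all : ∀ A : M4, (∀ s : R, A * M s = M s * A) → ∃ c : K, A = c • (1 : M4) := fun A h =>
    hirr.2 A (by rintro _ ⟨g, hg, rfl⟩; exact h ⟨g, hg⟩)
  have hexp : ∀ t : R, t ^ 4 = 1 := fun t => by
    have := Monoid.pow_exponent_eq_one t
    rwa [hS.exponent_eq, show Nat.gcd 2 2 = 2 by rfl] at this
  have hcenter : ∀ r : R, r ∈ Subgroup.center R → ∃ c : K, c ^ 4 = 1 ∧ M r = c • (1 : M4) := fun r hr => by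
    obtain ⟨c, hc⟩ := hcomm_all (M r) fun s => by rw [← hMmul, ← hMmul, Subgroup.mem_center_iff.1 hr s]
    refine ⟨c, ?_, hc⟩
    have h1 : M (r ^ 4) = 1 := by rw [hexp, hM1]
    rw [show r ^ 4 = r * r * (r * r) by simp [pow_succ, mul_assoc], hMmul, hMmul, hc] at h1
    have := congrFun (congrFun h1 0) 0
    simp at this
    linear_combination this
  have hscal : ∀ c : K, c ^ 4 = 1 → ∃ z : R, z ∈ Subgroup.center R ∧ M z = c • (1 : M4) := by
    intro c hc
    choose cf hcf hcM using fun z : Subgroup.center R => hcenter z z.2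
    have hinj : Function.Injective cf := fun a b h => Subtype.ext (hMinj (by rw [hcM a, hcM b, h]))
    by_contra hno
    push Not at hno
    let roots := (Polynomial.X ^ 4 - 1 : Polynomial K).roots.toFinset
    have hmem : ∀ x : K, x ^ 4 = 1 → x ∈ roots := fun x hx => by
      simp only [roots, Multiset.mem_toFinset, Polynomial.mem_roots']
      exact ⟨(Polynomial.monic_X_pow_sub_C (1 : K) (by norm_num : (4 : ℕ) ≠ 0)).ne_zero, by simp [hx]⟩
    have hle : roots.card ≤ 4 := (Multiset.toFinset_card_le _).trans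
      ((Polynomial.card_roots' _).trans (by
        rw [show (1 : Polynomial K) = Polynomial.C 1 by simp, Polynomial.natDegree_X_pow_sub_C]))
    haveI := Fintype.ofFinite (Subgroup.center R)
    have hsub : Finset.univ.image cf ⊆ roots.erase c := fun x hx => by
      obtain ⟨z, -, rfl⟩ := Finset.mem_image.1 hx
      exact Finset.mem_erase.2 ⟨fun h => hno z z.2 (by rw [hcM z, h]), hmem _ (hcf z)⟩
    have h1 := Finset.card_le_card hsub
    rw [Finset.card_image_of_injective _ hinj, Finset.card_univ, ← Nat.card_eq_fintype_card, hZ4,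
      Finset.card_erase_of_mem (hmem c hc)] at h1
    omega
  obtain ⟨z, hzc, hz⟩ := hscal (-1) (by ring)
  have hsign : ∀ r s : R, M r * M s = M s * M r ∨ M r * M s = -(M s * M r) := by
    intro r s
    have hT : Cfsg.IsOfSymplecticType R := ⟨hS.pGroup, hS.cyclic_of_characteristic⟩
    have hcc := CfsgLib.Techniques.SymplecticNeighbour.commutator_central hT hexp r s
    obtain ⟨c, hc4, hc⟩ := hcenter _ hcc.1
    have e : M r * M s = c • (M s * M r) := by
      rw [← one_mul (M s * M r), ← smul_mul_assoc, ← hc, ← hMmul, ← hMmul, ← hMmul, commutatorElement_def]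
      congr 1; group
    have h1 : M ⁅r, s⁆ * M ⁅r, s⁆ = 1 := by rw [← hMmul, hcc.2, hM1]
    rw [hc] at h1
    have := congrFun (congrFun h1 0) 0
    simp at this
    rcases mul_self_eq_one_iff.1 this with rfl | rfl
    · exact Or.inl (by rw [e, one_smul])
    · exact Or.inr (by rw [e, neg_one_smul])
  have hsq : ∀ r : R, ∃ c : K, c * c = 1 ∧ M r * M r = c • (1 : M4) := by
    intro r
    obtain ⟨c, -, hc⟩ := hcenter (r * r) (Subgroup.mem_center_iff.2 fun s => hMinj (by
      simp only [hMmul]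
      rcases hsign r s with h | h
      · rw [← mul_assoc, ← h, mul_assoc, ← h, ← mul_assoc]
      · refine (?_ : M r * M r * M s = M s * (M r * M r)).symm
        rw [mul_assoc, h, mul_neg, ← mul_assoc, h, neg_mul, neg_neg, mul_assoc]))
    rw [hMmul] at hc
    refine ⟨c, ?_, hc⟩
    have h1 : M (r ^ 4) = 1 := by rw [hexp, hM1]
    rw [show r ^ 4 = r * r * (r * r) by simp [pow_succ, mul_assoc], hMmul, hMmul, hc] at h1
    have := congrFun (congrFun h1 0) 0
    simp at this
    linear_combination this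
  have hanti : ∀ r : R, r ∉ Subgroup.center R → ∃ y : R, M y * M r = -(M r * M y) := by
    intro r hr
    by_contra hcon
    push Not at hcon
    exact hr (Subgroup.mem_center_iff.2 fun s => hMinj (by
      rw [hMmul, hMmul]; exact (hsign s r).resolve_right (hcon s)))
  have hdet : ∀ r : R, (M r).det = 1 := by
    intro r
    by_cases hr : r ∈ Subgroup.center R
    · obtain ⟨c, hc4, hc⟩ := hcenter r hr
      rw [hc, Matrix.det_smul, Matrix.det_one, mul_one, Fintype.card_fin, hc4]
    · obtain ⟨c, hc, hrr⟩ := hsq r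
      obtain ⟨y, hy⟩ := hanti r hr
      rw [det_of_anticomm h2 hrr (y := (y : GL4)) hy, hc]
  refine ⟨z, by show M z = -1; rw [hz, neg_one_smul], fun c hc => ?_, hsign, hsq, hdet, ?_⟩
  · obtain ⟨w, -, hw⟩ := hscal c hc; exact ⟨w, hw⟩
  · exact h64.ge

end fact

section main

variable {F K : Type*} [Field F] [Field K] [Algebra F K] [Fintype F] [Fintype K] {σ : K →+* K} {t : K} {a b : F}
  {e e' : K} {q : ℕ}

local notation "GL4" => Matrix.GeneralLinearGroup (Fin 4) K
local notation "M4" => Matrix (Fin 4) (Fin 4) K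
local notation "V6" => ((Fin 2 ⊕ Fin 2) ⊕ Fin 2 → F)
local notation "Q6" => matQuad (minusMat 2 F a b)

set_option maxHeartbeats 1000000 in
/-- Thirty-two commuting involutions in `Ω₆` diagonalise on a frame of isometric lines. -/
theorem six_basis (S : Setup σ t a b e e' q) (h2 : (2 : F) ≠ 0) {R : Type*} [Group R] [Finite R] (h64 : 64 ≤ Nat.card R)
    (ψ : R →* orth (matQuad (minusMat 2 F a b))) (z : R) (hfib : ∀ r s : R, ψ r = ψ s → s = r ∨ s = z * r)
    (hψinv : ∀ r : R, ψ r * ψ r = 1) (hψcomm : ∀ r s : R, ψ r * ψ s = ψ s * ψ r)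
    (hψrange : ∀ r, ψ r ∈ commutator (orth (matQuad (minusMat 2 F a b)))) :
    ∃ (bb : Module.Basis (Fin 6) F ((Fin 2 ⊕ Fin 2) ⊕ Fin 2 → F)) (sg : R → Finset (Fin 6)),
      (∀ r i, (ψ r : V6 ≃ₗ[F] V6) (bb i) = if i ∈ sg r then -(bb i) else bb i) ∧
      (∀ r, Even (sg r).card) ∧ (∀ S : Finset (Fin 6), Even S.card → ∃ r, sg r = S) ∧
      (∀ i j, i ≠ j → ∃ r, ¬ (i ∈ sg r ↔ j ∈ sg r)) ∧
      (∀ i j, i ≠ j → polar Q6 (bb i) (bb j) = 0) ∧ (∀ i, Q6 (bb i) ≠ 0) ∧
      ∀ j, ∃ t : F, t ≠ 0 ∧ Q6 (bb j) = t * t * Q6 (bb 0) := by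
  haveI := Fintype.ofFinite R
  have hspan := span_common (V := V6) h2 (Finset.univ.image fun r => (ψ r : V6 ≃ₗ[F] V6))
    (fun a ha v => by
      obtain ⟨r, -, rfl⟩ := Finset.mem_image.1 ha
      exact LinearEquiv.congr_fun (congrArg Subtype.val (hψinv r)) v)
    (fun a ha bb hb v => by
      obtain ⟨r, -, rfl⟩ := Finset.mem_image.1 ha
      obtain ⟨s, -, rfl⟩ := Finset.mem_image.1 hb
      exact LinearEquiv.congr_fun (congrArg Subtype.val (hψcomm r s)) v)
  obtain ⟨T, hT, hTspan, hTli⟩ := exists_linearIndependent F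
    {v : V6 | ∀ a ∈ Finset.univ.image (fun r => (ψ r : V6 ≃ₗ[F] V6)), a v = v ∨ a v = -v}
  rw [hspan] at hTspan
  let b₀ := Module.Basis.mk hTli (by rw [Subtype.range_coe, hTspan])
  haveI : Fintype T := hTli.setFinite.fintype
  let bb : Module.Basis (Fin 6) F V6 := b₀.reindex ((Fintype.equivFinOfCardEq (by
    rw [← Module.finrank_eq_card_basis b₀]; simp)))
  have hbv : ∀ i, ∀ r : R, (ψ r : V6 ≃ₗ[F] V6) (bb i) = bb i ∨ (ψ r : V6 ≃ₗ[F] V6) (bb i) = -(bb i) := fun i r => by
    have : bb i ∈ T := by simp [bb, b₀]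
    exact hT this _ (Finset.mem_image_of_mem _ (Finset.mem_univ r))
  let sg : R → Finset (Fin 6) := fun r => Finset.univ.filter fun i => (ψ r : V6 ≃ₗ[F] V6) (bb i) ≠ bb i
  have hsg : ∀ r i, (ψ r : V6 ≃ₗ[F] V6) (bb i) = if i ∈ sg r then -(bb i) else bb i := fun r i => by
    by_cases h : (ψ r : V6 ≃ₗ[F] V6) (bb i) = bb i
    · rw [if_neg (by simp [sg, h]), h]
    · rw [if_pos (by simp [sg, h])]; exact (hbv i r).resolve_left h
  have hsg_ext : ∀ r s, sg r = sg s → ψ r = ψ s := fun r s h =>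
    Subtype.ext (LinearEquiv.toLinearMap_injective (bb.ext fun i => by
      show (ψ r : V6 ≃ₗ[F] V6) (bb i) = (ψ s : V6 ≃ₗ[F] V6) (bb i); rw [hsg, hsg, h]))
  have hcount : ∀ 𝒮 : Finset (Finset (Fin 6)), (∀ r, sg r ∈ 𝒮) → Nat.card R ≤ 2 * 𝒮.card := by
    intro 𝒮 h𝒮
    rw [Nat.card_eq_fintype_card, ← Finset.card_univ,
      Finset.card_eq_sum_card_fiberwise (t := 𝒮) (f := sg) (fun r _ => h𝒮 r), mul_comm, ← smul_eq_mul]
    refine Finset.sum_le_card_nsmul _ _ _ fun S _ => ?_
    rcases (Finset.univ.filter fun r => sg r = S).eq_empty_or_nonempty with h | ⟨r₀, hr₀⟩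
    · rw [h]; simp
    simp only [Finset.mem_filter, Finset.mem_univ, true_and] at hr₀
    refine (Finset.card_le_card (t := {r₀, z * r₀}) fun s hs => ?_).trans Finset.card_le_two
    simp only [Finset.mem_filter, Finset.mem_univ, true_and] at hs
    simpa using hfib r₀ s (hsg_ext _ _ (hr₀.trans hs.symm))
  have hdet6 : ∀ r : R, LinearMap.det ((ψ r : V6 ≃ₗ[F] V6) : V6 →ₗ[F] V6) = (-1) ^ (sg r).card := by
    intro r
    rw [← LinearMap.det_toMatrix bb]
    have e : LinearMap.toMatrix bb bb ((ψ r : V6 ≃ₗ[F] V6) : V6 →ₗ[F] V6) =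
        Matrix.diagonal fun i => if i ∈ sg r then (-1 : F) else 1 := by
      ext i j
      rw [LinearMap.toMatrix_apply, LinearEquiv.coe_coe, hsg]
      by_cases hij : i = j
      · subst hij; rw [Matrix.diagonal_apply_eq]; split_ifs <;> simp
      · rw [Matrix.diagonal_apply_ne _ hij]; split_ifs <;> simp [Ne.symm hij]
    rw [e, Matrix.det_diagonal, Finset.prod_ite_mem, Finset.univ_inter, Finset.prod_const]
  have hQ := nondeg S
  have hdetone : ∀ g ∈ commutator (orth Q6), LinearMap.det ((g : V6 ≃ₗ[F] V6) : V6 →ₗ[F] V6) = 1 := by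
    let d : orth Q6 →* F :=
      { toFun := fun g => LinearMap.det ((g : V6 ≃ₗ[F] V6) : V6 →ₗ[F] V6)
        map_one' := LinearMap.det_id
        map_mul' := fun g h => LinearMap.det_comp _ _ }
    intro g hg
    have hle : commutator (orth Q6) ≤ d.toHomUnits.ker := Abelianization.commutator_subset_ker _
    exact congrArg Units.val (hle hg)
  have heven : ∀ r, Even (sg r).card := fun r => by
    have h := hdetone _ (hψrange r)
    rw [hdet6] at h
    exact (neg_one_pow_eq_one_iff_even (fun h => h2 (by linear_combination -h))).1 h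
  have hsep : ∀ i j, i ≠ j → ∃ r, ¬ (i ∈ sg r ↔ j ∈ sg r) := by
    intro i j hij
    by_contra h
    push Not at h
    have h1 := hcount ((Finset.univ : Finset (Finset (Fin 6))).filter fun S => Even S.card ∧ (i ∈ S ↔ j ∈ S))
      (fun r => by simp only [Finset.mem_filter, Finset.mem_univ, true_and]; exact ⟨heven r, h r⟩)
    have h3 : ∀ i j : Fin 6, i ≠ j →
        ((Finset.univ : Finset (Finset (Fin 6))).filter fun S => Even S.card ∧ (i ∈ S ↔ j ∈ S)).card ≤ 16 := by
      decide +kernel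
    have h5 := h3 i j hij
    omega
  have hall : ∀ S : Finset (Fin 6), Even S.card → ∃ r, sg r = S := by
    intro S hS
    by_contra h
    push Not at h
    have h1 := hcount (((Finset.univ : Finset (Finset (Fin 6))).filter fun T => Even T.card).erase S)
      (fun r => Finset.mem_erase.2 ⟨h r, by simp only [Finset.mem_filter, Finset.mem_univ, true_and]; exact heven r⟩)
    rw [Finset.card_erase_of_mem (by simp [hS]),
      show ((Finset.univ : Finset (Finset (Fin 6))).filter fun T => Even T.card).card = 32 by decide +kernel] at h1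
    omega
  have horth : ∀ i j, i ≠ j → polar Q6 (bb i) (bb j) = 0 := by
    intro i j hij
    obtain ⟨r, hr⟩ := hsep i j hij
    have h1 := orth_polar (ψ r).2 (bb i) (bb j)
    rw [hsg, hsg] at h1
    by_cases hi : i ∈ sg r <;> by_cases hj : j ∈ sg r <;> simp [hi, hj, polar_neg_left, polar_neg_right] at hr h1 <;>
      exact (mul_eq_zero.1 (show (2 : F) * polar Q6 (bb i) (bb j) = 0 by linear_combination -h1)).resolve_left h2
  have hbQ : ∀ i, Q6 (bb i) ≠ 0 := by
    intro i h
    refine bb.ne_zero i (hQ.1 (bb i) fun w => ?_)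
    conv_lhs => rw [← bb.sum_repr w]
    rw [map_sum]
    refine Finset.sum_eq_zero fun j _ => ?_
    rw [map_smul, polarBilin_apply_apply]
    by_cases hij : i = j
    · subst hij; rw [polar_self', h, mul_zero, smul_zero]
    · rw [horth i j hij, smul_zero]
  have hclass : ∀ j, ∃ t : F, t ≠ 0 ∧ Q6 (bb j) = t * t * Q6 (bb 0) := by
    intro j
    by_cases hj : j = 0
    · exact ⟨1, one_ne_zero, by rw [hj]; ring⟩
    obtain ⟨r, hr⟩ := hall {0, j} (by rw [Finset.card_pair (Ne.symm hj)]; exact even_two)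
    obtain ⟨-, s, hs⟩ := flip_invariant h2 hQ bb horth hbQ (ψ r) (hψrange r) (sg r) (hsg r)
    rw [hr, Finset.prod_pair (Ne.symm hj)] at hs
    have h0 := hbQ 0
    refine ⟨s / Q6 (bb 0), div_ne_zero (fun e => mul_ne_zero h0 (hbQ j) (by rw [hs, e, mul_zero])) h0, ?_⟩
    field_simp
    linear_combination hs
  exact ⟨bb, sg, hsg, heven, hall, hsep, horth, hbQ, hclass⟩


set_option maxHeartbeats 1000000 in
/-- The normaliser of a symplectic-type group is maximal in `SU₄(p)`. -/
theorem symplectic_maximal_aux [Fact (Nat.card F).Prime] (S : Setup σ t a b e e' q) (hodd : Odd q)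
    {R : Subgroup (Matrix.GeneralLinearGroup (Fin 4) K)}
    (hRS : Cfsg.Geo.IsSymplecticTypeGroup 2 R) (hirr : Cfsg.Geo.ActsAbsolutelyIrreducibly (Cfsg.Geo.matrixSet R))
    (hle : R ≤ Cfsg.GU 4 K q) (hR64 : Nat.card R = 64) (hZ4 : Nat.card (Subgroup.center R) = 4) :
    Cfsg.Geo.IsMaximalIn (suGL 4 K q) (Cfsg.Geo.subgroupNormalizer R ⊓ suGL 4 K q) := by
  have h2F : (2 : F) ≠ 0 := Ring.two_ne_zero fun h => by
    have := FiniteField.even_card_of_char_two h
    rw [← Nat.card_eq_fintype_card, S.cardF] at this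
    exact Nat.not_even_iff_odd.2 hodd (Nat.even_iff.2 this)
  have h2 : (2 : K) ≠ 0 := Ring.two_ne_zero fun h => by
    have := FiniteField.even_card_of_char_two h
    rw [← Nat.card_eq_fintype_card, S.cardK] at this
    exact Nat.not_even_iff_odd.2 hodd.pow (Nat.even_iff.2 this)
  haveI : Finite GL4 := Finite.of_injective (fun g : GL4 => (g : M4)) fun a b h => Units.ext h
  haveI := Fintype.ofFinite R
  obtain ⟨z, hT⟩ := facts h2 hRS hirr hR64 hZ4
  obtain ⟨hz, hscal, hsign, hsq, hdet, h64⟩ := hT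
  set M : R → M4 := fun r => ((r : GL4) : M4) with hM
  have hMinj : Function.Injective M := fun a b h => Subtype.ext (Units.ext h)
  have hMmul : ∀ a b, M (a * b) = M a * M b := fun a b => rfl
  have hM1 : M 1 = 1 := rfl
  -- the image in the six-space
  let toS : R →* ↥(Cfsg.SU 4 K q) :=
    { toFun := fun r => ⟨⟨M r, hdet r⟩, fun u v => (mem_GU_iff (r : GL4)).1 (hle r.2) u v⟩
      map_one' := rfl
      map_mul' := fun a b => rfl }
  have e_j : ∀ r : R, jSU K q (toS r) = (r : GL4) := fun r => Units.ext rfl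
  set ψ : R →* orth Q6 := (toO6 S).comp toS with hψ
  have hker : ∀ r, ψ r = 1 → M r = 1 ∨ M r = -1 := fun r hr => by
    obtain ⟨c, hc, hm⟩ := toO6_ker S (g := toS r) hr
    change M r = _ at hm
    rw [← Matrix.smul_one_eq_diagonal] at hm
    rcases mul_self_eq_one_iff.1 hc with rfl | rfl
    · exact Or.inl (by rw [hm, one_smul])
    · exact Or.inr (by rw [hm, neg_one_smul])
  have hker' : ∀ g : Cfsg.SU 4 K q, (g.1.1 = 1 ∨ g.1.1 = -1) → toO6 S g = 1 := by
    intro g hg
    rcases hg with h | h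
    · exact toO6_of_scalar S (c := 1) (one_mul 1) (by rw [h, one_smul])
    · exact toO6_of_scalar S (c := -1) (by ring) (by rw [h, neg_one_smul])
  have hψz : ψ z = 1 := hker' _ (Or.inr hz)
  have hψinv : ∀ r : R, ψ r * ψ r = 1 := by
    intro r
    rw [← map_mul]
    obtain ⟨c, hc, hrr⟩ := hsq r
    refine hker' _ ?_
    show M (r * r) = 1 ∨ M (r * r) = -1
    rw [hMmul, hrr]
    rcases mul_self_eq_one_iff.1 hc with rfl | rfl
    · exact Or.inl (one_smul _ _)
    · exact Or.inr (neg_one_smul _ _)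
  have hψcomm : ∀ r s : R, ψ r * ψ s = ψ s * ψ r := by
    intro r s
    rw [← map_mul, ← map_mul]
    rcases hsign r s with h | h
    · rw [show r * s = s * r from hMinj (by rw [hMmul, hMmul, h])]
    · rw [show r * s = z * (s * r) from hMinj (by rw [hMmul, hMmul, hMmul, show M z = -1 from hz, neg_one_mul]; exact h),
        map_mul, hψz, one_mul]
  have hfib : ∀ r s : R, ψ r = ψ s → s = r ∨ s = z * r := by
    intro r s h
    have h1 : ψ (s * r⁻¹) = 1 := by rw [map_mul, map_inv, h, mul_inv_cancel]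
    rcases hker _ h1 with h3 | h3
    · exact Or.inl (by
        have : s * r⁻¹ = 1 := hMinj (h3.trans hM1.symm)
        rwa [mul_inv_eq_one] at this)
    · exact Or.inr (by
        have : s * r⁻¹ = z := hMinj (h3.trans hz.symm)
        rwa [mul_inv_eq_iff_eq_mul] at this)
  have hQ := nondeg S
  have hψrange : ∀ r, ψ r ∈ commutator (orth Q6) := fun r => by
    rw [← range_toO6 S]; exact ⟨toS r, rfl⟩
  obtain ⟨bb, sg, hsg, heven, hall, hsep, horth, hbQ, hclass⟩ :=
    six_basis S h2F h64 ψ z hfib hψinv hψcomm hψrange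
  have hbv : ∀ i, ∀ r : R, (ψ r : V6 ≃ₗ[F] V6) (bb i) = bb i ∨ (ψ r : V6 ≃ₗ[F] V6) (bb i) = -(bb i) := fun i r => by
    rw [hsg]; split_ifs <;> simp
  choose tt htt hQt using hclass
  let v : Fin 6 → V6 := fun i => (tt i)⁻¹ • bb i
  have hvQ : ∀ i, Q6 (v i) = Q6 (bb 0) := fun i => by
    show Q6 ((tt i)⁻¹ • bb i) = _
    rw [CfsgLib.Geometry.map_smul', hQt]
    have := htt i
    field_simp
  have hv0 : ∀ i, v i ≠ 0 := fun i h => bb.ne_zero i (by
    have := congrArg (fun w => tt i • w) h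
    simpa [v, smul_smul, mul_inv_cancel₀ (htt i)] using this)
  let D : Fin 6 → Submodule F V6 := fun i => Submodule.span F {v i}
  have hDb : ∀ i, D i = Submodule.span F {bb i} := fun i => by
    show Submodule.span F {(tt i)⁻¹ • bb i} = _
    exact Submodule.span_singleton_smul_eq (Ne.isUnit (inv_ne_zero (htt i))) _
  have hD : Cfsg.Geo.IsOrthogonalMDecomposition (⇑Q6) 1 D := by
    refine ⟨⟨⟨by norm_num, one_pos, fun i => finrank_span_singleton (hv0 i), ?_, ?_⟩, ?_, ?_⟩, ?_⟩
    · rw [show D = fun i => Submodule.span F {bb i} from funext hDb]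
      exact bb.linearIndependent.iSupIndep_span_singleton
    · rw [show iSup D = ⨆ i, Submodule.span F {bb i} from iSup_congr hDb, ← Submodule.span_range_eq_iSup, bb.span_eq]
    · intro i w hw hw0
      obtain ⟨c, rfl⟩ := Submodule.mem_span_singleton.1 hw
      have hc : c ≠ 0 := fun h => hw0 (by rw [h, zero_smul])
      have hne : 2 * Q6 (v i) ≠ 0 := mul_ne_zero h2F (by rw [hvQ]; exact hbQ 0)
      exact ⟨⟨v i, Submodule.mem_span_singleton_self _, by
          rw [polar_smul_right', polar_self']; exact mul_ne_zero hc hne⟩,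
        ⟨v i, Submodule.mem_span_singleton_self _, by
          rw [polar_smul_left', polar_self']; exact mul_ne_zero hc hne⟩⟩
    · intro i j hij a ha c hc
      rw [hDb] at ha hc
      obtain ⟨x, rfl⟩ := Submodule.mem_span_singleton.1 ha
      obtain ⟨y, rfl⟩ := Submodule.mem_span_singleton.1 hc
      rw [polar_smul_left', polar_smul_right', horth i j hij, mul_zero, mul_zero]
    · intro i j
      refine ⟨(LinearEquiv.toSpanNonzeroSingleton F V6 (v i) (hv0 i)).symm.trans
        (LinearEquiv.toSpanNonzeroSingleton F V6 (v j) (hv0 j)), fun w => ?_⟩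
      obtain ⟨c, rfl⟩ := (LinearEquiv.toSpanNonzeroSingleton F V6 (v i) (hv0 i)).surjective w
      rw [LinearEquiv.trans_apply, LinearEquiv.symm_apply_apply]
      show Q6 (c • v j) = Q6 (c • v i)
      simp only [CfsgLib.Geometry.map_smul', hvQ]
  refine maximal_of_omega S (T := Cfsg.Geo.decompositionStabilizer D) (fun x => ?_)
    (CfsgLib.OrthFrame.frame_maximal_six h2F hQ (by simp) hD)
  obtain ⟨Φ, hΦ⟩ : ∃ Φ : ↥(Cfsg.SU 4 K q) →* orth Q6, Φ = toO6 S := ⟨_, rfl⟩
  have hψΦ : ∀ r, ψ r = Φ (toS r) := fun r => by rw [hΦ]; rfl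
  have hΦker : ∀ g, Φ g = 1 → ∃ c : K, c * c = 1 ∧ g.1.1 = Matrix.diagonal fun _ => c := fun g hg => by
    rw [hΦ] at hg; exact toO6_ker S hg
  have hlin := toGL6_toLin S x
  rw [← hΦ] at hlin
  clear hΦ hψ
  clear_value ψ
  have hconjψ : ∀ r s : R, (s : GL4) = jSU K q x * r * (jSU K q x)⁻¹ →
      ψ s = Φ x * ψ r * (Φ x)⁻¹ := by
    intro r s h
    rw [hψΦ, hψΦ, ← map_mul, ← map_inv, ← map_mul]
    congr 1
    apply jSU_injective
    rw [map_mul, map_mul, map_inv]
    have e : ∀ r : R, jSU K q (toS r) = (r : GL4) := fun r => Units.ext rfl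
    rw [e, e, h]
  constructor
  · intro hn
    obtain ⟨π, hπ⟩ := perm_of_conj h2F hsg hsep (Φ x) fun s => by
      refine ⟨⟨(jSU K q x)⁻¹ * (s : GL4) * jSU K q x, ?_⟩, hconjψ _ _ ?_⟩
      · have := (Subgroup.mem_set_normalizer_iff.1 (inv_mem hn) (s : GL4)).1 s.2
        rwa [inv_inv] at this
      · show (s : GL4) = _ * (_ * (s : GL4) * _) * _
        group
    refine ⟨π, fun i => ?_⟩
    simp only [hDb]
    rw [hlin, Submodule.map_span, Set.image_singleton]
    obtain ⟨c, hc⟩ := hπ i
    rw [LinearEquiv.coe_coe, hc]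
    exact Submodule.span_singleton_smul_eq (Ne.isUnit fun e => bb.ne_zero i
      ((Φ x : V6 ≃ₗ[F] V6).map_eq_zero_iff.1 (by rw [hc, e, zero_smul]))) _
  · rintro ⟨π, hπ⟩
    have hmove : ∀ i, ∃ c : F, (Φ x : V6 ≃ₗ[F] V6) (bb i) = c • bb (π i) := by
      intro i
      have : (Φ x : V6 ≃ₗ[F] V6) (bb i) ∈ Submodule.span F {bb (π i)} := by
        rw [← hDb, ← hπ i, hDb, hlin]
        exact ⟨bb i, Submodule.mem_span_singleton_self _, rfl⟩
      obtain ⟨c, hc⟩ := Submodule.mem_span_singleton.1 this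
      exact ⟨c, hc.symm⟩
    have hgR : ∀ r ∈ R, jSU K q x * r * (jSU K q x)⁻¹ ∈ R := by
      intro r hr
      obtain ⟨s, hs⟩ := hall ((sg ⟨r, hr⟩).image π) (by
        rw [Finset.card_image_of_injective _ π.injective]; exact heven _)
      have hψs := conj_of_perm hsg (Φ x) hmove hs
      have h1 : Φ ((toS s)⁻¹ * (x * toS ⟨r, hr⟩ * x⁻¹)) = 1 := by
        rw [map_mul, map_inv, map_mul, map_mul, map_inv, ← hψΦ, ← hψΦ, hψs, inv_mul_cancel]
      obtain ⟨c, hc, hm⟩ := hΦker _ h1
      rw [← Matrix.smul_one_eq_diagonal] at hm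
      obtain ⟨z', hz'⟩ := hscal c (by rw [show c ^ 4 = (c * c) * (c * c) by ring, hc, one_mul])
      have hval : jSU K q (x * toS ⟨r, hr⟩ * x⁻¹) = jSU K q x * r * (jSU K q x)⁻¹ := by
        rw [map_mul, map_mul, map_inv]
        congr 2
        exact Units.ext rfl
      rw [← hval, show x * toS ⟨r, hr⟩ * x⁻¹ = toS s * ((toS s)⁻¹ * (x * toS ⟨r, hr⟩ * x⁻¹)) by group,
        show toS s * ((toS s)⁻¹ * (x * toS ⟨r, hr⟩ * x⁻¹)) = toS (s * z') by
          rw [map_mul]
          congr 1
          exact Subtype.ext (Subtype.ext (hm.trans hz'.symm))]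
      convert (s * z').2 using 1
      exact Units.ext rfl
    refine Subgroup.mem_set_normalizer_iff.2 fun r => ⟨hgR r, fun hr => ?_⟩
    let c : R → R := fun s => ⟨jSU K q x * s * (jSU K q x)⁻¹, hgR s s.2⟩
    obtain ⟨s, hs⟩ := (Finite.injective_iff_surjective.1 (show Function.Injective c from fun a a' h =>
      Subtype.ext (by simpa [c] using congrArg Subtype.val h))) ⟨_, hr⟩
    have : (s : GL4) = r := by simpa [c] using congrArg Subtype.val hs
    exact this ▸ s.2

end main

/-- The normaliser of a symplectic-type group is maximal in `SU₄(p)`, `p ≡ 3` modulo `4`. -/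
theorem symplectic_maximal {K : Type*} [Field K] [Fintype K] {p : ℕ} (hp : p.Prime) (hp4 : p % 4 = 3)
    (hK : Fintype.card K = p ^ 2) {R : Subgroup (Matrix.GeneralLinearGroup (Fin 4) K)}
    (hRS : Cfsg.Geo.IsSymplecticTypeGroup 2 R) (hirr : Cfsg.Geo.ActsAbsolutelyIrreducibly (Cfsg.Geo.matrixSet R))
    (hle : R ≤ Cfsg.GU 4 K p) (hR64 : Nat.card R = 64) (hZ4 : Nat.card (Subgroup.center R) = 4) :
    Cfsg.Geo.IsMaximalIn (suGL 4 K p) (Cfsg.Geo.subgroupNormalizer R ⊓ suGL 4 K p) := by
  obtain ⟨F, alg, σ, t, a, b, e, e', S⟩ := exists_setup (q := p) hK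
  letI := alg
  haveI := Fintype.ofFinite F
  haveI : Fact (Nat.card F).Prime := ⟨by rw [S.cardF]; exact hp⟩
  exact symplectic_maximal_aux S (Nat.odd_iff.2 (by omega)) hRS hirr hle hR64 hZ4

end CfsgLib.Maximal.SUFour.SymplSU
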