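import Mathlib
import Cfsg.Agent.Lib.Maximal.SUFour.Basic
import Cfsg.Agent.Lib.Maximal.SUFour.KleinSix
import Cfsg.Agent.Lib.OrthMax.Apps
import Cfsg.Agent.Lib.OrthMax.NondegFour
import Cfsg.Agent.Lib.Geometry.AutStd

/-!
Stabilisers of pairs of complementary totally isotropic lines of `SU₄(q)` are maximal for `q ≥ 4`: under the Klein
correspondence they fix a hyperbolic plane.
-/

set_option autoImplicit false
set_option linter.unusedSectionVars false
set_option linter.unusedSimpArgs false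

namespace CfsgLib.Maximal.SUFour.TSPair

open scoped Matrix
open Matrix
open CfsgLib.UnMono (Ctx)
open CfsgLib.Maximal
open CfsgLib.Classical.Klein CfsgLib.Classical
open CfsgLib.Geometry (polarPerp matQuad minusMat)
open CfsgLib.Maximal.SUFour.Klein6

section plucker

variable {K : Type*} [Field K]

/-- The coordinates of a line. -/
def plk (u v : Fin 4 → K) : Matrix (Fin 4) (Fin 4) K := Matrix.vecMulVec u v - Matrix.vecMulVec v u

lemma plk_apply (u v : Fin 4 → K) (i j : Fin 4) : plk u v i j = u i * v j - v i * u j := by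
  simp [plk, Matrix.vecMulVec_apply]

lemma plk_conj (g : Matrix (Fin 4) (Fin 4) K) (u v : Fin 4 → K) : g * plk u v * gᵀ = plk (g *ᵥ u) (g *ᵥ v) := by
  simp only [plk, Matrix.mul_sub, Matrix.sub_mul, Matrix.mul_vecMulVec, Matrix.vecMulVec_mul, Matrix.vecMul_transpose]

lemma plk_mulVec (u v z : Fin 4 → K) : plk u v *ᵥ z = (v ⬝ᵥ z) • u - (u ⬝ᵥ z) • v := by
  simp only [plk, Matrix.sub_mulVec, Matrix.vecMulVec_mulVec]
  funext i
  simp [mul_comm]

lemma pf_plk (u v : Fin 4 → K) (c : K) : pf (c • plk u v) = 0 := by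
  simp only [pf, Matrix.smul_apply, smul_eq_mul, plk_apply]; ring

lemma plk_combine (u v : Fin 4 → K) (p q r s : K) :
    plk (p • u + q • v) (r • u + s • v) = (p * s - q * r) • plk u v := by
  ext i j
  simp only [plk_apply, Matrix.smul_apply, Pi.add_apply, Pi.smul_apply, smul_eq_mul]
  ring

/-- The line is recovered from its coordinates. -/
lemma left_mem_of_plk {u' v' u v : Fin 4 → K} (hind : u' ∉ Submodule.span K ({v'} : Set (Fin 4 → K))) {c : K}
    (h : plk u' v' = c • plk u v) : v' ∈ Submodule.span K ({u, v} : Set (Fin 4 → K)) := by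
  obtain ⟨z, hz, hzu⟩ := exists_ann _ _ hind
  have hv'z : v' ⬝ᵥ z = 0 := by rw [dotProduct_comm]; exact hz v' (Submodule.mem_span_singleton_self _)
  have h1 := congrArg (· *ᵥ z) h
  simp only [plk_mulVec, Matrix.smul_mulVec, hv'z, zero_smul, zero_sub] at h1
  rw [dotProduct_comm] at hzu
  rw [hzu, one_smul, neg_eq_iff_eq_neg] at h1
  rw [h1]
  exact neg_mem (Submodule.smul_mem _ _ (sub_mem (Submodule.smul_mem _ _ (Submodule.subset_span (by simp)))
    (Submodule.smul_mem _ _ (Submodule.subset_span (by simp)))))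

lemma plk_swap (u v : Fin 4 → K) : plk v u = (-1 : K) • plk u v := by
  ext i j; simp only [plk_apply, Matrix.smul_apply, smul_eq_mul]; ring

lemma plk_ne_zero {u v : Fin 4 → K} (hind : u ∉ Submodule.span K ({v} : Set (Fin 4 → K))) (hv : v ≠ 0) :
    plk u v ≠ 0 := fun h => hv (by
  obtain ⟨z, hz, hzu⟩ := exists_ann _ _ hind
  have hv'z : v ⬝ᵥ z = 0 := by rw [dotProduct_comm]; exact hz v (Submodule.mem_span_singleton_self _)
  have h1 := congrArg (· *ᵥ z) h
  simp only [plk_mulVec, hv'z, zero_smul, zero_sub, Matrix.zero_mulVec] at h1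
  rw [dotProduct_comm] at hzu
  rwa [hzu, one_smul, neg_eq_zero] at h1)

lemma plk_of_mem {u' v' u v : Fin 4 → K} (hu : u' ∈ Submodule.span K ({u, v} : Set (Fin 4 → K)))
    (hv : v' ∈ Submodule.span K ({u, v} : Set (Fin 4 → K))) : ∃ c : K, plk u' v' = c • plk u v := by
  obtain ⟨p, q, rfl⟩ := Submodule.mem_span_pair.1 hu
  obtain ⟨r, s, rfl⟩ := Submodule.mem_span_pair.1 hv
  exact ⟨_, plk_combine u v p q r s⟩

end plucker

section frames

variable {K : Type*} [Field K] [Fintype K] {q : ℕ} {τ : K ≃+* K} (C : Ctx 4 q τ)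
include C

local notation "VV" => (Fin 4 → K)
local notation "hh" => Cfsg.hermForm 4 K q

/-- Two hyperbolic pairs `b 1, b 0` and `b 3, b 2`. -/
def IsHyp4 (q : ℕ) (b : Fin 4 → Fin 4 → K) : Prop :=
  Cfsg.hermForm 4 K q (b 0) (b 0) = 0 ∧ Cfsg.hermForm 4 K q (b 1) (b 1) = 0 ∧
  Cfsg.hermForm 4 K q (b 2) (b 2) = 0 ∧ Cfsg.hermForm 4 K q (b 3) (b 3) = 0 ∧
  Cfsg.hermForm 4 K q (b 1) (b 0) = 1 ∧ Cfsg.hermForm 4 K q (b 3) (b 2) = 1 ∧
  Cfsg.hermForm 4 K q (b 0) (b 2) = 0 ∧ Cfsg.hermForm 4 K q (b 0) (b 3) = 0 ∧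
  Cfsg.hermForm 4 K q (b 1) (b 2) = 0 ∧ Cfsg.hermForm 4 K q (b 1) (b 3) = 0

lemma hyp4_gram {b b' : Fin 4 → VV} (hb : IsHyp4 q b) (hb' : IsHyp4 q b') (i j : Fin 4) :
    hh (b' i) (b' j) = hh (b i) (b j) := by
  obtain ⟨a0, a1, a2, a3, a10, a32, a02, a03, a12, a13⟩ := hb
  obtain ⟨c0, c1, c2, c3, c10, c32, c02, c03, c12, c13⟩ := hb'
  fin_cases i <;> fin_cases j <;>
    simp [a0, a1, a2, a3, a10, a32, a02, a03, a12, a13, c0, c1, c2, c3, c10, c32, c02, c03, c12, c13,
      hh_flip_one C a10, hh_flip_one C a32, hh_flip C a02, hh_flip C a03, hh_flip C a12, hh_flip C a13,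
      hh_flip_one C c10, hh_flip_one C c32, hh_flip C c02, hh_flip C c03, hh_flip C c12, hh_flip C c13]

lemma hyp4_unit {b : Fin 4 → VV} (hb : IsHyp4 q b) : IsUnit (colMat b).det := by
  obtain ⟨a0, a1, a2, a3, a10, a32, a02, a03, a12, a13⟩ := hb
  rw [isUnit_iff_ne_zero]
  intro h0
  obtain ⟨a, ha0, ha⟩ := Matrix.exists_mulVec_eq_zero_iff.2 h0
  rw [colMat_apply, Fin.sum_univ_four] at ha
  apply ha0
  have k0 := congrArg (fun v => hh v (b 1)) ha
  have k1 := congrArg (fun v => hh v (b 0)) ha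
  have k2 := congrArg (fun v => hh v (b 3)) ha
  have k3 := congrArg (fun v => hh v (b 2)) ha
  simp only [hh_add_left C, hh_smul_left C, a0, a1, a2, a3, a10, a32, a02, a03, a12, a13, hh_flip_one C a10,
    hh_flip_one C a32, hh_flip C a02, hh_flip C a03, hh_flip C a12, hh_flip C a13, un_zero_left C.form, mul_zero,
    mul_one, add_zero, zero_add] at k0 k1 k2 k3
  funext i
  fin_cases i
  exacts [k0, k1, k2, k3]

/-- A frame adapted to a pair of complementary totally isotropic lines. -/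
lemma exists_hyp4 {D : Fin 2 → Submodule K VV} (hD : Cfsg.Geo.IsMDecomposition 2 D)
    (hts : ∀ i, Cfsg.Geo.IsTotallySingularFor hh (D i)) :
    ∃ b, IsHyp4 q b ∧ D 0 = Submodule.span K {b 0, b 2} ∧ D 1 = Submodule.span K {b 1, b 3} := by
  classical
  have hsup : ∀ x : VV, x ∈ D 0 ⊔ D 1 := fun x => by
    have h : D 0 ⊔ D 1 = ⊤ := by
      rw [← hD.iSup_eq_top]
      refine le_antisymm (sup_le (le_iSup D 0) (le_iSup D 1)) (iSup_le fun i => ?_)
      fin_cases i
      · exact le_sup_left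
      · exact le_sup_right
    rw [h]; trivial
  have dual : ∀ e ∈ D 0, e ≠ 0 → ∃ f ∈ D 1, hh f e = 1 := by
    intro e he he0
    obtain ⟨y, hy⟩ := un_exists C.form e he0
    obtain ⟨p, hp, r, hr, rfl⟩ := Submodule.mem_sup.1 (hsup y)
    rw [hh_add_right C, hts 0 e he p hp, zero_add] at hy
    exact ⟨r, hr, hh_flip_one C hy⟩
  obtain ⟨e₁, he₁, he₁0⟩ := (D 0).exists_mem_ne_zero_of_ne_bot fun h => by
    have := hD.finrank_eq 0; rw [h, finrank_bot] at this; omega
  obtain ⟨f₁, hf₁, h11⟩ := dual e₁ he₁ he₁0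
  obtain ⟨z, hz, hze⟩ : ∃ z ∈ D 0, z ∉ Submodule.span K ({e₁} : Set VV) := by
    by_contra! hcon
    have := Submodule.finrank_mono (hcon : D 0 ≤ Submodule.span K ({e₁} : Set VV))
    rw [hD.finrank_eq 0, finrank_span_singleton he₁0] at this
    omega
  set e₂ := z - hh z f₁ • e₁ with he₂d
  have he₂ : e₂ ∈ D 0 := (D 0).sub_mem hz ((D 0).smul_mem _ he₁)
  have he₂0 : e₂ ≠ 0 := fun h => hze (by
    rw [sub_eq_zero.1 h]; exact Submodule.smul_mem _ _ (Submodule.mem_span_singleton_self _))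
  have h21 : hh f₁ e₂ = 0 := hh_flip C (by
    rw [he₂d, hh_sub_left C, hh_smul_left C, hh_flip_one C h11, mul_one, sub_self])
  obtain ⟨f, hf, hf2⟩ := dual e₂ he₂ he₂0
  set f₂ := f - hh f e₁ • f₁ with hf₂d
  have hf₂ : f₂ ∈ D 1 := (D 1).sub_mem hf ((D 1).smul_mem _ hf₁)
  have h12 : hh f₂ e₁ = 0 := by rw [hf₂d, hh_sub_left C, hh_smul_left C, h11, mul_one, sub_self]
  have h22 : hh f₂ e₂ = 1 := by rw [hf₂d, hh_sub_left C, hh_smul_left C, h21, mul_zero, sub_zero, hf2]
  have hb : IsHyp4 q ![e₁, f₁, e₂, f₂] := by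
    simp only [IsHyp4, Matrix.cons_val_zero, Matrix.cons_val_one, Matrix.cons_val]
    exact ⟨hts 0 _ he₁ _ he₁, hts 1 _ hf₁ _ hf₁, hts 0 _ he₂ _ he₂, hts 1 _ hf₂ _ hf₂, h11, h22,
      hts 0 _ he₁ _ he₂, hh_flip C h12, h21, hts 1 _ hf₁ _ hf₂⟩
  have two : ∀ (i : Fin 2) (x y : VV), x ∈ D i → y ∈ D i → LinearIndependent K ![x, y] →
      D i = Submodule.span K {x, y} := by
    intro i x y hx hy hli
    refine (Submodule.eq_of_le_of_finrank_le (Submodule.span_le.2 (by
      rintro _ (rfl | rfl) <;> assumption)) ?_).symm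
    rw [hD.finrank_eq i, ← Matrix.range_cons_cons_empty, finrank_span_eq_card hli, Fintype.card_fin]
  refine ⟨![e₁, f₁, e₂, f₂], hb, ?_, ?_⟩
  · refine two 0 _ _ he₁ he₂ (LinearIndependent.pair_iff.2 fun p r h => ?_)
    have k1 := congrArg (fun v => hh v f₁) h
    have k2 := congrArg (fun v => hh v f₂) h
    simp [hh_add_left C, hh_smul_left C, hh_flip_one C h11, hh_flip C h21, hh_flip C h12, hh_flip_one C h22,
      un_zero_left C.form] at k1 k2
    exact ⟨k1, k2⟩
  · refine two 1 _ _ hf₁ hf₂ (LinearIndependent.pair_iff.2 fun p r h => ?_)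
    have k1 := congrArg (fun v => hh v e₁) h
    have k2 := congrArg (fun v => hh v e₂) h
    simp [hh_add_left C, hh_smul_left C, h11, h21, h12, h22, un_zero_left C.form] at k1 k2
    exact ⟨k1, k2⟩

end frames

section main

variable {F K : Type*} [Field F] [Field K] [Algebra F K] [Finite F] [Fintype K] {σ : K →+* K} {t : K} {a b : F}
  {e e' : K} {q : ℕ} (S : Setup σ t a b e e' q) {τ : K ≃+* K} (C : Ctx 4 q τ)
include S C

local notation "VV" => (Fin 4 → K)
local notation "V6" => ((Fin 2 ⊕ Fin 2) ⊕ Fin 2 → F)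

lemma sigma_eq (x : K) : σ x = τ x := by rw [S.frob.pow, C.pow]

/-- Coordinates of the lines of the decomposition fixed by the involution. -/
lemma exists_coords {D : Fin 2 → Submodule K VV} (hD : Cfsg.Geo.IsMDecomposition 2 D)
    (hts : ∀ i, Cfsg.Geo.IsTotallySingularFor (Cfsg.hermForm 4 K q) (D i)) :
    ∃ (u v : Fin 2 → VV) (c : Fin 2 → K), (∀ i, c i ≠ 0 ∧ D i = Submodule.span K {u i, v i} ∧
      IsFixedAlt σ (c i • plk (u i) (v i))) ∧ pf (c 0 • plk (u 0) (v 0) + c 1 • plk (u 1) (v 1)) ≠ 0 := by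
  classical
  have hn := S.pair
  obtain ⟨b', hb', hD0, hD1⟩ := exists_hyp4 C hD hts
  have hρ0 : 1 + e * σ e' ≠ 0 := hn.cne
  set ρ := 1 + e' * σ e with hρd
  have hρ : ρ ≠ 0 := fun h => hρ0 (by
    have := congrArg σ h
    rw [hρd, map_add, map_one, map_mul, S.frob.invol, map_zero] at this
    linear_combination this)
  let bs : Fin 4 → VV := ![![1, e, 0, 0], ρ⁻¹ • ![1, e', 0, 0], ![0, 0, 1, e], ρ⁻¹ • ![0, 0, 1, e']]
  have hbs : IsHyp4 q bs := by
    have h1 := hn.ne1
    have h2 := hn.ne2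
    rw [sigma_eq S C] at h1 h2 hρd
    simp only [IsHyp4, bs, Matrix.cons_val_zero, Matrix.cons_val_one, Matrix.cons_val, hh_smul_left C, hh_smul_right C,
      C.hh_eq, Fin.sum_univ_four, map_zero, map_one, mul_zero, zero_mul, add_zero, zero_add, mul_one, h1, h2,
      add_neg_cancel, ← hρd, inv_mul_cancel₀ hρ, and_self]
  obtain ⟨g, hg, hgl, x, hx, hgi, hgj⟩ := exists_su_frames C (hyp4_unit C hbs) (hyp4_gram C hbs hb')
    (i := 0) (j := 1) (by decide) hbs.1 hbs.2.1 (fun l h0 h1 => by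
      obtain ⟨-, -, -, -, -, -, a02, a03, a12, a13⟩ := hbs
      fin_cases l <;> simp_all)
  obtain ⟨G, hG⟩ : ∃ G : Cfsg.SU 4 K q, jSU K q G = g := by
    rw [← MonoidHom.mem_range, range_jSU]; exact hg
  have hfix : ∀ z : K, z * σ z = -1 → ∃ c : K, c ≠ 0 ∧
      IsFixedAlt σ (c • plk ![1, z, 0, 0] ![0, 0, 1, z]) := by
    intro z hz
    obtain ⟨c, hc, hcσ⟩ := exists_ratio C (δ := -z ^ 2) (by
      rw [map_neg, map_pow, ← sigma_eq S C]
      linear_combination (z * σ z - 1) * hz)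
    rw [← sigma_eq S C] at hcσ
    refine ⟨c, hc, ⟨fun i => by simp [plk_apply]; ring_nf; simp, fun i j => by simp [plk_apply]; ring⟩, ?_, ?_, ?_⟩
    · simp [plk_apply]
    · simp [plk_apply]; linear_combination hcσ
    · simp [plk_apply]; linear_combination σ z * hcσ - z * c * hz
  obtain ⟨c₀, hc₀, hf₀⟩ := hfix e hn.ne1
  obtain ⟨c₁, hc₁, hf₁⟩ := hfix e' hn.ne2
  refine ⟨![Units.val g *ᵥ ![1, e, 0, 0], Units.val g *ᵥ ![1, e', 0, 0]],
    ![Units.val g *ᵥ ![0, 0, 1, e], Units.val g *ᵥ ![0, 0, 1, e']], ![c₀, c₁], fun i => ?_, ?_⟩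
  · have hconj : ∀ (c : K) (u v : VV), IsFixedAlt σ (c • plk u v) →
        IsFixedAlt σ (c • plk (Units.val g *ᵥ u) (Units.val g *ᵥ v)) := fun c u v h => by
      have h1 := unitEmb_stable S.frob (by have := two_le S; omega) G h
      rwa [Matrix.mul_smul, Matrix.smul_mul, plk_conj, ← jSU_val, hG] at h1
    have k0 : Units.val g *ᵥ ![1, e, 0, 0] = x • b' 0 := hgi
    have k2 : Units.val g *ᵥ ![0, 0, 1, e] = b' 2 := hgl 2 (by decide) (by decide)
    have k1 : Units.val g *ᵥ ![1, e', 0, 0] = (ρ * (τ x)⁻¹) • b' 1 := by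
      have h := hgj
      simp only [bs, Matrix.cons_val_one, Matrix.cons_val_zero, Matrix.mulVec_smul] at h
      rw [inv_smul_eq_iff₀ hρ] at h
      rw [h, smul_smul]
    have k3 : Units.val g *ᵥ ![0, 0, 1, e'] = ρ • b' 3 := by
      have h := hgl 3 (by decide) (by decide)
      simp only [bs, Matrix.cons_val, Matrix.mulVec_smul] at h
      rwa [inv_smul_eq_iff₀ hρ] at h
    have span2 : ∀ (p r : K) (y z : VV), p ≠ 0 → r ≠ 0 →
        Submodule.span K ({y, z} : Set VV) = Submodule.span K ({p • y, r • z} : Set VV) := fun p r y z hp hr => by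
      rw [Submodule.span_insert, Submodule.span_insert, Submodule.span_singleton_smul_eq (Ne.isUnit hp),
        Submodule.span_singleton_smul_eq (Ne.isUnit hr)]
    fin_cases i
    · refine ⟨hc₀, ?_, hconj _ _ _ hf₀⟩
      show D 0 = Submodule.span K {Units.val g *ᵥ _, Units.val g *ᵥ _}
      rw [k0, k2, hD0, span2 x 1 (b' 0) (b' 2) hx one_ne_zero, one_smul]
    · refine ⟨hc₁, ?_, hconj _ _ _ hf₁⟩
      show D 1 = Submodule.span K {Units.val g *ᵥ _, Units.val g *ᵥ _}
      rw [k1, k3, hD1, ← span2 _ _ (b' 1) (b' 3) (mul_ne_zero hρ (inv_ne_zero (tau_ne_zero C hx))) hρ]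
  · show pf (c₀ • plk (Units.val g *ᵥ _) (Units.val g *ᵥ _) + c₁ • plk (Units.val g *ᵥ _) (Units.val g *ᵥ _)) ≠ 0
    have hlin : ∀ (g X Y : Matrix (Fin 4) (Fin 4) K) (c d : K),
        c • (g * X * gᵀ) + d • (g * Y * gᵀ) = g * (c • X + d • Y) * gᵀ := fun g X Y c d => by
      simp only [Matrix.mul_add, Matrix.add_mul, Matrix.mul_smul, Matrix.smul_mul]
    rw [← plk_conj, ← plk_conj, hlin, pf_conj _ ?_, ← hG, jSU_val, G.1.2, one_mul]
    · have e1 : pf (c₀ • plk ![1, e, 0, 0] ![0, 0, 1, e] + c₁ • plk ![1, e', 0, 0] ![0, 0, 1, e']) =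
          -(c₀ * c₁ * (e' - e) ^ 2) := by
        simp [pf, plk_apply]; ring
      rw [e1]
      exact neg_ne_zero.2 (mul_ne_zero (mul_ne_zero hc₀ hc₁) (pow_ne_zero _ hn.ne))
    · exact ⟨fun i => by simp [hf₀.1.1 i, hf₁.1.1 i], fun i j => by
        simp only [Matrix.add_apply, hf₀.1.2 i j, hf₁.1.2 i j]; ring⟩

omit C in
/-- Proportional fixed matrices have a ratio in the small field. -/
lemma ratio_mem {X : Matrix (Fin 4) (Fin 4) K} (hX : IsFixedAlt σ X) (hX0 : X ≠ 0) {k : K}
    (hkX : IsFixedAlt σ (k • X)) : ∃ c : F, algebraMap F K c = k := by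
  refine S.ext.fix k ?_
  by_contra hk
  obtain ⟨halt, f1, f2, f3⟩ := hX
  obtain ⟨-, g1, g2, g3⟩ := hkX
  simp only [Matrix.smul_apply, smul_eq_mul, map_mul, f1, f2, f3] at g1 g2 g3
  have h1 : X 2 3 = 0 := (mul_eq_zero.1 (show (σ k - k) * X 2 3 = 0 by linear_combination g1)).resolve_left
    (sub_ne_zero.2 hk)
  have h2 : X 1 3 = 0 := (mul_eq_zero.1 (show (σ k - k) * X 1 3 = 0 by linear_combination -g2)).resolve_left
    (sub_ne_zero.2 hk)
  have h3 : X 1 2 = 0 := (mul_eq_zero.1 (show (σ k - k) * X 1 2 = 0 by linear_combination g3)).resolve_left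
    (sub_ne_zero.2 hk)
  refine hX0 ?_
  rw [eq_alt6 halt, h1, h2, h3, σ.injective (show σ (X 0 1) = σ 0 by rw [f1, h1, map_zero]),
    σ.injective (show σ (X 0 2) = σ 0 by rw [f2, h2, map_zero, neg_zero]),
    σ.injective (show σ (X 0 3) = σ 0 by rw [f3, h3, map_zero])]
  ext i j
  fin_cases i <;> fin_cases j <;> simp [alt6]

lemma maximal_aux (hq : 4 ≤ q) {D : Fin 2 → Submodule K VV} (hD : Cfsg.Geo.IsMDecomposition 2 D)
    (hts : ∀ i, Cfsg.Geo.IsTotallySingularFor (Cfsg.hermForm 4 K q) (D i)) :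
    Cfsg.Geo.IsMaximalIn (suGL 4 K q) (Cfsg.Geo.decompositionStabilizer D ⊓ suGL 4 K q) := by
  classical
  obtain ⟨u, v, c, hc, hpf⟩ := exists_coords S C hD hts
  choose hc0 hDi hfix using hc
  choose x hx using fun i => unitEmb_surjective S.ext S.pair (hfix i)
  set Q := matQuad (minusMat 2 F a b) with hQdef
  have hQn := nondeg S
  have hemb : ∀ y : V6, algebraMap F K (Q y) = pf (unitEmb S.ext e e' y) := fun y => (pf_unitEmb S.ext S.pair y).symm
  have hQx : ∀ i, Q (x i) = 0 := fun i => (algebraMap F K).injective (by rw [hemb, hx, pf_plk, map_zero])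
  have hpol : QuadraticMap.polar Q (x 0) (x 1) ≠ 0 := by
    intro h
    apply hpf
    rw [← hx, ← hx, ← map_add, ← hemb, CfsgLib.Geometry.map_add', hQx, hQx, h]
    simp
  have hpol' : QuadraticMap.polar Q (x 1) (x 0) ≠ 0 := by rwa [QuadraticMap.polar_comm]
  set W := Submodule.span F ({x 0, x 1} : Set V6) with hW
  have hxW : ∀ i, x i ∈ W := fun i => by fin_cases i <;> exact Submodule.subset_span (by simp)
  have hli : LinearIndependent F ![x 0, x 1] := LinearIndependent.pair_iff.2 fun p r h => by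
    have k1 := congrArg (fun y => QuadraticMap.polar Q y (x 1)) h
    have k2 := congrArg (fun y => QuadraticMap.polar Q y (x 0)) h
    simp [QuadraticMap.polar_add_left, CfsgLib.Geometry.polar_smul_left', CfsgLib.Geometry.polar_self', hQx,
      hpol, hpol'] at k1 k2
    exact ⟨k1, k2⟩
  have hWd : Module.finrank F W = 2 := by
    rw [hW, ← Matrix.range_cons_cons_empty, finrank_span_eq_card hli, Fintype.card_fin]
  have hV : Module.finrank F V6 = 6 := by simp
  have hWnd : W ⊓ polarPerp Q W = ⊥ := by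
    refine (Submodule.eq_bot_iff _).2 fun y hy => ?_
    obtain ⟨p, r, rfl⟩ := Submodule.mem_span_pair.1 hy.1
    have k1 := CfsgLib.Geometry.mem_polarPerp.1 hy.2 (x 1) (hxW 1)
    have k2 := CfsgLib.Geometry.mem_polarPerp.1 hy.2 (x 0) (hxW 0)
    simp [QuadraticMap.polar_add_right, CfsgLib.Geometry.polar_smul_right', CfsgLib.Geometry.polar_self', hQx,
      hpol, hpol'] at k1 k2
    simp [k1, k2]
  set U := polarPerp Q W
  have hUd : Module.finrank F U = 4 := by
    have h : Module.finrank F U + Module.finrank F W = Module.finrank F V6 :=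
      CfsgLib.Geometry.finrank_polarPerp hQn W
    omega
  have hUW : polarPerp Q U = W := CfsgLib.OrthMax.polarPerp_polarPerp hQn W
  have hU : U ⊓ polarPerp Q U = ⊥ := CfsgLib.Geometry.inf_polarPerp_perp hQn hWnd
  refine maximal_of_omega S (T := Cfsg.Geo.subspaceStabilizer W) (fun G => ?_)
    (CfsgLib.OrthMax.nondeg_maximal_of_stab hQn (by simp) (fun h => ?_) (fun h => ?_) (U := U) (Or.inr rfl)
      fun M hle hst hne => ?_)
  rotate_left
  · rw [h, finrank_bot] at hWd; omega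
  · rw [h, finrank_top, hV] at hWd; omega
  · have hswap : ∀ g ∈ CfsgLib.Geometry.orth Q, ∀ _ : ∀ y ∈ U, g y ∈ polarPerp Q U, False := by
      intro g _ hg
      have h1 := Submodule.finrank_mono (show U.map g.toLinearMap ≤ polarPerp Q U by
        rintro _ ⟨y, hy, rfl⟩; exact hg y hy)
      rw [LinearEquiv.finrank_map_eq, hUW] at h1
      omega
    have hexc : ¬ (Nat.card F ≤ 3 ∧ Module.finrank F (polarPerp Q U) = 2 ∧
        ∃ z ∈ polarPerp Q U, z ≠ 0 ∧ Q z = 0) := fun h => by rw [S.cardF] at h; omega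
    by_cases h2 : (2 : F) = 0
    · refine CfsgLib.OrthMax.nondeg_stab_max_four h2 hQn (by omega) hU hUd (fun X hXU hX hX2 => ?_) hswap hexc hle hst hne
      have hx0 : x 0 ∉ X := fun hmem => by
        have := (Submodule.mem_bot F).1 (hWnd.le ⟨hxW 0, hXU hmem⟩)
        exact hli.ne_zero 0 this
      have h3 := CfsgLib.Geometry.singular_finrank_le_minus 2 S.aniso (X ⊔ Submodule.span F {x 0}) (by
        intro w hw
        obtain ⟨y, hy, z, hz, rfl⟩ := Submodule.mem_sup.1 hw
        obtain ⟨p, rfl⟩ := Submodule.mem_span_singleton.1 hz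
        rw [CfsgLib.Geometry.map_add', CfsgLib.Geometry.map_smul', CfsgLib.Geometry.polar_smul_right', hX y hy, hQx,
          QuadraticMap.polar_comm, CfsgLib.Geometry.mem_polarPerp.1 (hXU hy) (x 0) (hxW 0)]
        simp)
      have h4 := Submodule.finrank_lt_finrank_of_lt (show X < X ⊔ Submodule.span F {x 0} from
        lt_of_le_of_ne le_sup_left fun h => hx0 (h ▸ Submodule.mem_sup_right (Submodule.mem_span_singleton_self _)))
      omega
    · exact CfsgLib.OrthMax.nondeg_stab_max_odd h2 hQn (by omega) hU (by omega) hswap hexc hle hst hne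
  -- the correspondence
  set φ := (toO6 S G : V6 ≃ₗ[F] V6)
  have hval : Units.val (jSU K q G) = G.1.1 := rfl
  have himg : ∀ i, unitEmb S.ext e e' (φ (x i)) = c i • plk (G.1.1 *ᵥ u i) (G.1.1 *ᵥ v i) := fun i => by
    rw [emb_toO6, hx, Matrix.mul_smul, Matrix.smul_mul, plk_conj]
  have huv : ∀ i, u i ∈ D i ∧ v i ∈ D i := fun i => by
    rw [hDi]; exact ⟨Submodule.subset_span (by simp), Submodule.subset_span (by simp)⟩
  have hind : ∀ i, u i ∉ Submodule.span K ({v i} : Set VV) ∧ v i ∉ Submodule.span K ({u i} : Set VV) := by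
    intro i
    constructor <;> intro h
    · have h1 := Submodule.finrank_mono (show D i ≤ Submodule.span K ({v i} : Set VV) by
        rw [hDi, Submodule.span_le]; rintro _ (rfl | rfl)
        exacts [h, Submodule.mem_span_singleton_self _])
      have h2 := finrank_span_le_card (R := K) ({v i} : Set VV)
      simp [hD.finrank_eq] at h1 h2
      omega
    · have h1 := Submodule.finrank_mono (show D i ≤ Submodule.span K ({u i} : Set VV) by
        rw [hDi, Submodule.span_le]; rintro _ (rfl | rfl)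
        exacts [Submodule.mem_span_singleton_self _, h])
      have h2 := finrank_span_le_card (R := K) ({u i} : Set VV)
      simp [hD.finrank_eq] at h1 h2
      omega
  have hgi : Function.Injective (Matrix.toLin' (Units.val (jSU K q G))) := fun y z h => mulVec_inj (jSU K q G) (by
    simpa [Matrix.toLin'_apply] using h)
  constructor
  · rintro ⟨π, hπ⟩
    have hle : ∀ y ∈ W, φ y ∈ W := by
      have hgen : ∀ i, φ (x i) ∈ W := fun i => by
        have hm : ∀ z ∈ D i, G.1.1 *ᵥ z ∈ Submodule.span K ({u (π i), v (π i)} : Set VV) := fun z hz => by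
          rw [← hDi, ← hπ i, hval]; exact ⟨z, hz, by rw [Matrix.toLin'_apply]⟩
        obtain ⟨d, hd⟩ := plk_of_mem (hm _ (huv i).1) (hm _ (huv i).2)
        set k := c i * d / c (π i) with hk
        have e1 : unitEmb S.ext e e' (φ (x i)) = k • (c (π i) • plk (u (π i)) (v (π i))) := by
          rw [himg, hd, smul_smul, smul_smul, hk, div_mul_cancel₀ _ (hc0 _)]
        obtain ⟨k', hk'⟩ := ratio_mem S (hfix (π i)) (smul_ne_zero (hc0 _) (plk_ne_zero (hind _).1
          (fun h0 => (hind (π i)).2 (h0 ▸ zero_mem _)))) (e1 ▸ isFixedAlt_unitEmb S.ext e e' _)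
        have : φ (x i) = k' • x (π i) := emb_injective S (by
          rw [map_smul, hx, e1, ← hk', algebraMap_smul])
        rw [this]
        exact W.smul_mem _ (hxW _)
      intro y hy
      obtain ⟨p, r, rfl⟩ := Submodule.mem_span_pair.1 hy
      rw [map_add, map_smul, map_smul]
      exact W.add_mem (W.smul_mem _ (hgen 0)) (W.smul_mem _ (hgen 1))
    have hmap : W.map φ.toLinearMap = W := Submodule.eq_of_le_of_finrank_eq (by
      rintro _ ⟨y, hy, rfl⟩; exact hle y hy) (LinearEquiv.finrank_map_eq φ W)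
    refine (mem_subspaceStabilizer_iff W _).2 fun y => ?_
    rw [← Matrix.toLin'_apply, toGL6_toLin]
    refine ⟨fun hy => hle y hy, fun hy => ?_⟩
    obtain ⟨z, hz, hzy⟩ := hmap.ge hy
    rwa [← φ.injective hzy]
  · intro hT
    have hj : ∀ i, ∃ j, (D i).map (Matrix.toLin' (Units.val (jSU K q G))) = D j := by
      intro i
      have h1 := ((mem_subspaceStabilizer_iff W _).1 hT (x i)).1 (hxW i)
      rw [← Matrix.toLin'_apply, toGL6_toLin] at h1
      obtain ⟨p, r, hpr⟩ := Submodule.mem_span_pair.1 h1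
      change p • x 0 + r • x 1 = φ (x i) at hpr
      have h2 : Q (φ (x i)) = Q (x i) := CfsgLib.Geometry.mem_orth.1 (toO6 S G).2 (x i)
      rw [hQx, ← hpr, CfsgLib.Geometry.map_add', CfsgLib.Geometry.map_smul', CfsgLib.Geometry.map_smul', hQx, hQx,
        CfsgLib.Geometry.polar_smul_left', CfsgLib.Geometry.polar_smul_right', mul_zero, mul_zero, zero_add,
        zero_add, mul_eq_zero, mul_eq_zero] at h2
      obtain ⟨j, s, hs⟩ : ∃ j s, φ (x i) = s • x j := by
        rcases h2 with h | h | h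
        · refine ⟨1, r, ?_⟩
          subst h
          simpa using hpr.symm
        · refine ⟨0, p, ?_⟩
          subst h
          simpa using hpr.symm
        · exact absurd h hpol
      refine ⟨j, Submodule.eq_of_le_of_finrank_eq ?_ ((Submodule.equivMapOfInjective _ hgi _).finrank_eq.symm.trans
        ((hD.finrank_eq i).trans (hD.finrank_eq j).symm))⟩
      have e1 : plk (G.1.1 *ᵥ u i) (G.1.1 *ᵥ v i) = ((c i)⁻¹ * (algebraMap F K s * c j)) • plk (u j) (v j) := by
        have := himg i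
        rw [hs, map_smul, hx, ← algebraMap_smul K s, smul_smul] at this
        rw [← smul_smul, this, inv_smul_smul₀ (hc0 i)]
      have hG : ∀ y z : VV, y ∉ Submodule.span K ({z} : Set VV) →
          G.1.1 *ᵥ y ∉ Submodule.span K ({G.1.1 *ᵥ z} : Set VV) := fun y z hyz hmem => by
        obtain ⟨s', hs'⟩ := Submodule.mem_span_singleton.1 hmem
        refine hyz (Submodule.mem_span_singleton.2 ⟨s', hgi ?_⟩)
        rw [Matrix.toLin'_apply, Matrix.toLin'_apply, Matrix.mulVec_smul, hval, hs']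
      have hv' := left_mem_of_plk (hG _ _ (hind i).1) e1
      have hu' := left_mem_of_plk (u := u j) (v := v j) (hG _ _ (hind i).2) (c := -1 * ((c i)⁻¹ * (algebraMap F K s * c j))) (by
        rw [plk_swap (G.1.1 *ᵥ u i), e1, smul_smul])
      rw [hDi i, Submodule.map_span, Submodule.span_le, hDi j]
      rintro _ ⟨z, (rfl | rfl), rfl⟩ <;> rw [Matrix.toLin'_apply, hval]
      exacts [hu', hv']
    choose π hπ using hj
    have hπi : Function.Injective π := fun i k h => by
      by_contra hne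
      have h3 := hD.indep.pairwiseDisjoint hne
      simp only [Function.onFun, Submodule.map_injective_of_injective hgi ((hπ i).trans (h ▸ (hπ k).symm)),
        disjoint_self] at h3
      have := hD.finrank_eq k
      rw [h3, finrank_bot] at this
      omega
    exact ⟨Equiv.ofBijective π (Finite.injective_iff_bijective.1 hπi), hπ⟩

end main

/-- Stabilisers of pairs of complementary totally isotropic lines are maximal. -/
theorem pair_maximal {K : Type*} [Field K] [Fintype K] {q : ℕ} (hK : Fintype.card K = q ^ 2) (hq : 4 ≤ q)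
    {D : Fin 2 → Submodule K (Fin 4 → K)} (hD : Cfsg.Geo.IsMDecomposition 2 D)
    (hts : ∀ i, Cfsg.Geo.IsTotallySingularFor (Cfsg.hermForm 4 K q) (D i)) :
    Cfsg.Geo.IsMaximalIn (suGL 4 K q) (Cfsg.Geo.decompositionStabilizer D ⊓ suGL 4 K q) := by
  obtain ⟨F, alg, σ, t, a, b, e, e', S⟩ := exists_setup (q := q) hK
  letI := alg
  obtain ⟨τ, C⟩ := CfsgLib.UnMono.exists_ctx hK 4
  exact maximal_aux S C hq hD hts

end CfsgLib.Maximal.SUFour.TSPair
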